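import Cfsg.Agent.H764.Center

/-!
# The centre of a `p`-group with an extraspecial subgroup of index `p`, end (helper764)

If `O_p(F) = 1` then `Z(S) = Z(Q)`.
-/

set_option autoImplicit false

namespace Cfsg.Agent.H764

open Cfsg Cfsg.FusionSystem Cfsg.Agent.H802

variable {Ω : Type*} [Group Ω] {S : Subgroup Ω} {p : ℕ} [hp : Fact p.Prime] [Finite S]

theorem good_unique {F : FusionSystem S} {Z : Subgroup Ω} (hS : IsPGroup p S)
    (hF : F.IsSaturated p) (hZp : ∀ z ∈ Z, z ^ p = 1) (hZS : Z ≤ S)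
    {β β' : MulAut S} (hβ : β ∈ F.autGroup S) (hβ' : β' ∈ F.autGroup S)
    (h1 : ∀ z : S, (z : Ω) ∈ Z → β z = z⁻¹) (h1' : ∀ z : S, (z : Ω) ∈ Z → β' z = z⁻¹)
    (h2 : ∀ c : S, (c : Ω) ∈ centralizerIn S S → ((β c * c⁻¹ : S) : Ω) ∈ Z)
    (h2' : ∀ c : S, (c : Ω) ∈ centralizerIn S S → ((β' c * c⁻¹ : S) : Ω) ∈ Z) :
    ∀ c : S, (c : Ω) ∈ centralizerIn S S → β c = β' c := by
  have hβi : ∀ z : S, (z : Ω) ∈ Z → β⁻¹ z = z⁻¹ := by
    intro z hz
    apply β.injective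
    rw [MulAut.apply_inv_self, h1 z⁻¹ (Z.inv_mem hz), inv_inv]
  have key : ∀ c : S, (c : Ω) ∈ centralizerIn S S → ((β⁻¹ * β') ^ p ^ 1) c = c := by
    intro c hc
    have hw : ∃ w : S, (w : Ω) ∈ Z ∧ (β⁻¹ * β') c = c * w := by
      have e1 : β c * c⁻¹ * c = β c := by group
      have e2 : β' c * c⁻¹ * c = β' c := by group
      have e3 : β⁻¹ c = (β c * c⁻¹) * c := by
        have e4 : β⁻¹ (β c * c⁻¹) = (β c * c⁻¹)⁻¹ := hβi _ (h2 c hc)
        rw [map_mul, MulAut.inv_apply_self, map_inv] at e4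
        have e5 : β⁻¹ c = (β c * c⁻¹) * c := by
          have e6 : (β⁻¹ c)⁻¹ = c⁻¹ * (β c * c⁻¹)⁻¹ := by
            rw [← e4]; group
          calc β⁻¹ c = ((β⁻¹ c)⁻¹)⁻¹ := by rw [inv_inv]
            _ = (β c * c⁻¹) * c := by rw [e6]; group
        exact e5
      refine ⟨c⁻¹ * ((β' c * c⁻¹)⁻¹ * (β c * c⁻¹)) * c, ?_, ?_⟩
      · have hm : ((β' c * c⁻¹)⁻¹ * (β c * c⁻¹) : S) * c = c * ((β' c * c⁻¹)⁻¹ * (β c * c⁻¹)) := by
          apply Subtype.ext
          exact (Subgroup.mem_centralizer_iff.1 hc.2 _ ((β' c * c⁻¹)⁻¹ * (β c * c⁻¹) : S).2)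
        rw [mul_assoc, hm, inv_mul_cancel_left]
        exact Z.mul_mem (Z.inv_mem (h2' c hc)) (h2 c hc)
      · rw [MulAut.mul_apply, ← e2, map_mul, hβi _ (h2' c hc), e3]
        group
    obtain ⟨w, hw, hwe⟩ := hw
    have hwf : (β⁻¹ * β') w = w := by
      rw [MulAut.mul_apply, h1' w hw, map_inv, hβi w hw, inv_inv]
    have hn : ∀ n : ℕ, ((β⁻¹ * β') ^ n) c = c * w ^ n := by
      intro n
      induction n with
      | zero => simp
      | succ n ih =>
        rw [pow_succ', MulAut.mul_apply, ih, map_mul, hwe, map_pow, hwf, pow_succ', mul_assoc]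
    rw [hn, pow_one]
    have : w ^ p = 1 := Subtype.ext (by simpa using hZp w hw)
    rw [this, mul_one]
  intro c hc
  have h3 := agree_of_pow hS hF (mul_mem (inv_mem hβ) hβ') key c hc
  have h4 := congrArg β h3
  rw [MulAut.mul_apply, MulAut.apply_inv_self] at h4
  exact h4.symm

/-- **The centre of `S`.** If `S` has an extraspecial subgroup `Q` of index `p`, `p` odd, and `F` is saturated
over `S` with `O_p(F) = 1`, then `Z(S) = Z(Q)`. -/
theorem Ext.center_eq {Q : Subgroup Ω} (h : Ext p S Q) {F : FusionSystem S}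
    (hF : F.IsSaturated p) (hO : F.core = ⊥) : centralizerIn S S = ZQ Q := by
  by_contra hne
  have hS := h.pg
  -- a central element outside `Q`
  obtain ⟨c, hcZ, hcQ⟩ : ∃ c ∈ centralizerIn S S, c ∉ Q := by
    by_contra hcon
    push Not at hcon
    apply hne
    refine le_antisymm ?_ h.Z_le_center
    intro c hc
    rw [mem_ZQ]
    exact ⟨hcon c hc, fun q hq => Subgroup.mem_centralizer_iff.1 hc.2 q (h.le hq)⟩
  have hccomm : ∀ s ∈ S, ∀ i : ℤ, s * c ^ i = c ^ i * s := by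
    intro s hs i
    have h1 : Commute s c := Subgroup.mem_centralizer_iff.1 hcZ.2 s hs
    exact h1.zpow_right i
  have hcomm : ∀ s ∈ S, ∀ t ∈ S, s * t * s⁻¹ * t⁻¹ ∈ ZQ Q := by
    intro s hs t ht
    obtain ⟨i, hi⟩ := exists_mul_zpow_mem_of_index h.index (fun g hg q hq => h.conj_mem hg hq) h.le
      hcZ.1 hcQ hs
    obtain ⟨j, hj⟩ := exists_mul_zpow_mem_of_index h.index (fun g hg q hq => h.conj_mem hg hq) h.le
      hcZ.1 hcQ ht
    have h1 := h.comm_mem hi hj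
    have h2 : s * c ^ i * (t * c ^ j) * (s * c ^ i)⁻¹ * (t * c ^ j)⁻¹ = s * t * s⁻¹ * t⁻¹ := by
      have e1 := hccomm s hs i
      have e2 := hccomm t ht i
      have e3 := hccomm t ht j
      have e4 := hccomm s⁻¹ (S.inv_mem hs) j
      have e5 := hccomm t⁻¹ (S.inv_mem ht) j
      calc s * c ^ i * (t * c ^ j) * (s * c ^ i)⁻¹ * (t * c ^ j)⁻¹
          = s * (c ^ i * t) * c ^ j * (c ^ i)⁻¹ * s⁻¹ * (c ^ j)⁻¹ * t⁻¹ := by group
        _ = s * (t * c ^ i) * c ^ j * (c ^ i)⁻¹ * s⁻¹ * (c ^ j)⁻¹ * t⁻¹ := by rw [e2]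
        _ = s * t * (c ^ j * s⁻¹) * (c ^ j)⁻¹ * t⁻¹ := by group
        _ = s * t * (s⁻¹ * c ^ j) * (c ^ j)⁻¹ * t⁻¹ := by rw [e4]
        _ = s * t * s⁻¹ * t⁻¹ := by group
    rwa [h2] at h1
  have hnc : ∃ s ∈ S, ∃ t ∈ S, s * t ≠ t * s := by
    obtain ⟨a, ha, b, hb, hab⟩ := h.exists_noncomm
    exact ⟨a, h.le ha, b, h.le hb, hab⟩
  -- the first moving subgroup
  obtain ⟨E, hE1, hE2, ⟨α, hα, y0, hy0, hy0'⟩, hE3⟩ :=
    exists_moving hS hF h.Z_le_center (h.not_isNormal hO)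
  have hSE : Setup F (ZQ Q) E := ⟨h.Z_le_center, hE1, hE2, hE3⟩
  have hmoveE : ¬ Fix (ZQ Q) α := fun hf => hy0' (hf y0 hy0)
  obtain ⟨β₀, hβ₀, hinv₀, hmod₀, hfix₀, hcg₀, hab₀⟩ :=
    exists_good hS hF h.odd hSE h.card_Z hcomm hnc hα hmoveE
  have hZS : ZQ Q ≤ S := (ZQ_le Q).trans h.le
  -- preservation of `Z` by automorphisms of `S`
  have hZaut : ∀ (β : MulAut S) (z : S), (z : Ω) ∈ ZQ Q → ((β z : S) : Ω) ∈ ZQ Q := by
    intro β z hz
    obtain ⟨s, hs, t, ht, hst⟩ := hnc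
    have h1 : s * t * s⁻¹ * t⁻¹ ≠ 1 := by
      intro h2
      apply hst
      calc s * t = (s * t * s⁻¹ * t⁻¹) * (t * s) := by group
        _ = t * s := by rw [h2, one_mul]
    obtain ⟨i, hi⟩ := h.Z_gen (hcomm s hs t ht) h1 hz
    have h2 : z = ((⟨s, hs⟩ : S) * ⟨t, ht⟩ * (⟨s, hs⟩ : S)⁻¹ * (⟨t, ht⟩ : S)⁻¹) ^ i :=
      Subtype.ext (by simpa using hi.symm)
    rw [h2, map_zpow, Subgroup.coe_zpow]
    apply Subgroup.zpow_mem
    rw [map_mul, map_mul, map_mul, map_inv, map_inv]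
    exact hcomm _ (β _).2 _ (β _).2
  -- the subgroup `Y`
  let Y : Subgroup Ω :=
    { carrier := {y | y ∈ centralizerIn S S ∧ ∀ hy : y ∈ S, β₀ ⟨y, hy⟩ = ⟨y, hy⟩}
      mul_mem' := by
        rintro a b ⟨ha, ha'⟩ ⟨hb, hb'⟩
        refine ⟨Subgroup.mul_mem _ ha hb, fun hy => ?_⟩
        have e1 : (⟨a * b, hy⟩ : S) = ⟨a, ha.1⟩ * ⟨b, hb.1⟩ := rfl
        rw [e1, map_mul, ha', hb']
      one_mem' := ⟨Subgroup.one_mem _, fun hy => map_one _⟩
      inv_mem' := by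
        rintro a ⟨ha, ha'⟩
        refine ⟨Subgroup.inv_mem _ ha, fun hy => ?_⟩
        have e1 : (⟨a⁻¹, hy⟩ : S) = ⟨a, ha.1⟩⁻¹ := rfl
        rw [e1, map_inv, ha'] }
  have hYmem : ∀ {y : Ω}, y ∈ Y ↔ y ∈ centralizerIn S S ∧ ∀ hy : y ∈ S, β₀ ⟨y, hy⟩ = ⟨y, hy⟩ :=
    Iff.rfl
  have hYZ : Y ≤ centralizerIn S S := fun y hy => hy.1
  -- `Y ≠ 1`
  have hYne : ∃ y ∈ Y, y ≠ 1 := by
    have hw := hmod₀ ⟨c, hcZ.1⟩ hcZ
    set w : S := β₀ ⟨c, hcZ.1⟩ * (⟨c, hcZ.1⟩ : S)⁻¹ with hwdef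
    have hwp : w ^ p = 1 := Subtype.ext (by simpa using h.Z_pow hw)
    obtain ⟨m, hm⟩ := h.odd
    set u : S := w ^ (m + 1) with hu
    have huZ : (u : Ω) ∈ ZQ Q := by
      rw [hu, Subgroup.coe_pow]
      exact Subgroup.pow_mem _ hw _
    have huu : u * u = w := by
      rw [hu, ← pow_add]
      have : m + 1 + (m + 1) = p + 1 := by omega
      rw [this, pow_succ, hwp, one_mul]
    refine ⟨c * u, ⟨Subgroup.mul_mem _ hcZ (h.Z_le_center huZ), fun hy => ?_⟩, ?_⟩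
    · have e1 : (⟨c * u, hy⟩ : S) = ⟨c, hcZ.1⟩ * u := rfl
      have e2 : β₀ ⟨c, hcZ.1⟩ = w * ⟨c, hcZ.1⟩ := by rw [hwdef]; group
      have e3 : (⟨c, hcZ.1⟩ : S) * u = u * ⟨c, hcZ.1⟩ := Subtype.ext (h.Z_comm hcZ.1 huZ)
      rw [e1, map_mul, hinv₀ u huZ, e2, ← huu, e3]
      have e4 : (⟨c, hcZ.1⟩ : S) * u⁻¹ = u⁻¹ * ⟨c, hcZ.1⟩ := by
        have : Commute (⟨c, hcZ.1⟩ : S) u := e3
        exact this.inv_right
      rw [mul_assoc, e4]
      group
    · intro h1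
      apply hcQ
      have h2 : c = (u : Ω)⁻¹ := eq_inv_of_mul_eq_one_left h1
      rw [h2]
      exact Q.inv_mem (ZQ_le Q huZ)
  have hYn : ¬ F.IsNormal Y := by
    intro hn
    obtain ⟨y, hy, hy1⟩ := hYne
    have h1 : Y ≤ F.core := le_sSup hn
    rw [hO] at h1
    exact hy1 (h1 hy)
  -- `Aut_F(S)` preserves `Y`
  have hYS : ∀ β ∈ F.autGroup S, ∀ (y : S), (y : Ω) ∈ Y → ((β y : S) : Ω) ∈ Y := by
    intro β hβ y hy
    have hbz : ((β y : S) : Ω) ∈ centralizerIn S S := apply_mem_center β hy.1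
    refine ⟨hbz, fun hy' => ?_⟩
    have hconj : β⁻¹ * β₀ * β ∈ F.autGroup S := mul_mem (mul_mem (inv_mem hβ) hβ₀) hβ
    have h1 := good_unique hS hF (fun z hz => h.Z_pow hz) hZS hconj hβ₀ (by
      intro z hz
      show β⁻¹ (β₀ (β z)) = z⁻¹
      rw [hinv₀ _ (hZaut β z hz), map_inv, MulAut.inv_apply_self]) hinv₀ (by
      intro d hd
      show ((β⁻¹ (β₀ (β d)) * d⁻¹ : S) : Ω) ∈ ZQ Q
      have e1 : β⁻¹ (β₀ (β d)) * d⁻¹ = β⁻¹ (β₀ (β d) * (β d)⁻¹) := by
        rw [map_mul, map_inv, MulAut.inv_apply_self]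
      rw [e1]
      exact hZaut _ _ (hmod₀ _ (apply_mem_center β hd))) hmod₀ y hy.1
    have h2 : β⁻¹ (β₀ (β y)) = β₀ y := h1
    rw [hy.2 y.2] at h2
    have h3 := congrArg β h2
    rw [MulAut.apply_inv_self] at h3
    exact h3
  -- the second moving subgroup
  obtain ⟨P, hP1, hP2, ⟨γ, hγ, y1, hy1, hy1'⟩, hP3⟩ := exists_moving hS hF hYZ hYn
  have hSP : Setup F Y P := ⟨hYZ, hP1, hP2, hP3⟩
  have hPS := hSP.le_S
  have hfinP : Finite P := finite_of_le hPS
  have hZSP : centralizerIn S S ≤ P := by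
    intro d hd
    apply hSP.centralizer_le
    exact ⟨hd.1, Subgroup.centralizer_le (show (P : Set Ω) ⊆ S from hPS) hd.2⟩
  have hZP : ZQ Q ≤ P := h.Z_le_center.trans hZSP
  have hconjP : ∀ s ∈ S, ∀ e ∈ P, s * e * s⁻¹ ∈ P := by
    intro s hs e he
    have h1 := P.mul_mem (hZP (hcomm s hs e (hPS he))) he
    have h2 : s * e * s⁻¹ * e⁻¹ * e = s * e * s⁻¹ := by group
    rwa [h2] at h1
  have hNP : S ≤ Subgroup.normalizer (P : Set Ω) := by
    intro s hs
    refine Subgroup.mem_normalizer_iff.2 fun x => ⟨hconjP s hs x, fun hx => ?_⟩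
    have h1 := hconjP s⁻¹ (S.inv_mem hs) _ hx
    have h2 : s⁻¹ * (s * x * s⁻¹) * s⁻¹⁻¹ = x := by group
    rwa [h2] at h1
  have hNS : normalizerIn S P = S := inf_eq_left.2 hNP
  -- case distinction: is `Z` moved by `Aut_F(P)`?
  by_cases hall : ∀ δ ∈ F.autGroup P, Fix (ZQ Q) δ
  · -- `Aut_S(P)` is normal
    let N : Subgroup (MulAut P) :=
      { carrier := {δ | δ ∈ F.autGroup P ∧ (∀ z : P, (z : Ω) ∈ ZQ Q → δ z = z) ∧
          ∀ e : P, ((δ e * e⁻¹ : P) : Ω) ∈ ZQ Q}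
        mul_mem' := by
          rintro a b ⟨ha1, ha2, ha3⟩ ⟨hb1, hb2, hb3⟩
          refine ⟨mul_mem ha1 hb1, fun z hz => ?_, fun e => ?_⟩
          · rw [MulAut.mul_apply, hb2 z hz, ha2 z hz]
          · have e1 : (a * b) e * e⁻¹ = a (b e * e⁻¹) * (a e * e⁻¹) := by
              rw [MulAut.mul_apply, map_mul, map_inv]
              group
            rw [e1, ha2 _ (hb3 e)]
            exact Subgroup.mul_mem _ (hb3 e) (ha3 e)
        one_mem' := ⟨one_mem _, fun z _ => rfl, fun e => by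
          rw [MulAut.one_apply, mul_inv_cancel]
          exact Subgroup.one_mem _⟩
        inv_mem' := by
          rintro a ⟨ha1, ha2, ha3⟩
          have hi : ∀ z : P, (z : Ω) ∈ ZQ Q → a⁻¹ z = z := by
            intro z hz
            conv_lhs => rw [← ha2 z hz]
            exact a.symm_apply_apply z
          refine ⟨inv_mem ha1, hi, fun e => ?_⟩
          have e1 : a⁻¹ e * e⁻¹ = a⁻¹ ((a e * e⁻¹)⁻¹) := by
            rw [map_inv, map_mul, map_inv, MulAut.inv_apply_self]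
            group
          have e2 : (((a e * e⁻¹)⁻¹ : P) : Ω) ∈ ZQ Q := Subgroup.inv_mem _ (ha3 e)
          rw [e1, hi _ e2]
          exact e2 }
    have hNp : IsPGroup p N := by
      refine isPGroup_of_pow_eq_one (n := 1) ?_
      rintro δ ⟨h1, h2, h3⟩
      apply MulEquiv.ext
      intro e
      have hn : ∀ n : ℕ, (δ ^ n) e = (δ e * e⁻¹) ^ n * e := by
        intro n
        induction n with
        | zero => simp
        | succ n ih =>
          rw [pow_succ', MulAut.mul_apply, ih, map_mul, map_pow, h2 _ (h3 e), pow_succ]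
          group
      rw [hn, pow_one]
      have : (δ e * e⁻¹) ^ p = 1 := Subtype.ext (by simpa using h.Z_pow (h3 e))
      rw [this, one_mul]
      rfl
    have hle : autInducedBy S P ≤ N := by
      intro δ hδ
      obtain ⟨s, hs, he⟩ := (mem_autInducedBy_iff S P δ).1 hδ
      refine ⟨autInducedBy_le_autGroup F hPS hδ, fun z hz => ?_, fun e => ?_⟩
      · apply Subtype.ext
        rw [he, h.Z_comm hs hz]
        group
      · rw [Subgroup.coe_mul, he, Subgroup.coe_inv]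
        exact hcomm s hs e (hPS e.2)
    have hnorm := normalizes_of_normal (N := N) hS hF hP1 (fun δ hδ => hδ.1) hNp hle (α := γ) (by
      rintro δ ⟨h1, h2, h3⟩
      refine ⟨mul_mem (mul_mem hγ h1) (inv_mem hγ), fun z hz => ?_, fun e => ?_⟩
      · show γ (δ (γ⁻¹ z)) = z
        rw [h2 _ (hall γ⁻¹ (inv_mem hγ) z hz), MulAut.apply_inv_self]
      · have e1 : (γ * δ * γ⁻¹) e * e⁻¹ = γ (δ (γ⁻¹ e) * (γ⁻¹ e)⁻¹) := by
          show γ (δ (γ⁻¹ e)) * e⁻¹ = _
          rw [map_mul γ, map_inv γ, MulAut.apply_inv_self]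
        rw [e1]
        exact hall γ hγ _ (h3 _))
    obtain ⟨β, hβ, hβe⟩ := exists_extension_of_normalizes hS hF hP1 hγ hnorm
    have key : ∀ (N : Subgroup Ω), N = S → ∀ β ∈ F.autGroup N,
        (∀ (x : Ω) (hx : x ∈ P) (hx' : x ∈ N), ((β ⟨x, hx'⟩ : N) : Ω) = (γ ⟨x, hx⟩ : P)) →
        ∃ β ∈ F.autGroup S, ∀ (x : Ω) (hx : x ∈ P) (hx' : x ∈ S),
          ((β ⟨x, hx'⟩ : S) : Ω) = (γ ⟨x, hx⟩ : P) := by
      rintro N rfl β hβ hβe
      exact ⟨β, hβ, hβe⟩
    obtain ⟨β', hβ', hβe'⟩ := key _ hNS β hβ hβe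
    apply hy1'
    have h1 : ((γ y1 : P) : Ω) = ((β' ⟨y1, hPS y1.2⟩ : S) : Ω) := (hβe' y1 y1.2 _).symm
    rw [h1]
    exact hYS β' hβ' _ hy1
  · push Not at hall
    obtain ⟨δ, hδ, hδm⟩ := hall
    -- `|E| ≤ |P|`
    have hcard : Nat.card E ≤ Nat.card P := by
      have hES := hSE.le_S
      have hfinE : Finite E := finite_of_le hES
      have hfinZ : Finite (centralizerIn S S) := finite_of_le inf_le_left
      have hfinZQ : Finite (ZQ Q) := finite_of_le hZS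
      have h1 : Nat.card E ≤ p * Nat.card (centralizerIn S S) := by
        -- an element outside `E`
        have hEne : ∃ g ∈ S, g ∉ E := by
          by_contra hcon
          push Not at hcon
          obtain ⟨s, hs, t, ht, hst⟩ := hnc
          exact hst (congrArg Subtype.val (hab₀ ⟨s, hcon s hs⟩ ⟨t, hcon t ht⟩))
        obtain ⟨g, hg, hgE⟩ := hEne
        let f : E →* ZQ Q :=
          { toFun := fun e => ⟨g * e * g⁻¹ * (e : Ω)⁻¹, hcomm g hg e (hES e.2)⟩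
            map_one' := Subtype.ext (by simp)
            map_mul' := by
              intro a b
              apply Subtype.ext
              show g * (a * b : Ω) * g⁻¹ * (a * b : Ω)⁻¹ =
                (g * a * g⁻¹ * (a : Ω)⁻¹) * (g * b * g⁻¹ * (b : Ω)⁻¹)
              have h2 := h.Z_comm (hES a.2) (hcomm g hg b (hES b.2))
              calc g * (a * b : Ω) * g⁻¹ * (a * b : Ω)⁻¹
                  = g * a * g⁻¹ * (g * b * g⁻¹ * (b : Ω)⁻¹) * (a : Ω)⁻¹ := by group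
                _ = g * a * g⁻¹ * (a : Ω)⁻¹ * ((a : Ω) * (g * b * g⁻¹ * (b : Ω)⁻¹)) * (a : Ω)⁻¹ := by
                    group
                _ = g * a * g⁻¹ * (a : Ω)⁻¹ * ((g * b * g⁻¹ * (b : Ω)⁻¹) * a) * (a : Ω)⁻¹ := by
                    rw [h2]
                _ = _ := by group }
        have h2 : Nat.card f.range * Nat.card f.ker = Nat.card E := by
          rw [← Nat.card_congr (QuotientGroup.quotientKerEquivRange f).toEquiv]
          rw [Subgroup.card_eq_card_quotient_mul_card_subgroup f.ker]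
        have h3 : Nat.card f.range ≤ p := by
          rw [← h.card_Z]
          exact Subgroup.card_le_card_group _
        have h4 : Nat.card f.ker ≤ Nat.card (centralizerIn S S) := by
          refine Nat.card_le_card_of_injective
            (fun e : f.ker => (⟨((e : E) : Ω), ?_⟩ : centralizerIn S S)) ?_
          · apply hcg₀ g hg hgE
            have h5 : f (e : E) = 1 := e.2
            have h6 : g * ((e : E) : Ω) * g⁻¹ * ((e : E) : Ω)⁻¹ = 1 := congrArg Subtype.val h5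
            exact mul_inv_eq_iff_eq_mul.1 (mul_inv_eq_one.1 h6)
          · intro a b hab
            exact Subtype.ext (Subtype.ext (by simpa using hab))
        rw [← h2]
        exact Nat.mul_le_mul h3 h4
      refine h1.trans ?_
      have h2 : Nat.card ((centralizerIn S S).subgroupOf P) = Nat.card (centralizerIn S S) :=
        Nat.card_congr (Subgroup.subgroupOfEquivOfLe hZSP).toEquiv
      have h3 := ((centralizerIn S S).subgroupOf P).index_mul_card
      rw [h2] at h3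
      rw [← h3]
      apply Nat.mul_le_mul_right
      have hPp : IsPGroup p P := hS.to_le hPS
      obtain ⟨n, hn⟩ := hPp.index ((centralizerIn S S).subgroupOf P)
      have hn0 : n ≠ 0 := by
        rintro rfl
        rw [pow_zero, Subgroup.index_eq_one, Subgroup.subgroupOf_eq_top] at hn
        obtain ⟨s, hs, t, ht, hst⟩ := hnc
        have hsC : ∀ s ∈ S, s ∈ P := by
          intro s hs
          apply hSP.centralizer_le
          refine ⟨hs, Subgroup.mem_centralizer_iff.2 fun x hx => ?_⟩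
          exact (Subgroup.mem_centralizer_iff.1 (hn hx).2 s hs).symm
        exact hst (Subgroup.mem_centralizer_iff.1 (hn (hsC t ht)).2 s hs)
      rw [hn]
      exact Nat.le_self_pow hn0 p
    have hSZP : Setup F (ZQ Q) P :=
      ⟨h.Z_le_center, hP1, hP2, fun R φ hφ hc => hE3 R φ hφ (lt_of_le_of_lt hcard hc)⟩
    -- description of `Y` through any automorphism of `P` moving `Z`
    have hdesc : ∀ ε ∈ F.autGroup P, ¬ Fix (ZQ Q) ε → ∀ y : P, (y : Ω) ∈ centralizerIn S S →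
        ((y : Ω) ∈ Y ↔ ((ε⁻¹ y : P) : Ω) ∈ centralizerIn S S) := by
      intro ε hε hεm y hy
      obtain ⟨β₁, hβ₁, hinv₁, hmod₁, hfix₁, -, -⟩ :=
        exists_good hS hF h.odd hSZP h.card_Z hcomm hnc hε hεm
      have h1 := good_unique hS hF (fun z hz => h.Z_pow hz) hZS hβ₁ hβ₀ hinv₁ hinv₀ hmod₁ hmod₀
        ⟨y, hy.1⟩ hy
      rw [← hfix₁ y hy.1 hy y.2, h1]
      exact ⟨fun h2 => h2.2 hy.1, fun h2 => ⟨hy, fun _ => h2⟩⟩
    have hmov : ∀ ε ∈ F.autGroup P, ¬ Fix (ZQ Q) ε → ∀ y : P, (y : Ω) ∈ Y →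
        ((ε y : P) : Ω) ∈ Y := by
      intro ε hε hεm y hy
      have hεm' : ¬ Fix (ZQ Q) ε⁻¹ := fun h1 => hεm (by simpa using Fix.inv h1)
      have h1 := (hdesc ε⁻¹ (inv_mem hε) hεm' y hy.1).1 hy
      rw [inv_inv] at h1
      refine (hdesc ε hε hεm _ h1).2 ?_
      rw [MulAut.inv_apply_self]
      exact hy.1
    apply hy1'
    by_cases hγm : Fix (ZQ Q) γ
    · have hδm' : ¬ Fix (ZQ Q) δ⁻¹ := fun h1 => hδm (by simpa using Fix.inv h1)
      have h1 := hmov δ⁻¹ (inv_mem hδ) hδm' y1 hy1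
      have h2 : ¬ Fix (ZQ Q) (γ * δ) := by
        intro h3
        apply hδm
        have h4 := (Fix.inv hγm).mul h3
        simpa using h4
      have h3 := hmov (γ * δ) (mul_mem hγ hδ) h2 _ h1
      rw [MulAut.mul_apply, MulAut.apply_inv_self] at h3
      exact h3
    · exact hmov γ hγ hγm y1 hy1

end Cfsg.Agent.H764
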