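import Cfsg.Agent.H764.Start

/-!
# Bilinearity of commutators in `Q`, invariance under `S` (helper764)
-/

set_option autoImplicit false
set_option linter.unusedSectionVars false

namespace Cfsg.Agent.H764

open Cfsg Cfsg.FusionSystem Cfsg.Agent.H802
open scoped commutatorElement

variable {Ω : Type*} [Group Ω] {S Q : Subgroup Ω} {p : ℕ} [hp : Fact p.Prime]

theorem comm_eq_one {a b : Ω} : ⁅a, b⁆ = 1 ↔ a * b = b * a :=
  commutatorElement_eq_one_iff_mul_comm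

theorem conj_comm (x a b : Ω) : x * ⁅a, b⁆ * x⁻¹ = ⁅x * a * x⁻¹, x * b * x⁻¹⁆ := by
  simp only [commutatorElement_def]
  group

theorem conj_eq (x a : Ω) : x * a * x⁻¹ = ⁅x, a⁆ * a := by
  simp only [commutatorElement_def]
  group

theorem comm_mul_right (x a b : Ω) : ⁅x, a * b⁆ = ⁅x, a⁆ * (a * ⁅x, b⁆ * a⁻¹) := by
  simp only [commutatorElement_def]
  group

theorem comm_mul_left (x y a : Ω) : ⁅x * y, a⁆ = (x * ⁅y, a⁆ * x⁻¹) * ⁅x, a⁆ := by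
  simp only [commutatorElement_def]
  group

namespace Ext

theorem cm (h : Ext p S Q) {a b : Ω} (ha : a ∈ Q) (hb : b ∈ Q) : ⁅a, b⁆ ∈ ZQ Q :=
  h.comm_mem ha hb

theorem bil_left (h : Ext p S Q) {a b c : Ω} (ha : a ∈ Q) (hb : b ∈ Q) (hc : c ∈ Q) :
    ⁅a * b, c⁆ = ⁅a, c⁆ * ⁅b, c⁆ :=
  congrArg Subtype.val (comm_mul_left' h.ex ⟨a, ha⟩ ⟨b, hb⟩ ⟨c, hc⟩)

theorem bil_right (h : Ext p S Q) {a b c : Ω} (ha : a ∈ Q) (hb : b ∈ Q) (hc : c ∈ Q) :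
    ⁅a, b * c⁆ = ⁅a, b⁆ * ⁅a, c⁆ := by
  rw [← commutatorElement_inv, h.bil_left hb hc ha, mul_inv_rev, commutatorElement_inv,
    commutatorElement_inv]
  have h1 := h.cm ha hb
  exact ((mem_ZQ.1 h1).2 _ (ZQ_le Q (h.cm ha hc)))

theorem inv_left (h : Ext p S Q) {a c : Ω} (ha : a ∈ Q) (hc : c ∈ Q) : ⁅a⁻¹, c⁆ = ⁅a, c⁆⁻¹ := by
  have h1 := h.bil_left ha (Q.inv_mem ha) hc
  rw [mul_inv_cancel, commutatorElement_one_left] at h1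
  exact (inv_eq_of_mul_eq_one_right h1.symm).symm

theorem zpow_left (h : Ext p S Q) {a c : Ω} (ha : a ∈ Q) (hc : c ∈ Q) (n : ℤ) :
    ⁅a ^ n, c⁆ = ⁅a, c⁆ ^ n := by
  have hpos : ∀ n : ℕ, ⁅a ^ n, c⁆ = ⁅a, c⁆ ^ n := by
    intro n
    induction n with
    | zero => simp
    | succ n ih => rw [pow_succ, h.bil_left (Q.pow_mem ha n) ha hc, ih, pow_succ]
  cases n with
  | ofNat n => simpa using hpos n
  | negSucc n =>
    rw [zpow_negSucc, zpow_negSucc, h.inv_left (Q.pow_mem ha _) hc, hpos]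

theorem zpow_right (h : Ext p S Q) {a c : Ω} (ha : a ∈ Q) (hc : c ∈ Q) (n : ℤ) :
    ⁅c, a ^ n⁆ = ⁅c, a⁆ ^ n := by
  rw [← commutatorElement_inv, h.zpow_left ha hc, ← inv_zpow, commutatorElement_inv]

variable [Finite S]

theorem conj_Z (h : Ext p S Q) {x z : Ω} (hx : x ∈ S) (hz : z ∈ ZQ Q) : x * z * x⁻¹ = z := by
  rw [h.Z_comm hx hz]
  group

/-- Commutators of elements of `Q` are invariant under `S`. -/
theorem invar (h : Ext p S Q) {x a b : Ω} (hx : x ∈ S) (ha : a ∈ Q) (hb : b ∈ Q) :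
    ⁅x * a * x⁻¹, x * b * x⁻¹⁆ = ⁅a, b⁆ := by
  rw [← conj_comm, h.conj_Z hx (h.cm ha hb)]

theorem comm_mem_Q (h : Ext p S Q) {x a : Ω} (hx : x ∈ S) (ha : a ∈ Q) : ⁅x, a⁆ ∈ Q :=
  Q.mul_mem (h.conj_mem hx ha) (Q.inv_mem ha)

/-- `⁅x, a b⁆ ≡ ⁅x, a⁆ ⁅x, b⁆` modulo `Z`. -/
theorem comm_mul_mod (h : Ext p S Q) {x a b : Ω} (hx : x ∈ S) (ha : a ∈ Q) (hb : b ∈ Q) :
    ∃ ζ ∈ ZQ Q, ⁅x, a * b⁆ = ⁅x, a⁆ * ⁅x, b⁆ * ζ := by
  refine ⟨⁅x, b⁆⁻¹ * a * ⁅x, b⁆ * a⁻¹, ?_, ?_⟩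
  · have := h.cm (Q.inv_mem (h.comm_mem_Q hx hb)) ha
    rwa [commutatorElement_def, inv_inv] at this
  · rw [comm_mul_right]
    group

theorem comm_zpow_mod (h : Ext p S Q) {x a : Ω} (hx : x ∈ S) (ha : a ∈ Q) (n : ℤ) :
    ∃ ζ ∈ ZQ Q, ⁅x, a ^ n⁆ = ⁅x, a⁆ ^ n * ζ := by
  have hpos : ∀ n : ℕ, ∃ ζ ∈ ZQ Q, ⁅x, a ^ n⁆ = ⁅x, a⁆ ^ n * ζ := by
    intro n
    induction n with
    | zero => exact ⟨1, (ZQ Q).one_mem, by simp⟩
    | succ n ih =>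
      obtain ⟨ζ, hζ, e⟩ := ih
      obtain ⟨ζ', hζ', e'⟩ := h.comm_mul_mod hx (Q.pow_mem ha n) ha
      refine ⟨ζ * ζ', (ZQ Q).mul_mem hζ hζ', ?_⟩
      rw [pow_succ, e', e, pow_succ]
      have h1 : ζ * ⁅x, a⁆ = ⁅x, a⁆ * ζ := ((mem_ZQ.1 hζ).2 _ (h.comm_mem_Q hx ha)).symm
      calc ⁅x, a⁆ ^ n * ζ * ⁅x, a⁆ * ζ' = ⁅x, a⁆ ^ n * (ζ * ⁅x, a⁆) * ζ' := by group
        _ = _ := by rw [h1]; group
  cases n with
  | ofNat n => simpa using hpos n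
  | negSucc n =>
    obtain ⟨ζ, hζ, e⟩ := hpos (n + 1)
    obtain ⟨ζ', hζ', e'⟩ := h.comm_mul_mod hx (Q.pow_mem ha (n + 1)) (Q.inv_mem (Q.pow_mem ha (n + 1)))
    rw [mul_inv_cancel, commutatorElement_one_right, e] at e'
    refine ⟨ζ⁻¹ * ζ'⁻¹, (ZQ Q).mul_mem ((ZQ Q).inv_mem hζ) ((ZQ Q).inv_mem hζ'), ?_⟩
    rw [zpow_negSucc, zpow_negSucc]
    have hζQ := (mem_ZQ.1 hζ)
    have hζQ' := (mem_ZQ.1 hζ')
    set c := ⁅x, (a ^ (n + 1))⁻¹⁆ with hc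
    have hcQ : c ∈ Q := h.comm_mem_Q hx (Q.inv_mem (Q.pow_mem ha _))
    have h1 : c = (⁅x, a⁆ ^ (n + 1) * ζ)⁻¹ * ζ'⁻¹ := by
      have h2 : 1 = (⁅x, a⁆ ^ (n + 1) * ζ) * c * ζ' := e'
      calc c = (⁅x, a⁆ ^ (n + 1) * ζ)⁻¹ * ((⁅x, a⁆ ^ (n + 1) * ζ) * c * ζ') * ζ'⁻¹ := by group
        _ = _ := by rw [← h2]; group
    rw [h1]
    have h3 : ζ * ⁅x, a⁆ ^ (n + 1) = ⁅x, a⁆ ^ (n + 1) * ζ :=
      ((mem_ZQ.1 hζ).2 _ (Q.pow_mem (h.comm_mem_Q hx ha) _)).symm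
    rw [← h3]
    group

/-- Powers of elements of `Q`. -/
theorem zpow_mul_pow (h : Ext p S Q) {a b : Ω} (ha : a ∈ Q) (hb : b ∈ Q) (i : ℤ) :
    (a * b ^ i) ^ p = a ^ p * (b ^ p) ^ i := by
  rw [h.mul_pow ha (Q.zpow_mem hb i)]
  congr 1
  rw [← zpow_natCast, ← zpow_mul, mul_comm, zpow_mul, zpow_natCast]

/-- If all maximal subgroups `D` of `Q` (index at most `p`) contain an element `d` with `⁅x, d⁆ ∉ Z`,
then automorphisms of `S` preserve `Q`. -/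
theorem apply_mem (h : Ext p S Q) {x : Ω} (hx : x ∈ S)
    (hD : ∀ D : Subgroup Ω, D ≤ Q → Nat.card Q ≤ p * Nat.card D → ∃ d ∈ D, ⁅x, d⁆ ∉ ZQ Q)
    (hZ : ZQ Q = centralizerIn S S) (τ : MulAut S) {q : S} (hq : (q : Ω) ∈ Q) :
    ((τ q : S) : Ω) ∈ Q := by
  by_contra hcon
  have hfin : Finite Q := finite_of_le h.le
  -- D = Q ∩ τ(Q)
  set D : Subgroup Ω := Q ⊓ ((Q.subgroupOf S).map τ.toMonoidHom).map S.subtype with hDdef
  have hmemD : ∀ d, d ∈ D ↔ d ∈ Q ∧ ∃ r : S, (r : Ω) ∈ Q ∧ ((τ r : S) : Ω) = d := by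
    intro d
    rw [hDdef, Subgroup.mem_inf]
    constructor
    · rintro ⟨h1, ⟨_, ⟨r, hr, rfl⟩, rfl⟩⟩
      exact ⟨h1, r, hr, rfl⟩
    · rintro ⟨h1, r, hr, rfl⟩
      exact ⟨h1, ⟨τ r, ⟨r, hr, rfl⟩, rfl⟩⟩
  have hcard : Nat.card Q ≤ p * Nat.card D := by
    -- index of D in S is at most p²
    have h1 : (Q.subgroupOf S ⊓ (Q.subgroupOf S).map τ.toMonoidHom).index ≤ p * p := by
      refine (Subgroup.index_inf_le).trans ?_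
      rw [h.index]
      have h2 : ((Q.subgroupOf S).map τ.toMonoidHom).index = p := by
        rw [Subgroup.index_map_of_bijective τ.bijective, h.index]
      rw [h2]
    have h2 : D.subgroupOf S = Q.subgroupOf S ⊓ (Q.subgroupOf S).map τ.toMonoidHom := by
      ext d
      rw [Subgroup.mem_subgroupOf, hmemD, Subgroup.mem_inf]
      constructor
      · rintro ⟨h3, r, hr, hrd⟩
        exact ⟨h3, ⟨r, hr, Subtype.ext hrd⟩⟩
      · rintro ⟨h3, ⟨r, hr, rfl⟩⟩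
        exact ⟨h3, r, hr, rfl⟩
    have h3 := (D.subgroupOf S).index_mul_card
    rw [Nat.card_congr (Subgroup.subgroupOfEquivOfLe (inf_le_left.trans h.le)).toEquiv, h2,
      h.card_S] at h3
    have h4 : p * Nat.card Q ≤ p * (p * Nat.card D) := by
      rw [← h3]
      calc _ ≤ (p * p) * Nat.card D := Nat.mul_le_mul_right _ h1
        _ = _ := by ring
    exact Nat.le_of_mul_le_mul_left h4 hp.out.pos
  obtain ⟨d, hdD, hd⟩ := hD D inf_le_left hcard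
  apply hd
  obtain ⟨hdQ, r, hr, hrd⟩ := (hmemD d).1 hdD
  -- ⁅τ q, d⁆ ∈ Z
  have hc : ⁅((τ q : S) : Ω), d⁆ ∈ ZQ Q := by
    have h1 : ((⁅q, r⁆ : S) : Ω) ∈ ZQ Q := h.cm hq hr
    rw [hZ] at h1
    have h2 := apply_mem_center τ h1
    rw [map_commutatorElement, ← hZ] at h2
    rw [← hrd]
    exact h2
  obtain ⟨i, hi⟩ := h.exists_zpow (τ q).2 hcon hx
  -- x = (x (τ q)^i) (τ q)^(-i)
  have hd2 : ∀ n : ℤ, ⁅(((τ q : S) : Ω)) ^ n, d⁆ ∈ ZQ Q := by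
    have hsub : ∀ n : ℤ, (((τ q : S) : Ω)) ^ n * d * ((((τ q : S) : Ω)) ^ n)⁻¹ * d⁻¹ ∈ ZQ Q := by
      set c := ((τ q : S) : Ω) with hcdef
      set K : Subgroup Ω :=
        { carrier := {g | g ∈ S ∧ g * d * g⁻¹ * d⁻¹ ∈ ZQ Q}
          one_mem' := ⟨S.one_mem, by simp⟩
          mul_mem' := by
            rintro a b ⟨ha, ha'⟩ ⟨hb, hb'⟩
            refine ⟨S.mul_mem ha hb, ?_⟩
            have h1 := h.conj_Z ha hb'
            have h2 : a * b * d * (a * b)⁻¹ * d⁻¹ = (a * (b * d * b⁻¹ * d⁻¹) * a⁻¹) *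
                (a * d * a⁻¹ * d⁻¹) := by group
            rw [h2, h1]
            exact (ZQ Q).mul_mem hb' ha'
          inv_mem' := by
            rintro a ⟨ha, ha'⟩
            refine ⟨S.inv_mem ha, ?_⟩
            have h1 := h.conj_Z (S.inv_mem ha) ha'
            have h2 : a⁻¹ * d * a⁻¹⁻¹ * d⁻¹ = (a⁻¹ * (a * d * a⁻¹ * d⁻¹) * a⁻¹⁻¹)⁻¹ := by group
            rw [h2, h1]
            exact (ZQ Q).inv_mem ha' } with hK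
      intro n
      have : c ∈ K := ⟨(τ q).2, hc⟩
      exact (K.zpow_mem this n).2
    exact hsub
  have h1 : x = (x * ((τ q : S) : Ω) ^ i) * ((τ q : S) : Ω) ^ (-i) := by
    rw [zpow_neg]; group
  rw [h1, comm_mul_left]
  refine (ZQ Q).mul_mem ?_ (h.cm hi hdQ)
  rw [h.conj_Z (h.le hi) (hd2 (-i))]
  exact hd2 (-i)

end Ext

end Cfsg.Agent.H764
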