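import Cfsg.Agent.H764.CaseMF

/-!
# S5177, case I: no moved image lies in `Q` (helper764)
-/

set_option autoImplicit false
set_option linter.unusedSectionVars false

namespace Cfsg.Agent.H764

open Cfsg Cfsg.FusionSystem Cfsg.Agent.H802
open scoped commutatorElement

variable {Ω : Type*} [Group Ω] {S Q E : Subgroup Ω} {p : ℕ} [hp : Fact p.Prime]
  {F : FusionSystem S}

/-- Iterated commutators with `x` eventually enter `Z`. -/
theorem exists_iterate [Finite S] (hS : IsPGroup p S) {x q : Ω} (hx : x ∈ S) (hq : q ∈ S)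
    {Z : Set Ω} (h1 : (1 : Ω) ∈ Z) (hqZ : q ∉ Z) :
    ∃ n : ℕ, (fun r => ⁅x, r⁆)^[n] q ∉ Z ∧ (fun r => ⁅x, r⁆)^[n + 1] q ∈ Z := by
  have hmem : ∀ n : ℕ, (fun r => ⁅x, r⁆)^[n] q ∈ S.lowerCentralSeries n := by
    intro n
    induction n with
    | zero => exact hq
    | succ n ih =>
      rw [Function.iterate_succ_apply', Subgroup.lowerCentralSeries_succ]
      show ⁅x, (fun r => ⁅x, r⁆)^[n] q⁆ ∈ _
      rw [← commutatorElement_inv]
      exact Subgroup.inv_mem _ (Subgroup.commutator_mem_commutator ih hx)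
  have hnil : Group.IsNilpotent S := hS.isNilpotent
  obtain ⟨N, hN⟩ := Subgroup.isNilpotent_iff_lowerCentralSeries S |>.1 hnil
  have hex : ∃ n : ℕ, (fun r => ⁅x, r⁆)^[n] q ∈ Z := by
    refine ⟨N, ?_⟩
    have := hmem N
    rw [hN, Subgroup.mem_bot] at this
    rw [this]
    exact h1
  classical
  have h2 := Nat.find_spec hex
  have h3 : Nat.find hex ≠ 0 := by
    intro h0
    rw [h0] at h2
    exact hqZ h2
  obtain ⟨m, hm⟩ := Nat.exists_eq_succ_of_ne_zero h3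
  refine ⟨m, ?_, ?_⟩
  · exact Nat.find_min hex (by omega)
  · rw [hm] at h2
    exact h2

theorem iterate_mem [Finite S] (h : Ext p S Q) {x q : Ω} (hx : x ∈ S) (hq : q ∈ Q) (n : ℕ) :
    (fun r => ⁅x, r⁆)^[n] q ∈ Q := by
  induction n with
  | zero => exact hq
  | succ n ih =>
    rw [Function.iterate_succ_apply']
    exact h.comm_mem_Q hx ih

theorem mem_normalizer_of_conj [Finite E] {g : Ω} (h : ∀ u ∈ E, g * u * g⁻¹ ∈ E) :
    g ∈ Subgroup.normalizer (E : Set Ω) := Subgroup.mem_normalizer_fintype (S := (E : Set Ω)) h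

/-- Elements of `Q` acting trivially modulo `Z` under `x`. -/
theorem Ext.card_le_of_star [Finite S] (h : Ext p S Q) {x : Ω} {R : Subgroup Ω}
    (hR : R ≤ Q) (hRZ : ∀ q ∈ R, ⁅x, q⁆ ∈ ZQ Q) :
    Nat.card R ≤ p * Nat.card (R ⊓ Subgroup.centralizer {x} : Subgroup Ω) := by
  have hfin : Finite Q := finite_of_le h.le
  have hfinR : Finite R := finite_of_le (S := Q) hR
  have hfinZ : Finite (ZQ Q) := finite_of_le (S := Q) (ZQ_le Q)
  let f : R →* ZQ Q :=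
    { toFun := fun e => ⟨⁅x, (e : Ω)⁆, hRZ e e.2⟩
      map_one' := by ext; simp
      map_mul' := by
        intro b c
        apply Subtype.ext
        show ⁅x, (b : Ω) * c⁆ = ⁅x, (b : Ω)⁆ * ⁅x, (c : Ω)⁆
        rw [comm_mul_right, h.conj_Z (h.le (hR b.2)) (hRZ c c.2)] }
  have h1 := f.ker.index_mul_card
  rw [Subgroup.index_ker] at h1
  have h2 : Nat.card f.range ≤ p := by
    have := Subgroup.card_le_card_group f.range
    rw [h.card_Z] at this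
    exact this
  have h3 : f.ker = (R ⊓ Subgroup.centralizer {x}).subgroupOf R := by
    ext q
    rw [MonoidHom.mem_ker, Subgroup.mem_subgroupOf, Subgroup.mem_inf, Subgroup.mem_centralizer_iff]
    constructor
    · intro hq
      refine ⟨q.2, fun b hb => ?_⟩
      rw [Set.mem_singleton_iff] at hb
      rw [hb]
      have h4 : ⁅x, (q : Ω)⁆ = 1 := congrArg Subtype.val hq
      exact comm_eq_one.1 h4
    · rintro ⟨-, hq⟩
      apply Subtype.ext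
      show ⁅x, (q : Ω)⁆ = 1
      rw [comm_eq_one]
      exact hq x rfl
  rw [h3, Nat.card_congr (Subgroup.subgroupOfEquivOfLe inf_le_left).toEquiv] at h1
  rw [← h1]
  exact Nat.mul_le_mul_right _ h2

/-- Case I. -/
structure IHyp (p : ℕ) {S : Subgroup Ω} (F : FusionSystem S) (Q E : Subgroup Ω) (α : MulAut E)
    (z : E) : Prop where
  D : Dat p F Q E
  hα : α ∈ F.autGroup E
  hz : (z : Ω) ∈ ZQ Q
  hm : ((α z : E) : Ω) ∉ ZQ Q
  hI : ∀ β ∈ F.autGroup E, ∀ w : E, (w : Ω) ∈ ZQ Q → ((β w : E) : Ω) ∈ Q → ((β w : E) : Ω) ∈ ZQ Q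

namespace IHyp

variable [Finite S] {α : MulAut E} {z : E}

theorem x_not (H : IHyp p F Q E α z) : ((α z : E) : Ω) ∉ Q :=
  fun h => H.hm (H.hI α H.hα z H.hz h)

theorem x_mem (H : IHyp p F Q E α z) : ((α z : E) : Ω) ∈ S := H.D.setup.le_S (α z).2

theorem z_ne (H : IHyp p F Q E α z) : z ≠ 1 := Dat.ne_one H.hm

theorem z_pow (H : IHyp p F Q E α z) : z ^ p = 1 := Subtype.ext (H.D.ext.Z_pow H.hz)

theorem x_pow (H : IHyp p F Q E α z) : (α z) ^ p = 1 := by rw [← map_pow, H.z_pow, map_one]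

theorem index (H : IHyp p F Q E α z) (u : E) : ∃ i : ℤ, ((u * (α z) ^ i : E) : Ω) ∈ Q := by
  obtain ⟨i, hi⟩ := H.D.ext.exists_zpow H.x_mem H.x_not (H.D.setup.le_S u.2)
  exact ⟨i, hi⟩

theorem comm_mem (H : IHyp p F Q E α z) (r s : E) : ((⁅r, s⁆ : E) : Ω) ∈ ZQ Q := by
  obtain ⟨i, hi⟩ := H.index r
  obtain ⟨j, hj⟩ := H.index s
  have h1 : ⁅r * (α z) ^ i, s * (α z) ^ j⁆ = ⁅r, s⁆ := by
    have cr : Commute (α z) r := (H.D.central α H.hz r).symm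
    have cs : Commute (α z) s := (H.D.central α H.hz s).symm
    have h2 : Commute ((α z) ^ i) (s * (α z) ^ j) := (cs.zpow_left i).mul_right
      ((Commute.refl (α z)).zpow_zpow i j)
    have h3 : Commute ((α z) ^ j) r := cr.zpow_left j
    rw [comm_mul_left, comm_eq_one.2 h2, mul_one, mul_inv_cancel, one_mul, comm_mul_right,
      comm_eq_one.2 h3.symm, mul_one, mul_inv_cancel, mul_one]
  rw [← h1]
  exact H.D.ext.cm hi hj

/-- `E` is abelian. -/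
theorem comm (H : IHyp p F Q E α z) (u v : E) : u * v = v * u := by
  by_contra hne
  obtain ⟨i, hi⟩ := H.D.gen (H.comm_mem u v) (fun h => hne (comm_eq_one.1 h)) H.hz
  apply H.hm
  rw [← hi, map_zpow, map_commutatorElement, Subgroup.coe_zpow]
  exact (ZQ Q).zpow_mem (H.comm_mem _ _) _

/-- `E` has exponent `p`. -/
theorem pow (H : IHyp p F Q E α z) (u : E) : u ^ p = 1 := by
  have key : ∀ u : E, ((u ^ p : E) : Ω) ∈ ZQ Q := by
    intro u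
    obtain ⟨i, hi⟩ := H.index u
    have h1 : (u * (α z) ^ i) ^ p = u ^ p := by
      rw [(show Commute u ((α z) ^ i) from H.comm _ _).mul_pow, ← zpow_natCast ((α z) ^ i), ← zpow_mul,
        mul_comm i, zpow_mul, zpow_natCast, H.x_pow, one_zpow, mul_one]
    rw [← h1]
    exact H.D.ext.pow_mem hi
  by_contra hne
  obtain ⟨i, hi⟩ := H.D.gen (key u) hne H.hz
  apply H.hm
  rw [← hi, map_zpow, map_pow, Subgroup.coe_zpow]
  exact (ZQ Q).zpow_mem (key _) _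

theorem mem_of_comm (H : IHyp p F Q E α z) {g : Ω} (hg : g ∈ S)
    (hc : g * (α z : E) = (α z : E) * g) : g ∈ E := H.D.mem_of_comm H.hα H.hz H.hm hg hc

theorem comm_x (H : IHyp p F Q E α z) {g : Ω} (hg : g ∈ E) :
    g * (α z : E) = (α z : E) * g := H.D.comm_a α H.hz hg

/-- An element `q ∈ Q` with `⁅x, q⁆ ∈ E` normalizes `E`. -/
theorem mem_normalizer (H : IHyp p F Q E α z) {q : Ω} (hq : q ∈ Q)
    (hxq : ⁅((α z : E) : Ω), q⁆ ∈ E) : q ∈ Subgroup.normalizer (E : Set Ω) := by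
  have hfinE : Finite E := finite_of_le H.D.setup.le_S
  apply mem_normalizer_of_conj
  intro u hu
  set x := ((α z : E) : Ω) with hx
  have hxE : x ∈ E := (α z).2
  obtain ⟨i, hi⟩ := H.index ⟨u, hu⟩
  have hi' : u * x ^ i ∈ Q := hi
  have h1 : q * x * q⁻¹ ∈ E := by
    have : q * x * q⁻¹ = ⁅x, q⁆⁻¹ * x := by
      rw [commutatorElement_inv]; exact conj_eq q x
    rw [this]
    exact E.mul_mem (E.inv_mem hxq) hxE
  have h2 : q * (u * x ^ i) * q⁻¹ ∈ E := by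
    rw [conj_eq]
    exact E.mul_mem (H.D.setup.Y_le (H.D.ext.cm hq hi')) (E.mul_mem hu (E.zpow_mem hxE i))
  have h3 : q * u * q⁻¹ = (q * (u * x ^ i) * q⁻¹) * (q * x * q⁻¹) ^ (-i) := by
    rw [conj_zpow, zpow_neg]; group
  rw [h3]
  exact E.mul_mem h2 (E.zpow_mem h1 _)

theorem comm_mem_of_normalizer (_H : IHyp p F Q E α z) {q : Ω}
    (hN : q ∈ Subgroup.normalizer (E : Set Ω)) : ⁅q, ((α z : E) : Ω)⁆ ∈ E := by
  have h1 := (Subgroup.mem_normalizer_iff.1 hN _).1 (α z).2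
  exact E.mul_mem h1 (E.inv_mem (α z).2)

/-- `⁅q, u⁆ ∈ Z` for `u ∈ E` if `⁅q, x⁆ ∈ Z`. -/
theorem comm_mem_Z (H : IHyp p F Q E α z) {q : Ω} (hq : q ∈ Q)
    (hqx : ⁅q, ((α z : E) : Ω)⁆ ∈ ZQ Q) {u : Ω} (hu : u ∈ E) : ⁅q, u⁆ ∈ ZQ Q := by
  set x := ((α z : E) : Ω) with hx
  have hxE : x ∈ E := (α z).2
  have hxS := H.x_mem
  obtain ⟨i, hi⟩ := H.index ⟨u, hu⟩
  have hi' : u * x ^ i ∈ Q := hi
  have h0 : u = (u * x ^ i) * x ^ (-i) := by rw [zpow_neg]; group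
  have h1 : ⁅q, x ^ (-i)⁆ ∈ ZQ Q := by
    have h2 : q * x ^ (-i) * q⁻¹ = (⁅q, x⁆) ^ (-i) * x ^ (-i) := by
      rw [← conj_zpow, conj_eq]
      have hc : Commute ⁅q, x⁆ x := (H.D.ext.Z_comm hxS hqx).symm
      exact hc.mul_zpow _
    have h3 : ⁅q, x ^ (-i)⁆ = (⁅q, x⁆) ^ (-i) := by
      rw [commutatorElement_def, h2]; group
    rw [h3]
    exact (ZQ Q).zpow_mem hqx _
  rw [h0, comm_mul_right, H.D.ext.conj_Z (H.D.ext.le hi') h1]
  exact (ZQ Q).mul_mem (H.D.ext.cm hq hi') h1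

/-- If some `y₂ ∈ Q \ E` has `⁅y₂, x⁆ ∈ Z`, then all elements of `N_Q(E)` have this property. -/
theorem two (H : IHyp p F Q E α z) {y2 : Ω} (hy2 : y2 ∈ Q)
    (hy2x : ⁅y2, ((α z : E) : Ω)⁆ ∈ ZQ Q) (hy2E : y2 ∉ E) {y : Ω} (hy : y ∈ Q)
    (hyN : y ∈ Subgroup.normalizer (E : Set Ω)) : ⁅y, ((α z : E) : Ω)⁆ ∈ ZQ Q := by
  by_contra hwZ
  have hES := H.D.setup.le_S
  have hfinE : Finite E := finite_of_le hES
  obtain ⟨x, hx⟩ : ∃ x : E, x = α z := ⟨_, rfl⟩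
  rw [← hx] at hy2x hwZ
  have hxS : (x : Ω) ∈ S := hES x.2
  have hxp : x ^ p = 1 := by rw [hx]; exact H.x_pow
  have hwE : ⁅y, (x : Ω)⁆ ∈ E := by rw [hx]; exact H.comm_mem_of_normalizer hyN
  have hwQ : ⁅y, (x : Ω)⁆ ∈ Q := by
    have h1 : ⁅y, (x : Ω)⁆ = y * ((x : Ω) * y⁻¹ * (x : Ω)⁻¹) := by rw [commutatorElement_def]; group
    rw [h1]
    exact Q.mul_mem hy (H.D.ext.conj_mem hxS (Q.inv_mem hy))
  obtain ⟨w, hw⟩ : ∃ w : E, (w : Ω) = ⁅y, (x : Ω)⁆ := ⟨⟨_, hwE⟩, rfl⟩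
  rw [← hw] at hwQ hwZ
  obtain ⟨z', hz'⟩ : ∃ z' : E, (z' : Ω) = ⁅y2, (x : Ω)⁆ := ⟨⟨_, H.D.setup.Y_le hy2x⟩, rfl⟩
  have hz'Z : (z' : Ω) ∈ ZQ Q := by rw [hz']; exact hy2x
  have hz'1 : z' ≠ 1 := by
    intro h
    apply hy2E
    apply H.mem_of_comm (H.D.ext.le hy2)
    rw [← hx, ← comm_eq_one, ← hz', h]
    rfl
  have hz'p : z' ^ p = 1 := H.pow z'
  -- automorphisms
  have hy2N : y2 ∈ Subgroup.normalizer (E : Set Ω) := by
    apply H.mem_normalizer hy2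
    rw [← hx, ← commutatorElement_inv]
    exact E.inv_mem (H.D.setup.Y_le hy2x)
  obtain ⟨t, ht⟩ := exists_conjAut hy2N
  have htF : t ∈ F.autGroup E :=
    autInducedBy_le_autGroup F hES ((mem_autInducedBy_iff S E t).2 ⟨y2, H.D.ext.le hy2, ht⟩)
  obtain ⟨c, hc⟩ := exists_conjAut hyN
  have hcF : c ∈ F.autGroup E :=
    autInducedBy_le_autGroup F hES ((mem_autInducedBy_iff S E c).2 ⟨y, H.D.ext.le hy, hc⟩)
  have htu : ∀ u : E, ∃ j : ℤ, t u = u * z ^ j := by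
    intro u
    have h1 : ⁅y2, (u : Ω)⁆ ∈ ZQ Q := H.comm_mem_Z hy2 (by rw [← hx]; exact hy2x) u.2
    obtain ⟨j, hj⟩ := H.D.gen H.hz H.z_ne (w := ⟨_, H.D.setup.Y_le h1⟩) h1
    refine ⟨j, ?_⟩
    rw [H.comm, hj]
    apply Subtype.ext
    rw [ht, conj_eq]
    rfl
  have htx : t x = x * z' := by
    rw [H.comm]
    apply Subtype.ext
    rw [ht, conj_eq, Subgroup.coe_mul, hz']
  have htZ : ∀ v : E, (v : Ω) ∈ ZQ Q → t v = v := fun v hv => Subtype.ext (by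
    rw [ht, H.D.ext.conj_Z (H.D.ext.le hy2) hv])
  have hcx : c x = w * x := by
    apply Subtype.ext
    rw [hc, conj_eq, Subgroup.coe_mul, hw]
  have hcZ : ∀ v : E, (v : Ω) ∈ ZQ Q → c v = v := fun v hv => Subtype.ext (by
    rw [hc, H.D.ext.conj_Z (H.D.ext.le hy) hv])
  -- t and c commute
  have htc : ∀ u : E, t (c u) = c (t u) := by
    intro u
    apply Subtype.ext
    rw [ht, hc, hc, ht]
    have h1 : ⁅y2, y⁆ ∈ ZQ Q := H.D.ext.cm hy2 hy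
    have h2 : y2 * y = ⁅y2, y⁆ * (y * y2) := by rw [commutatorElement_def]; group
    have h3 : y * y2 * (u : Ω) * (y * y2)⁻¹ ∈ S := by
      exact S.mul_mem (S.mul_mem (S.mul_mem (H.D.ext.le hy) (H.D.ext.le hy2)) (hES u.2))
        (S.inv_mem (S.mul_mem (H.D.ext.le hy) (H.D.ext.le hy2)))
    calc y2 * (y * (u : Ω) * y⁻¹) * y2⁻¹ = (y2 * y) * u * (y2 * y)⁻¹ := by group
      _ = ⁅y2, y⁆ * (y * y2 * (u : Ω) * (y * y2)⁻¹) * ⁅y2, y⁆⁻¹ := by rw [h2]; group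
      _ = y * y2 * (u : Ω) * (y * y2)⁻¹ := by
        rw [← H.D.ext.Z_comm h3 h1]; group
      _ = _ := by group
  have htw : t w = w := by
    have h1 := htc x
    rw [hcx, htx, map_mul, map_mul, htx, hcx, hcZ z' hz'Z] at h1
    -- t w * (x z') = w x z'
    have h2 : t w * (x * z') = w * (x * z') := by rw [h1]; group
    exact mul_right_cancel h2
  -- s
  obtain ⟨s, hs⟩ : ∃ s : MulAut E, s = α * t * α⁻¹ := ⟨_, rfl⟩
  have hsF : s ∈ F.autGroup E := by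
    rw [hs]
    exact mul_mem (mul_mem H.hα htF) (inv_mem H.hα)
  have hsu : ∀ u : E, ∃ j : ℤ, s u = u * x ^ j := by
    intro u
    obtain ⟨j, hj⟩ := htu (α⁻¹ u)
    refine ⟨j, ?_⟩
    rw [hs, MulAut.mul_apply, MulAut.mul_apply, hj, map_mul, MulAut.apply_inv_self, map_zpow, hx]
  have hsx : s x = x := by
    rw [hs, MulAut.mul_apply, MulAut.mul_apply, hx, MulAut.inv_apply_self, htZ z H.hz]
  obtain ⟨k, hk⟩ := hsu z'
  have hkp : ¬ (p : ℤ) ∣ k := by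
    intro hd
    have h1 : s z' = z' := by rw [hk, zpow_eq_one_of_dvd hxp hd, mul_one]
    have h2 : t (α⁻¹ z') = α⁻¹ z' := by
      apply α.injective
      rw [MulAut.apply_inv_self]
      have := h1
      rw [hs, MulAut.mul_apply, MulAut.mul_apply] at this
      exact this
    have h3 : y2 * (α⁻¹ z' : E) = (α⁻¹ z' : E) * y2 := by
      have h4 := congrArg Subtype.val h2
      rw [ht] at h4
      calc y2 * (α⁻¹ z' : E) = (y2 * (α⁻¹ z' : E) * y2⁻¹) * y2 := by group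
        _ = _ := by rw [h4]
    exact hy2E (H.D.mem_of_comm (inv_mem H.hα) hz'Z
      (H.D.inv_moved H.hz H.hm hz'Z hz'1) (H.D.ext.le hy2) h3)
  obtain ⟨j, hj⟩ := hsu w
  obtain ⟨k', hk'⟩ := exists_mul_sub_one hkp
  -- m = -j k'
  obtain ⟨m, hmdef⟩ : ∃ m : ℤ, m = -j * k' := ⟨_, rfl⟩
  have hsc : s (w * z' ^ m) = w * z' ^ m := by
    rw [map_mul, map_zpow, hj, hk]
    have cz : Commute z' (x ^ k) := H.comm _ _
    rw [cz.mul_zpow, ← zpow_mul]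
    have h1 : w * x ^ j * (z' ^ m * x ^ (k * m)) = w * z' ^ m * (x ^ (j + k * m)) := by
      rw [zpow_add]
      have : Commute (x ^ j) (z' ^ m) := H.comm _ _
      calc w * x ^ j * (z' ^ m * x ^ (k * m)) = w * (x ^ j * z' ^ m) * x ^ (k * m) := by group
        _ = w * (z' ^ m * x ^ j) * x ^ (k * m) := by rw [this.eq]
        _ = _ := by group
    rw [h1]
    have h2 : x ^ (j + k * m) = 1 := by
      apply zpow_eq_one_of_dvd hxp
      rw [hmdef]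
      have : j + k * (-j * k') = -j * (k * k' - 1) := by ring
      rw [this]
      exact Dvd.dvd.mul_left hk' _
    rw [h2, mul_one]
  have htc' : t (w * z' ^ m) = w * z' ^ m := by
    rw [map_mul, map_zpow, htw, htZ z' hz'Z]
  obtain ⟨n, hnF, hnx, -, hnf⟩ := exists_swap (G := F.autGroup E) htF hsF (H.comm x z') hxp htx
    (htZ z' hz'Z) hsx hk hkp (u := 1) (u' := 1) hz'p (by norm_num)
  have hnc := hnf _ htc' hsc
  rw [zpow_one] at hnx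
  have hti : (t ^ m) x = x * z' ^ m := pow_transvection htx (htZ z' hz'Z) m
  have htwi : (t ^ m) w = w := (MulAction.stabilizer (MulAut E) w).zpow_mem
      (show t ∈ MulAction.stabilizer (MulAut E) w from htw) m
  have hβ : (n * t ^ m * c * α) z = (w * z' ^ m) * z' := by
    rw [MulAut.mul_apply, MulAut.mul_apply, MulAut.mul_apply, ← hx, hcx, map_mul (t ^ m), htwi, hti]
    have h1 : w * (x * z' ^ m) = (w * z' ^ m) * x := by
      rw [H.comm x (z' ^ m)]; group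
    rw [h1, map_mul, hnc, hnx]
  have hβF : n * t ^ m * c * α ∈ F.autGroup E :=
    mul_mem (mul_mem (mul_mem hnF (zpow_mem htF m)) hcF) H.hα
  have h1 : (((w * z' ^ m) * z' : E) : Ω) ∈ ZQ Q := by
    rw [← hβ]
    apply H.hI _ hβF z H.hz
    rw [hβ]
    exact Q.mul_mem (Q.mul_mem hwQ (Q.zpow_mem (ZQ_le Q hz'Z) m)) (ZQ_le Q hz'Z)
  apply hwZ
  have h2 : (w : Ω) = (((w * z' ^ m) * z' : E) : Ω) * ((z' : Ω) ^ m * z')⁻¹ := by
    rw [Subgroup.coe_mul, Subgroup.coe_mul, Subgroup.coe_zpow]; group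
  rw [h2]
  exact (ZQ Q).mul_mem h1 ((ZQ Q).inv_mem ((ZQ Q).mul_mem ((ZQ Q).zpow_mem hz'Z m) hz'Z))

/-- If `⁅x, c⁆ ∈ Z` then `c` commutes with `⁅x, q⁆` (`c, q ∈ Q`). -/
theorem easy_half (h : Ext p S Q) {x c q : Ω} (hx : x ∈ S) (hc : c ∈ Q) (hxc : ⁅x, c⁆ ∈ ZQ Q)
    (hq : q ∈ Q) : ⁅⁅x, q⁆, c⁆ = 1 := by
  have hxq := h.comm_mem_Q hx hq
  have h1 := h.invar hx hq hc
  have h2 : ⁅q, ⁅x, c⁆⁆ = 1 := by
    rw [comm_eq_one]; exact (mem_ZQ.1 hxc).2 q hq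
  have h3 : ⁅⁅x, q⁆, ⁅x, c⁆⁆ = 1 := by
    rw [comm_eq_one]; exact (mem_ZQ.1 hxc).2 _ hxq
  rw [conj_eq x q, conj_eq x c, h.bil_left hxq hq (Q.mul_mem (ZQ_le Q hxc) hc),
    h.bil_right hxq (ZQ_le Q hxc) hc, h.bil_right hq (ZQ_le Q hxc) hc, h2, h3, one_mul, one_mul] at h1
  exact mul_eq_right.1 h1

/-- Case (I-a): if some `y₂ ∈ Q \ E` has `⁅y₂, x⁆ ∈ Z`, then `C_Q(x) = Z`. -/
theorem caseP (H : IHyp p F Q E α z) {y2 : Ω} (hy2 : y2 ∈ Q)
    (hy2x : ⁅y2, ((α z : E) : Ω)⁆ ∈ ZQ Q) (hy2E : y2 ∉ E) :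
    ∀ w ∈ Q, ((α z : E) : Ω) * w = w * (α z : E) → w ∈ ZQ Q := by
  have hext := H.D.ext
  have hxS := H.x_mem
  set x := ((α z : E) : Ω) with hx
  -- (i)
  have hi : ∀ q ∈ Q, ⁅x, q⁆ ∈ E → ⁅x, q⁆ ∈ ZQ Q := by
    intro q hq hxq
    have h1 := H.two hy2 hy2x hy2E hq (H.mem_normalizer hq hxq)
    rw [← commutatorElement_inv]
    exact (ZQ Q).inv_mem h1
  -- (ii)
  have hne : ∃ q ∈ Q, ⁅x, q⁆ ∉ ZQ Q := by
    by_contra hcon
    push Not at hcon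
    refine Ext.pow_arith hp.out.one_lt H.D.card_Q (hext.card_le_of_star le_rfl hcon)
      (hext.card_sq_le inf_le_left ?_)
    intro u hu v hv
    have hu' := H.mem_of_comm (hext.le hu.1) (Subgroup.mem_centralizer_iff.1 hu.2 x rfl).symm
    have hv' := H.mem_of_comm (hext.le hv.1) (Subgroup.mem_centralizer_iff.1 hv.2 x rfl).symm
    exact congrArg Subtype.val (H.comm ⟨u, hu'⟩ ⟨v, hv'⟩)
  obtain ⟨q, hq, hqZ⟩ := hne
  obtain ⟨n, hn1, hn2⟩ := exists_iterate H.D.pg hxS (hext.le (hext.comm_mem_Q hxS hq))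
    (Z := (ZQ Q : Set Ω)) (ZQ Q).one_mem hqZ
  rw [Function.iterate_succ_apply'] at hn2
  -- c0 = ⁅x, q'⁆
  obtain ⟨q', hq', hc0⟩ : ∃ q' ∈ Q, (fun r => ⁅x, r⁆)^[n] ⁅x, q⁆ = ⁅x, q'⁆ := by
    refine ⟨(fun r => ⁅x, r⁆)^[n] q, iterate_mem hext hxS hq n, ?_⟩
    exact (Function.iterate_succ_apply (fun r => ⁅x, r⁆) n q).symm.trans
      (Function.iterate_succ_apply' (fun r => ⁅x, r⁆) n q)
  rw [hc0] at hn1 hn2
  have hc0Q := hext.comm_mem_Q hxS hq'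
  have hn2' : ⁅x, ⁅x, q'⁆⁆ ∈ ZQ Q := hn2
  have hc0E : ⁅x, q'⁆ ∉ E := fun h => hn1 (hi q' hq' h)
  have hxc0 : ⁅x, ⁅x, q'⁆⁆ ≠ 1 := by
    intro h
    apply hc0E
    exact H.mem_of_comm (hext.le hc0Q) (comm_eq_one.1 h).symm
  intro w hw hxw
  have hwE : w ∈ E := H.mem_of_comm (hext.le hw) hxw.symm
  -- w centralizes C*
  obtain ⟨r, hr, ζ, hζ, hwr⟩ := hext.duality hxS hw (by
    intro c hc hcZ
    have hcZ' : ⁅x, c⁆ ∈ ZQ Q := hcZ
    obtain ⟨i, hi'⟩ := hext.Z_gen hn2' hxc0 ((ZQ Q).inv_mem hcZ')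
    have h1 : ⁅x, c * ⁅x, q'⁆ ^ i⁆ = 1 := by
      have h2 : ⁅x, ⁅x, q'⁆ ^ i⁆ = ⁅x, ⁅x, q'⁆⁆ ^ i := by
        have h3 : x * ⁅x, q'⁆ ^ i * x⁻¹ = ⁅x, ⁅x, q'⁆⁆ ^ i * ⁅x, q'⁆ ^ i := by
          rw [← conj_zpow, conj_eq]
          have hcc : Commute ⁅x, ⁅x, q'⁆⁆ ⁅x, q'⁆ := ((mem_ZQ.1 hn2').2 _ hc0Q).symm
          exact hcc.mul_zpow i
        rw [commutatorElement_def, h3]; group
      rw [comm_mul_right, h2, hi', hext.conj_Z (hext.le hc) ((ZQ Q).inv_mem hcZ'), mul_inv_cancel]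
    have hcE : c * ⁅x, q'⁆ ^ i ∈ E :=
      H.mem_of_comm (hext.le (Q.mul_mem hc (Q.zpow_mem hc0Q i))) (comm_eq_one.1 h1).symm
    have c1 : Commute (c * ⁅x, q'⁆ ^ i) w :=
      congrArg Subtype.val (H.comm ⟨_, hcE⟩ ⟨w, hwE⟩)
    have hwx : ⁅x, w⁆ ∈ ZQ Q := by rw [comm_eq_one.2 hxw]; exact (ZQ Q).one_mem
    have c2 : Commute ⁅x, q'⁆ w := comm_eq_one.1 (easy_half hext hxS hw hwx hq')
    have h4 : c = (c * ⁅x, q'⁆ ^ i) * (⁅x, q'⁆ ^ i)⁻¹ := by group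
    rw [h4]
    exact (c1.mul_left (c2.zpow_left i).inv_left))
  have hrE : ⁅x, r⁆ ∈ E := by
    have : ⁅x, r⁆ = w * ζ⁻¹ := by rw [hwr, commutatorElement_def]; group
    rw [this]
    exact E.mul_mem hwE (E.inv_mem (H.D.setup.Y_le hζ))
  rw [hwr]
  exact (ZQ Q).mul_mem (hi r hr hrE) hζ

end IHyp

end Cfsg.Agent.H764
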