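import Cfsg.Agent.H764.Bil

/-!
# S5177, case M: the group theory (helper764)
-/

set_option autoImplicit false
set_option linter.unusedSectionVars false

namespace Cfsg.Agent.H764

open Cfsg Cfsg.FusionSystem Cfsg.Agent.H802
open scoped commutatorElement

variable {Ω : Type*} [Group Ω] {S Q : Subgroup Ω} {p : ℕ} [hp : Fact p.Prime]

/-- If `D ≤ P` has index at most `p` in the finite `p`-group `P` and `c ∈ P \ D`, then `P = D⟨c⟩`. -/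
theorem exists_mul_zpow_mem_of_card {P D : Subgroup Ω} [Finite P] (hP : IsPGroup p P) (hD : D ≤ P)
    (hcard : Nat.card P ≤ p * Nat.card D) {c : Ω} (hc : c ∈ P) (hcD : c ∉ D) {s : Ω} (hs : s ∈ P) :
    ∃ i : ℤ, s * c ^ i ∈ D := by
  have hidx : (D.subgroupOf P).index = p := by
    have h1 := (D.subgroupOf P).index_mul_card
    rw [Nat.card_congr (Subgroup.subgroupOfEquivOfLe hD).toEquiv] at h1
    have hfin : Finite D := finite_of_le hD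
    have hpos : 0 < Nat.card D := Nat.card_pos
    have h2 : (D.subgroupOf P).index ≤ p := by
      rw [← h1] at hcard
      exact Nat.le_of_mul_le_mul_right hcard hpos
    have h3 : (D.subgroupOf P).index ≠ 1 := by
      rw [Ne, Subgroup.index_eq_one, Subgroup.subgroupOf_eq_top]
      exact fun h => hcD (h hc)
    obtain ⟨n, hn⟩ := hP.exists_card_eq
    have h4 : (D.subgroupOf P).index ∣ p ^ n := by
      rw [← hn]
      exact Subgroup.index_dvd_card _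
    obtain ⟨m, -, hm⟩ := (Nat.dvd_prime_pow hp.out).1 h4
    rw [hm] at h2 h3 ⊢
    have hm0 : m ≠ 0 := by
      rintro rfl
      exact h3 (pow_zero p)
    have hm1 : m ≤ 1 := by
      by_contra hlt
      push Not at hlt
      have h5 : p ^ 1 < p ^ m := Nat.pow_lt_pow_right hp.out.one_lt hlt
      rw [pow_one] at h5
      omega
    have : m = 1 := by omega
    rw [this, pow_one]
  have hnorm : (D.subgroupOf P).Normal := by
    apply Subgroup.normal_of_index_eq_minFac_card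
    rw [hidx]
    obtain ⟨n, hn⟩ := hP.exists_card_eq
    have hn0 : n ≠ 0 := by
      rintro rfl
      have h1 := (D.subgroupOf P).index_mul_card
      rw [hidx, hn, pow_zero] at h1
      exact hp.out.one_lt.ne' (Nat.eq_one_of_mul_eq_one_right h1)
    rw [hn, hp.out.pow_minFac hn0]
  exact exists_mul_zpow_mem_of_index hidx
    (fun g hg q hq => hnorm.conj_mem ⟨q, hD hq⟩ hq ⟨g, hg⟩) hD hc hcD hs

/-- Input of `form4`. -/
def Hyp4 (p : ℕ) (S Q : Subgroup Ω) : Prop :=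
  ∃ x ∈ S, x ∉ Q ∧ x ^ p = 1 ∧
    (∀ q ∈ Q, ∀ r ∈ Q, x * q = q * x → x * r = r * x → q * r = r * q) ∧
    (∀ q ∈ Q, x * (x * q * x⁻¹ * q⁻¹) = (x * q * x⁻¹ * q⁻¹) * x) ∧
    (∀ q ∈ Q, x * q * x⁻¹ * q⁻¹ ∈ ZQ Q → x * q = q * x)

/-- Input of `formG`. -/
def HypG (p : ℕ) (S Q : Subgroup Ω) : Prop :=
  ∃ x ∈ S, x ∉ Q ∧ x ^ p = 1 ∧ ∃ y ∈ Q, ∃ e k a : Ω, e = x * y * x⁻¹ * y⁻¹ ∧
    k = x * e * x⁻¹ * e⁻¹ ∧ a = x * k * x⁻¹ * k⁻¹ ∧ a ∉ ZQ Q ∧ x * a = a * x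

/-- The group theoretic data of case M. -/
structure MDat (p : ℕ) (S Q E E1 : Subgroup Ω) (a : Ω) : Prop where
  ext : Ext p S Q
  card_Q : p ^ 5 ≤ Nat.card Q
  E_le : E ≤ S
  E1_le : E1 ≤ E
  a_mem : a ∈ Q
  a_not : a ∉ ZQ Q
  a_pow : a ^ p = 1
  comm_a : ∀ e ∈ E, e * a = a * e
  mem_E : ∀ g ∈ S, g * a = a * g → g ∈ E
  comm1 : ∀ u ∈ E1, ∀ v ∈ E1, ⁅u, v⁆ ∈ Subgroup.zpowers a
  conj1 : ∀ g ∈ E, ∀ u ∈ E1, g * u * g⁻¹ ∈ E1
  a1 : a ∈ E1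
  Z1 : ZQ Q ≤ E1
  index1 : ∀ c ∈ E, c ∉ E1 → ∀ u ∈ E, ∃ i : ℤ, u * c ^ i ∈ E1
  noncomm1 : ∃ u ∈ E1, ∃ v ∈ E1, u * v ≠ v * u
  card1 : Nat.card (E ⊓ Q : Subgroup Ω) ≤ p * Nat.card (E1 ⊓ Q : Subgroup Ω)
  pow1 : ∀ u ∈ E1, u ^ p ∈ Subgroup.zpowers a
  pow_iff : (∀ u ∈ E, u ∈ Q → u ^ p = 1) → ∀ u ∈ E1, u ^ p = 1

namespace MDat

variable [Finite S] {E E1 : Subgroup Ω} {a : Ω}

theorem zpow_mem_iff (M : MDat p S Q E E1 a) {j : ℤ} (h : a ^ j ∈ ZQ Q) : a ^ j = 1 := by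
  by_cases hj : (p : ℤ) ∣ j
  · exact zpow_eq_one_of_dvd M.a_pow hj
  · exfalso
    obtain ⟨k, hk⟩ := exists_mul_sub_one hj
    apply M.a_not
    have h1 : a ^ (j * k) = a ^ (1 : ℤ) := zpow_eq_zpow_of_modEq M.a_pow hk
    rw [zpow_one] at h1
    rw [← h1, zpow_mul]
    exact (ZQ Q).zpow_mem h k

theorem inter (M : MDat p S Q E E1 a) {w : Ω} (h : w ∈ Subgroup.zpowers a) (h' : w ∈ ZQ Q) :
    w = 1 := by
  obtain ⟨j, rfl⟩ := Subgroup.mem_zpowers_iff.1 h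
  exact M.zpow_mem_iff h'

/-- `K = E1 ∩ Q` is abelian. -/
theorem K_comm (M : MDat p S Q E E1 a) {u v : Ω} (hu : u ∈ E1) (huQ : u ∈ Q) (hv : v ∈ E1)
    (hvQ : v ∈ Q) : u * v = v * u := by
  rw [← comm_eq_one]
  exact M.inter (M.comm1 u hu v hv) (M.ext.cm huQ hvQ)

theorem K_pow (M : MDat p S Q E E1 a) {u : Ω} (hu : u ∈ E1) (huQ : u ∈ Q) : u ^ p = 1 :=
  M.inter (M.pow1 u hu) (M.ext.pow_mem huQ)

theorem le_centralizer (M : MDat p S Q E E1 a) : Q ⊓ Subgroup.centralizer {a} ≤ E ⊓ Q := by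
  intro q hq
  exact ⟨M.mem_E q (M.ext.le hq.1) (Subgroup.mem_centralizer_iff.1 hq.2 a rfl).symm, hq.1⟩

theorem card_Q_eq (M : MDat p S Q E E1 a) : Nat.card Q = p ^ 5 := by
  have hfin : Finite Q := finite_of_le M.ext.le
  have hfin2 : Finite (E ⊓ Q : Subgroup Ω) := finite_of_le (S := Q) inf_le_right
  have h1 : Nat.card Q ≤ p * Nat.card (E ⊓ Q : Subgroup Ω) :=
    (M.ext.card_le_centralizer M.a_mem).trans
      (Nat.mul_le_mul_left _ (Nat.card_mono (Set.toFinite _) M.le_centralizer))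
  have h2 := M.card1
  set k := Nat.card (E1 ⊓ Q : Subgroup Ω) with hk
  have h3 : k * k ≤ p * Nat.card Q := by
    refine M.ext.card_sq_le inf_le_right ?_
    intro u hu v hv
    exact M.K_comm hu.1 hu.2 hv.1 hv.2
  have h4 : Nat.card Q ≤ p * (p * k) := h1.trans (Nat.mul_le_mul_left _ h2)
  have hkpos : 0 < k := by
    have : Finite (E1 ⊓ Q : Subgroup Ω) := finite_of_le (S := Q) inf_le_right
    exact Nat.card_pos
  have h5 : k ≤ p ^ 3 := by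
    have h6 : k * k ≤ p ^ 3 * k := by
      calc k * k ≤ p * Nat.card Q := h3
        _ ≤ p * (p * (p * k)) := Nat.mul_le_mul_left _ h4
        _ = p ^ 3 * k := by ring
    exact Nat.le_of_mul_le_mul_right h6 hkpos
  apply le_antisymm _ M.card_Q
  calc Nat.card Q ≤ p * (p * k) := h4
    _ ≤ p * (p * p ^ 3) := Nat.mul_le_mul_left _ (Nat.mul_le_mul_left _ h5)
    _ = p ^ 5 := by ring

theorem exists_x (M : MDat p S Q E E1 a) : ∃ x ∈ E1, x ∉ Q := by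
  obtain ⟨u, hu, v, hv, huv⟩ := M.noncomm1
  by_contra hcon
  push Not at hcon
  exact huv (M.K_comm hu (hcon u hu) hv (hcon v hv))

theorem exists_y (M : MDat p S Q E E1 a) : ∃ y ∈ Q, ⁅y, a⁆ ≠ 1 := by
  by_contra hcon
  push Not at hcon
  apply M.a_not
  rw [mem_ZQ]
  exact ⟨M.a_mem, fun q hq => comm_eq_one.1 (hcon q hq)⟩

/-- `k ∈ K` not commuting with `x`. -/
theorem exists_k (M : MDat p S Q E E1 a) {x : Ω} (hx : x ∈ E1) (hxQ : x ∉ Q) :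
    ∃ k ∈ E1, k ∈ Q ∧ ⁅x, k⁆ ≠ 1 := by
  obtain ⟨u, hu, v, hv, huv⟩ := M.noncomm1
  by_contra hcon
  push Not at hcon
  apply huv
  have key : ∀ w ∈ E1, ∃ i : ℤ, ∃ k ∈ E1, k ∈ Q ∧ w = k * x ^ i := by
    intro w hw
    obtain ⟨i, hi⟩ := M.ext.exists_zpow (M.E_le (M.E1_le hx)) hxQ (M.E_le (M.E1_le hw))
    exact ⟨-i, w * x ^ i, E1.mul_mem hw (E1.zpow_mem hx i), hi, by rw [zpow_neg]; group⟩
  obtain ⟨i, k, hk, hkQ, rfl⟩ := key u hu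
  obtain ⟨j, l, hl, hlQ, rfl⟩ := key v hv
  have h1 : Commute k l := M.K_comm hk hkQ hl hlQ
  have h2 : Commute x k := comm_eq_one.1 (hcon k hk hkQ)
  have h3 : Commute x l := comm_eq_one.1 (hcon l hl hlQ)
  have h4 : Commute (k * x ^ i) (l * x ^ j) :=
    (h1.mul_left (h3.zpow_left i)).mul_right ((h2.symm.zpow_right j).mul_left
      ((Commute.refl x).zpow_zpow i j))
  exact h4

variable {x y k : Ω}

/-- `⁅x, k⁆` is a power of `a`. -/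
theorem xk_mem (M : MDat p S Q E E1 a) (hx : x ∈ E1) (hk : k ∈ E1) :
    ⁅x, k⁆ ∈ Subgroup.zpowers a := M.comm1 x hx k hk

theorem xy_comm_a (M : MDat p S Q E E1 a) (hx : x ∈ E1) (hy : y ∈ Q) : ⁅⁅x, y⁆, a⁆ = 1 := by
  have hxS := M.E_le (M.E1_le hx)
  have h1 := M.ext.invar hxS hy M.a_mem
  have h2 : x * a * x⁻¹ = a := by
    rw [M.comm_a x (M.E1_le hx)]; group
  rw [h2, conj_eq, M.ext.bil_left (M.ext.comm_mem_Q hxS hy) hy M.a_mem] at h1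
  exact mul_eq_right.1 h1

theorem xy_mem (M : MDat p S Q E E1 a) (hx : x ∈ E1) (hy : y ∈ Q) : ⁅x, y⁆ ∈ E :=
  M.mem_E _ (M.ext.le (M.ext.comm_mem_Q (M.E_le (M.E1_le hx)) hy))
    (comm_eq_one.1 (M.xy_comm_a hx hy))

/-- powers of `a` do not commute with `y`. -/
theorem comm_y (M : MDat p S Q E E1 a) (hy : y ∈ Q) (hya : ⁅y, a⁆ ≠ 1) {w : Ω}
    (hw : w ∈ Subgroup.zpowers a) (h : ⁅y, w⁆ = 1) : w = 1 := by
  obtain ⟨j, rfl⟩ := Subgroup.mem_zpowers_iff.1 hw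
  rw [M.ext.zpow_right M.a_mem hy] at h
  by_cases hj : (p : ℤ) ∣ j
  · exact zpow_eq_one_of_dvd M.a_pow hj
  · exfalso
    obtain ⟨k, hk⟩ := exists_mul_sub_one hj
    apply hya
    have h1 : ⁅y, a⁆ ^ (j * k) = ⁅y, a⁆ ^ (1 : ℤ) :=
      zpow_eq_zpow_of_modEq (M.ext.Z_pow (M.ext.cm hy M.a_mem)) hk
    rw [zpow_one, zpow_mul, h, one_zpow] at h1
    exact h1.symm

theorem ek (M : MDat p S Q E E1 a) (hx : x ∈ E1) (hy : y ∈ Q) (hya : ⁅y, a⁆ ≠ 1) (hk : k ∈ E1)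
    (hkQ : k ∈ Q) (hxk : ⁅x, k⁆ ≠ 1) : ⁅⁅x, y⁆, k⁆ ≠ 1 := by
  intro h0
  apply hxk
  have hxS := M.E_le (M.E1_le hx)
  have hb := M.xk_mem hx hk
  apply M.comm_y hy hya hb
  have heQ := M.ext.comm_mem_Q hxS hy
  have hbQ := M.ext.comm_mem_Q hxS hkQ
  have h1 := M.ext.invar hxS hy hkQ
  have h2 : ⁅⁅x, y⁆, ⁅x, k⁆⁆ = 1 := by
    obtain ⟨j, hj⟩ := Subgroup.mem_zpowers_iff.1 hb
    rw [← hj, M.ext.zpow_right M.a_mem heQ, M.xy_comm_a hx hy, one_zpow]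
  rw [conj_eq x y, conj_eq x k, M.ext.bil_left heQ hy (Q.mul_mem hbQ hkQ),
    M.ext.bil_right heQ hbQ hkQ, M.ext.bil_right hy hbQ hkQ, h0, h2, mul_one, one_mul] at h1
  exact mul_eq_right.1 h1

theorem e_not (M : MDat p S Q E E1 a) (hx : x ∈ E1) (hxQ : x ∉ Q) (hy : y ∈ Q)
    (hya : ⁅y, a⁆ ≠ 1) : ⁅x, y⁆ ∉ E1 := by
  intro h
  obtain ⟨k, hk, hkQ, hxk⟩ := M.exists_k hx hxQ
  apply M.ek hx hy hya hk hkQ hxk
  rw [comm_eq_one]
  exact M.K_comm h (M.ext.comm_mem_Q (M.E_le (M.E1_le hx)) hy) hk hkQ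

/-- `E ∩ Q` has exponent `p`. -/
theorem pow_E0 (M : MDat p S Q E E1 a) {q : Ω} (hq : q ∈ E) (hqQ : q ∈ Q) : q ^ p = 1 := by
  obtain ⟨x, hx, hxQ⟩ := M.exists_x
  obtain ⟨y, hy, hya⟩ := M.exists_y
  have hxS := M.E_le (M.E1_le hx)
  have heQ := M.ext.comm_mem_Q hxS hy
  have hep : ⁅x, y⁆ ^ p = 1 := by
    have h1 : ⁅x, y⁆ = (x * y * x⁻¹) * y⁻¹ := rfl
    rw [h1, M.ext.mul_pow (M.ext.conj_mem hxS hy) (Q.inv_mem hy)]
    have h2 : (x * y * x⁻¹) ^ p = x * y ^ p * x⁻¹ := conj_pow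
    rw [h2, M.ext.conj_Z hxS (M.ext.pow_mem hy), inv_pow]
    exact mul_inv_cancel _
  obtain ⟨i, hi⟩ := M.index1 _ (M.xy_mem hx hy) (M.e_not hx hxQ hy hya) q hq
  have h3 := M.K_pow hi (Q.mul_mem hqQ (Q.zpow_mem heQ i))
  rw [M.ext.zpow_mul_pow hqQ heQ, hep, one_zpow, mul_one] at h3
  exact h3

theorem pow_E1 (M : MDat p S Q E E1 a) {u : Ω} (hu : u ∈ E1) : u ^ p = 1 :=
  M.pow_iff (fun _ h1 h2 => M.pow_E0 h1 h2) u hu

/-- decomposition `Q = (E ∩ Q)⟨y⟩`. -/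
theorem exists_y_zpow (M : MDat p S Q E E1 a) (hy : y ∈ Q) (hya : ⁅y, a⁆ ≠ 1) {q : Ω}
    (hq : q ∈ Q) : ∃ i : ℤ, q * y ^ i ∈ E := by
  obtain ⟨i, hi⟩ := M.ext.Z_gen (M.ext.cm hy M.a_mem) hya ((ZQ Q).inv_mem (M.ext.cm hq M.a_mem))
  refine ⟨i, M.mem_E _ (M.ext.le (Q.mul_mem hq (Q.zpow_mem hy i))) ?_⟩
  rw [← comm_eq_one, M.ext.bil_left hq (Q.zpow_mem hy i) M.a_mem, M.ext.zpow_left hy M.a_mem, hi,
    mul_inv_cancel]

/-- If `y ^ p = 1` then `Q` has exponent `p`. -/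
theorem pow_Q (M : MDat p S Q E E1 a) (hy : y ∈ Q) (hya : ⁅y, a⁆ ≠ 1) (hyp : y ^ p = 1) {q : Ω}
    (hq : q ∈ Q) : q ^ p = 1 := by
  obtain ⟨i, hi⟩ := M.exists_y_zpow hy hya hq
  have h1 := M.pow_E0 hi (Q.mul_mem hq (Q.zpow_mem hy i))
  rwa [M.ext.zpow_mul_pow hq hy, hyp, one_zpow, mul_one] at h1

/-- The condition of `Ext.apply_mem`. -/
theorem star (M : MDat p S Q E E1 a) (hx : x ∈ E1) (hxQ : x ∉ Q) (D : Subgroup Ω) (hD : D ≤ Q)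
    (hcard : Nat.card Q ≤ p * Nat.card D) : ∃ d ∈ D, ⁅x, d⁆ ∉ ZQ Q := by
  have hxS := M.E_le (M.E1_le hx)
  have hfin : Finite Q := finite_of_le M.ext.le
  obtain ⟨y, hy, hya⟩ := M.exists_y
  obtain ⟨k, hk, hkQ, hxk⟩ := M.exists_k hx hxQ
  have hxkZ : ⁅x, k⁆ ∉ ZQ Q := fun h => hxk (M.inter (M.xk_mem hx hk) h)
  by_cases hkD : k ∈ D
  · exact ⟨k, hkD, hxkZ⟩
  -- `D` has index `p` and contains `y k^j`
  have hyk : ∃ j : ℤ, y * k ^ j ∈ D :=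
    exists_mul_zpow_mem_of_card (M.ext.pg.to_le M.ext.le) hD hcard hkQ hkD hy
  obtain ⟨j, hj⟩ := hyk
  refine ⟨_, hj, fun hcon => ?_⟩
  obtain ⟨ζ, hζ, e1⟩ := M.ext.comm_mul_mod hxS hy (Q.zpow_mem hkQ j)
  obtain ⟨ζ', hζ', e2⟩ := M.ext.comm_zpow_mod hxS hkQ j
  rw [e1, e2] at hcon
  -- ⁅x,y⁆ ∈ E1
  apply M.e_not hx hxQ hy hya
  have h1 : ⁅x, y⁆ = (⁅x, y⁆ * (⁅x, k⁆ ^ j * ζ') * ζ) * ζ⁻¹ * (⁅x, k⁆ ^ j * ζ')⁻¹ := by group
  rw [h1]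
  have h2 : ⁅x, k⁆ ∈ E1 := by
    have := M.xk_mem hx hk
    exact (Subgroup.zpowers_le.2 M.a1) this
  exact E1.mul_mem (E1.mul_mem (M.Z1 hcon) (E1.inv_mem (M.Z1 hζ)))
    (E1.inv_mem (E1.mul_mem (E1.zpow_mem h2 j) (M.Z1 hζ')))

theorem xe_mem (M : MDat p S Q E E1 a) (hx : x ∈ E1) {e : Ω} (he : e ∈ E) (heQ : e ∈ Q) :
    ⁅x, e⁆ ∈ E1 ∧ ⁅x, e⁆ ∈ Q := by
  refine ⟨?_, M.ext.comm_mem_Q (M.E_le (M.E1_le hx)) heQ⟩
  have h1 : ⁅x, e⁆ = x * (e * x⁻¹ * e⁻¹) := by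
    rw [commutatorElement_def]; group
  rw [h1]
  exact E1.mul_mem hx (M.conj1 e he _ (E1.inv_mem hx))

/-- The case `⁅x, e⁆ ∈ Z`, `e = ⁅x, y⁆`. -/
theorem hyp4 (M : MDat p S Q E E1 a) (hx : x ∈ E1) (hxQ : x ∉ Q) (hy : y ∈ Q) (hya : ⁅y, a⁆ ≠ 1)
    (hyp : y ^ p = 1) (hxe : ⁅x, ⁅x, y⁆⁆ = 1) : Hyp4 p S Q := by
  have hxS := M.E_le (M.E1_le hx)
  set e := ⁅x, y⁆ with he
  have heQ : e ∈ Q := M.ext.comm_mem_Q hxS hy
  have heE : e ∈ E := M.xy_mem hx hy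
  obtain ⟨k, hk, hkQ, hxk⟩ := M.exists_k hx hxQ
  set b := ⁅x, k⁆ with hb
  have hbz : b ∈ Subgroup.zpowers a := M.xk_mem hx hk
  have hbQ : b ∈ Q := M.ext.comm_mem_Q hxS hkQ
  have hek : ⁅e, k⁆ ≠ 1 := M.ek hx hy hya hk hkQ hxk
  have hbx : Commute x b := by
    obtain ⟨j, hj⟩ := Subgroup.mem_zpowers_iff.1 hbz
    rw [← hj]
    exact (show Commute x a from M.comm_a x (M.E1_le hx)).zpow_right j
  have hexc : Commute x e := comm_eq_one.1 hxe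
  -- C_K(x) commutes with e
  have hce : ∀ c ∈ E1, c ∈ Q → ⁅x, c⁆ = 1 → ⁅e, c⁆ = 1 := by
    intro c hc hcQ hxc
    have h1 := M.ext.invar hxS hy hcQ
    rw [conj_eq x y, conj_eq x c, hxc, one_mul, ← he, M.ext.bil_left heQ hy hcQ] at h1
    exact mul_eq_right.1 h1
  -- decomposition
  have hdec : ∀ q ∈ Q, ∃ i n l : ℤ, ∃ c ∈ E1, c ∈ Q ∧ ⁅x, c⁆ = 1 ∧
      q = c * (k ^ l * (e ^ n * y ^ i)) := by
    intro q hq
    obtain ⟨i, hi⟩ := M.exists_y_zpow hy hya hq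
    have hqi : q * y ^ i ∈ Q := Q.mul_mem hq (Q.zpow_mem hy i)
    obtain ⟨n, hn⟩ := M.index1 e heE (M.e_not hx hxQ hy hya) _ hi
    have hqn : q * y ^ i * e ^ n ∈ Q := Q.mul_mem hqi (Q.zpow_mem heQ n)
    -- kill the commutator with x
    have h1 : ⁅x, q * y ^ i * e ^ n⁆ ∈ Subgroup.zpowers b := by
      obtain ⟨j, hj⟩ := Subgroup.mem_zpowers_iff.1 (M.xk_mem hx hn)
      obtain ⟨j', hj'⟩ := Subgroup.mem_zpowers_iff.1 hbz
      have hj'p : ¬ (p : ℤ) ∣ j' := by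
        intro hd
        apply hxk
        rw [← hj']
        exact zpow_eq_one_of_dvd M.a_pow hd
      obtain ⟨m, hm⟩ := exists_mul_sub_one hj'p
      rw [← hj, ← hj']
      refine Subgroup.mem_zpowers_iff.2 ⟨m * j, ?_⟩
      rw [← zpow_mul]
      apply zpow_eq_zpow_of_modEq M.a_pow
      have : j' * (m * j) - j = (j' * m - 1) * j := by ring
      rw [this]
      exact Dvd.dvd.mul_right hm j
    obtain ⟨r, hr⟩ := Subgroup.mem_zpowers_iff.1 h1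
    set w := q * y ^ i * e ^ n with hw
    refine ⟨-i, -n, r, w * k ^ (-r), E1.mul_mem hn (E1.zpow_mem hk _),
      Q.mul_mem hqn (Q.zpow_mem hkQ _), ?_, ?_⟩
    · -- ⁅x, w k^(-r)⁆ = 1
      have hxw : x * w * x⁻¹ = b ^ r * w := by rw [conj_eq, hr]
      have hxk' : x * k * x⁻¹ = b * k := conj_eq x k
      have hbk : Commute b k := by
        have hbE1 : b ∈ E1 := (Subgroup.zpowers_le.2 M.a1) hbz
        exact M.K_comm hbE1 hbQ hk hkQ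
      have hbw : Commute b w := by
        have hbE1 : b ∈ E1 := (Subgroup.zpowers_le.2 M.a1) hbz
        exact M.K_comm hbE1 hbQ hn hqn
      have h2 : x * (w * k ^ (-r)) * x⁻¹ = w * k ^ (-r) := by
        have h3 : x * (w * k ^ (-r)) * x⁻¹ = (x * w * x⁻¹) * (x * k * x⁻¹) ^ (-r) := by
          rw [conj_zpow]; group
        rw [h3, hxw, hxk', hbk.mul_zpow, (hbw.zpow_left r).eq]
        have h4 : b ^ r * b ^ (-r) = 1 := by rw [← zpow_add, add_neg_cancel, zpow_zero]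
        calc w * b ^ r * (b ^ (-r) * k ^ (-r)) = w * (b ^ r * b ^ (-r)) * k ^ (-r) := by group
          _ = _ := by rw [h4]; group
      rw [commutatorElement_def, h2]
      exact mul_inv_cancel _
    · rw [zpow_neg, zpow_neg, zpow_neg, hw]
      group
  -- the commutator with x
  have hcomm : ∀ q ∈ Q, ∀ i n l : ℤ, ∀ c ∈ E1, c ∈ Q → ⁅x, c⁆ = 1 →
      q = c * (k ^ l * (e ^ n * y ^ i)) → ∃ ζ ∈ ZQ Q, ⁅x, q⁆ = b ^ l * e ^ i * ζ := by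
    intro q hq i n l c hc hcQ hxc hqe
    have hyi := Q.zpow_mem hy i
    have hen := Q.zpow_mem heQ n
    have hkl := Q.zpow_mem hkQ l
    obtain ⟨ζ1, hζ1, e1⟩ := M.ext.comm_mul_mod hxS hen hyi
    obtain ⟨ζ2, hζ2, e2⟩ := M.ext.comm_mul_mod hxS hkl (Q.mul_mem hen hyi)
    obtain ⟨ζ3, hζ3, e3⟩ := M.ext.comm_mul_mod hxS hcQ (Q.mul_mem hkl (Q.mul_mem hen hyi))
    obtain ⟨ζ4, hζ4, e4⟩ := M.ext.comm_zpow_mod hxS hy i
    obtain ⟨ζ5, hζ5, e5⟩ := M.ext.comm_zpow_mod hxS hkQ l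
    have e6 : ⁅x, e ^ n⁆ = 1 := comm_eq_one.2 (hexc.zpow_right n)
    rw [← hqe, hxc, one_mul, e2, e1, e6, one_mul, e4, e5] at e3
    rw [← he, ← hb] at e3
    refine ⟨ζ5 * ζ4 * ζ1 * ζ2 * ζ3, (ZQ Q).mul_mem ((ZQ Q).mul_mem ((ZQ Q).mul_mem
      ((ZQ Q).mul_mem hζ5 hζ4) hζ1) hζ2) hζ3, ?_⟩
    rw [e3]
    have h1 : ζ5 * e ^ i = e ^ i * ζ5 := ((mem_ZQ.1 hζ5).2 _ (Q.zpow_mem heQ i)).symm
    calc b ^ l * ζ5 * (e ^ i * ζ4 * ζ1) * ζ2 * ζ3 = b ^ l * (ζ5 * e ^ i) * ζ4 * ζ1 * ζ2 * ζ3 := by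
          group
      _ = _ := by rw [h1]; group
  -- if the commutator is central then i, l are divisible by p
  have hkey : ∀ q ∈ Q, ⁅x, q⁆ ∈ ZQ Q → ∃ n : ℤ, ∃ c ∈ E1, c ∈ Q ∧ ⁅x, c⁆ = 1 ∧ q = c * e ^ n := by
    intro q hq hxq
    obtain ⟨i, n, l, c, hc, hcQ, hxc, hqe⟩ := hdec q hq
    obtain ⟨ζ, hζ, h1⟩ := hcomm q hq i n l c hc hcQ hxc hqe
    have hbe : b ^ l * e ^ i ∈ ZQ Q := by
      have h2 : b ^ l * e ^ i = ⁅x, q⁆ * ζ⁻¹ := by rw [h1]; group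
      rw [h2]
      exact (ZQ Q).mul_mem hxq ((ZQ Q).inv_mem hζ)
    have hi : (p : ℤ) ∣ i := by
      by_contra hi
      obtain ⟨m, hm⟩ := exists_mul_sub_one hi
      apply hek
      -- ⁅b^l e^i, k⁆ = 1
      have h3 : ⁅b ^ l * e ^ i, k⁆ = 1 := by
        rw [comm_eq_one]
        exact ((mem_ZQ.1 hbe).2 k hkQ).symm
      have hbk : ⁅b, k⁆ = 1 := by
        rw [comm_eq_one]
        exact M.K_comm ((Subgroup.zpowers_le.2 M.a1) hbz) hbQ hk hkQ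
      rw [M.ext.bil_left (Q.zpow_mem hbQ l) (Q.zpow_mem heQ i) hkQ, M.ext.zpow_left hbQ hkQ,
        M.ext.zpow_left heQ hkQ, hbk, one_zpow, one_mul] at h3
      have h4 : ⁅e, k⁆ ^ (i * m) = ⁅e, k⁆ ^ (1 : ℤ) :=
        zpow_eq_zpow_of_modEq (M.ext.Z_pow (M.ext.cm heQ hkQ)) hm
      rw [zpow_one, zpow_mul, h3, one_zpow] at h4
      exact h4.symm
    have hei : e ^ i = 1 := zpow_eq_one_of_dvd (M.pow_E0 heE heQ) hi
    rw [hei, mul_one] at hbe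
    have hl : (p : ℤ) ∣ l := by
      by_contra hl
      obtain ⟨m, hm⟩ := exists_mul_sub_one hl
      apply hxk
      have hbp : b ^ p = 1 := M.pow_E0 (M.E1_le ((Subgroup.zpowers_le.2 M.a1) hbz)) hbQ
      have h4 : b ^ (l * m) = b ^ (1 : ℤ) := zpow_eq_zpow_of_modEq hbp hm
      have h5 : b ^ l = 1 := M.inter (Subgroup.zpow_mem _ hbz l) hbe
      rw [zpow_one, zpow_mul, h5, one_zpow] at h4
      exact h4.symm
    have hkl : k ^ l = 1 := zpow_eq_one_of_dvd (M.K_pow hk hkQ) hl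
    have hyi : y ^ i = 1 := zpow_eq_one_of_dvd hyp hi
    refine ⟨n, c, hc, hcQ, hxc, ?_⟩
    rw [hqe, hkl, hyi, one_mul, mul_one]
  have hcentral : ∀ n : ℤ, ∀ c ∈ E1, c ∈ Q → ⁅x, c⁆ = 1 → x * (c * e ^ n) = c * e ^ n * x := by
    intro n c hc hcQ hxc
    exact (show Commute x c from comm_eq_one.1 hxc).mul_right (hexc.zpow_right n)
  refine ⟨x, hxS, hxQ, M.pow_E1 hx, ?_, ?_, ?_⟩
  · intro q hq r hr hxq hxr
    have h1 : ⁅x, q⁆ ∈ ZQ Q := by rw [comm_eq_one.2 hxq]; exact (ZQ Q).one_mem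
    have h2 : ⁅x, r⁆ ∈ ZQ Q := by rw [comm_eq_one.2 hxr]; exact (ZQ Q).one_mem
    obtain ⟨n, c, hc, hcQ, hxc, rfl⟩ := hkey q hq h1
    obtain ⟨m, d, hd, hdQ, hxd, rfl⟩ := hkey r hr h2
    have h3 : Commute c d := M.K_comm hc hcQ hd hdQ
    have h4 : Commute e c := comm_eq_one.1 (hce c hc hcQ hxc)
    have h5 : Commute e d := comm_eq_one.1 (hce d hd hdQ hxd)
    exact (h3.mul_left (h5.zpow_left n)).mul_right ((h4.symm.zpow_right m).mul_left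
      ((Commute.refl e).zpow_zpow n m))
  · intro q hq
    obtain ⟨i, n, l, c, hc, hcQ, hxc, hqe⟩ := hdec q hq
    obtain ⟨ζ, hζ, h1⟩ := hcomm q hq i n l c hc hcQ hxc hqe
    have h2 : Commute x ⁅x, q⁆ := by
      rw [h1]
      exact ((hbx.zpow_right l).mul_right (hexc.zpow_right i)).mul_right (M.ext.Z_comm hxS hζ)
    exact h2
  · intro q hq hxq
    obtain ⟨n, c, hc, hcQ, hxc, rfl⟩ := hkey q hq hxq
    exact hcentral n c hc hcQ hxc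

/-- The group theoretic conclusion of case M. -/
theorem concl (M : MDat p S Q E E1 a) (hy : y ∈ Q) (hya : ⁅y, a⁆ ≠ 1) (hyp : y ^ p = 1) :
    Nat.card Q = p ^ 5 ∧ (∀ q ∈ Q, q ^ p = 1) ∧ (Hyp4 p S Q ∨ HypG p S Q) := by
  refine ⟨M.card_Q_eq, fun q hq => M.pow_Q hy hya hyp hq, ?_⟩
  obtain ⟨x, hx, hxQ⟩ := M.exists_x
  have hxS := M.E_le (M.E1_le hx)
  have heQ := M.ext.comm_mem_Q hxS hy
  have heE := M.xy_mem hx hy
  obtain ⟨hk'1, hk'Q⟩ := M.xe_mem hx heE heQ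
  by_cases ha' : ⁅x, ⁅x, ⁅x, y⁆⁆⁆ = 1
  · left
    -- k' = ⁅x, e⁆ is central in Q
    set e := ⁅x, y⁆ with he
    set k' := ⁅x, e⁆ with hk'
    have h1 : ⁅e, k'⁆ = 1 := by
      have h1 := M.ext.invar hxS hy hk'Q
      rw [conj_eq x y, conj_eq x k', ha', one_mul, ← he, M.ext.bil_left heQ hy hk'Q] at h1
      exact mul_eq_right.1 h1
    have h2 : ⁅y, k'⁆ = 1 := by
      have h2 := M.ext.invar hxS hy heQ
      rw [conj_eq x y, conj_eq x e, ← he, ← hk', M.ext.bil_left heQ hy (Q.mul_mem hk'Q heQ),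
        M.ext.bil_right heQ hk'Q heQ, M.ext.bil_right hy hk'Q heQ, h1, commutatorElement_self,
        mul_one, one_mul] at h2
      exact mul_eq_right.1 h2
    obtain ⟨k, hk, hkQ, hxk⟩ := M.exists_k hx hxQ
    have hek : ⁅e, k⁆ ≠ 1 := M.ek hx hy hya hk hkQ hxk
    have hk'Z : k' ∈ ZQ Q := by
      rw [mem_ZQ]
      refine ⟨hk'Q, fun q hq => ?_⟩
      obtain ⟨i, hi⟩ := M.exists_y_zpow hy hya hq
      obtain ⟨n, hn⟩ := M.index1 e heE (M.e_not hx hxQ hy hya) _ hi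
      have hqn : q * y ^ i * e ^ n ∈ Q := Q.mul_mem (Q.mul_mem hq (Q.zpow_mem hy i))
        (Q.zpow_mem heQ n)
      have c1 : Commute (q * y ^ i * e ^ n) k' := M.K_comm hn hqn hk'1 hk'Q
      have c2 : Commute e k' := comm_eq_one.1 h1
      have c3 : Commute y k' := comm_eq_one.1 h2
      have h3 : q = (q * y ^ i * e ^ n) * (e ^ n)⁻¹ * (y ^ i)⁻¹ := by group
      rw [h3]
      exact (c1.mul_left (c2.zpow_left n).inv_left).mul_left (c3.zpow_left i).inv_left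
    -- adjust x
    obtain ⟨m, hm⟩ := M.ext.Z_gen (M.ext.cm hkQ heQ) (by
      intro h
      apply hek
      rw [← commutatorElement_inv, h, inv_one]) ((ZQ Q).inv_mem hk'Z)
    have hx' : x * k ^ m ∈ E1 := E1.mul_mem hx (E1.zpow_mem hk m)
    have hx'Q : x * k ^ m ∉ Q := by
      intro h
      apply hxQ
      have := Q.mul_mem h (Q.inv_mem (Q.zpow_mem hkQ m))
      rwa [mul_inv_cancel_right] at this
    have hx'e : ⁅x * k ^ m, e⁆ = 1 := by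
      rw [comm_mul_left, M.ext.zpow_left hkQ heQ, hm, ← hk', M.ext.conj_Z hxS ((ZQ Q).inv_mem hk'Z),
        inv_mul_cancel]
    obtain ⟨ζ, hζ, hζe⟩ : ∃ ζ ∈ ZQ Q, ⁅x * k ^ m, y⁆ = ζ * e := by
      refine ⟨⁅k ^ m, y⁆, M.ext.cm (Q.zpow_mem hkQ m) hy, ?_⟩
      rw [comm_mul_left, M.ext.conj_Z hxS (M.ext.cm (Q.zpow_mem hkQ m) hy)]
    refine M.hyp4 hx' hx'Q hy hya hyp ?_
    rw [hζe, comm_eq_one]
    have c1 : Commute (x * k ^ m) ζ := M.ext.Z_comm (M.E_le (M.E1_le hx')) hζ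
    exact c1.mul_right (comm_eq_one.1 hx'e)
  · right
    have ha1 := M.xk_mem hx hk'1
    refine ⟨x, hxS, hxQ, M.pow_E1 hx, y, hy, _, _, _, rfl, rfl, rfl, ?_, ?_⟩
    · exact fun h => ha' (M.inter ha1 h)
    · obtain ⟨j, hj⟩ := Subgroup.mem_zpowers_iff.1 ha1
      show x * ⁅x, ⁅x, ⁅x, y⁆⁆⁆ = ⁅x, ⁅x, ⁅x, y⁆⁆⁆ * x
      rw [← hj]
      exact (show Commute x a from M.comm_a x (M.E1_le hx)).zpow_right j

end MDat

end Cfsg.Agent.H764
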