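import Cfsg.Agent.H764.CaseM

/-!
# S5177, case M: the fusion part (helper764)
-/

set_option autoImplicit false
set_option linter.unusedSectionVars false

namespace Cfsg.Agent.H764

open Cfsg Cfsg.FusionSystem Cfsg.Agent.H802
open scoped commutatorElement

variable {Ω : Type*} [Group Ω] {S Q E : Subgroup Ω} {p : ℕ} [hp : Fact p.Prime] [Finite S]
  {F : FusionSystem S}

namespace Dat

/-- all nontrivial elements of `Z` are moved. -/
theorem moved (D : Dat p F Q E) {β : MulAut E} {z : E} (hz : (z : Ω) ∈ ZQ Q)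
    (hm : ((β z : E) : Ω) ∉ ZQ Q) {w : E} (hw : (w : Ω) ∈ ZQ Q) (hw1 : w ≠ 1) :
    ((β w : E) : Ω) ∉ ZQ Q := by
  intro h
  obtain ⟨i, hi⟩ := D.gen hw hw1 hz
  apply hm
  rw [← hi, map_zpow, Subgroup.coe_zpow]
  exact (ZQ Q).zpow_mem h i

theorem inv_moved (D : Dat p F Q E) {β : MulAut E} {z : E} (hz : (z : Ω) ∈ ZQ Q)
    (hm : ((β z : E) : Ω) ∉ ZQ Q) {w : E} (hw : (w : Ω) ∈ ZQ Q) (hw1 : w ≠ 1) :
    ((β⁻¹ w : E) : Ω) ∉ ZQ Q := by
  intro h
  have h1 : β⁻¹ w ≠ 1 := fun h2 => hw1 (by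
    have := congrArg β h2
    rwa [MulAut.apply_inv_self, map_one] at this)
  have := D.moved hz hm h h1
  rw [MulAut.apply_inv_self] at this
  exact this hw

theorem comm_a (D : Dat p F Q E) (β : MulAut E) {z : E} (hz : (z : Ω) ∈ ZQ Q) {e : Ω}
    (he : e ∈ E) : e * (β z : E) = (β z : E) * e :=
  congrArg Subtype.val (D.central β hz ⟨e, he⟩)

/-- If a moved image lies in `Q`, the centre of `E` lies in `Q`. -/
theorem center_le (D : Dat p F Q E) {α : MulAut E} (hα : α ∈ F.autGroup E) {z : E}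
    (hz : (z : Ω) ∈ ZQ Q) (hm : ((α z : E) : Ω) ∉ ZQ Q) (haQ : ((α z : E) : Ω) ∈ Q) {c : E}
    (hc : ∀ e : E, e * c = c * e) : (c : Ω) ∈ Q := by
  by_contra hcQ
  obtain ⟨u, hu, v, hv, hua, hva, huv⟩ := D.ext.exists_noncomm_centralizer D.card_Q haQ
  have huE := D.mem_of_comm hα hz hm (D.ext.le hu) hua
  have hvE := D.mem_of_comm hα hz hm (D.ext.le hv) hva
  have hES := D.setup.le_S
  have key : ∀ r s : E, ((⁅r, s⁆ : E) : Ω) ∈ ZQ Q := by
    intro r s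
    obtain ⟨i, hi⟩ := D.ext.exists_zpow (hES c.2) hcQ (hES r.2)
    obtain ⟨j, hj⟩ := D.ext.exists_zpow (hES c.2) hcQ (hES s.2)
    have h1 : ⁅r * c ^ i, s * c ^ j⁆ = ⁅r, s⁆ := by
      have cr : Commute c r := (hc r).symm
      have cs : Commute c s := (hc s).symm
      have h2 : Commute (c ^ i) (s * c ^ j) := (cs.zpow_left i).mul_right
        ((Commute.refl c).zpow_zpow i j)
      have h3 : Commute (c ^ j) r := cr.zpow_left j
      rw [comm_mul_left, comm_eq_one.2 h2, mul_one, mul_inv_cancel, one_mul, comm_mul_right,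
        comm_eq_one.2 h3.symm, mul_one, mul_inv_cancel, mul_one]
    rw [← h1]
    exact D.ext.cm hi hj
  have h2 : ⁅(⟨u, huE⟩ : E), (⟨v, hvE⟩ : E)⁆ ≠ 1 := by
    intro h3
    rw [commutatorElement_eq_one_iff_mul_comm] at h3
    exact huv (congrArg Subtype.val h3)
  obtain ⟨i, hi⟩ := D.gen (key _ _) h2 hz
  apply hm
  rw [← hi, map_zpow, map_commutatorElement, Subgroup.coe_zpow]
  exact (ZQ Q).zpow_mem (key _ _) _

/-- The subgroup `α(E ∩ Q)`. -/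
def img (α : MulAut E) (Q : Subgroup Ω) : Subgroup Ω :=
  ((Q.subgroupOf E).map α.toMonoidHom).map E.subtype

theorem mem_img {α : MulAut E} {u : Ω} : u ∈ img α Q ↔ ∃ r : E, (r : Ω) ∈ Q ∧ ((α r : E) : Ω) = u := by
  constructor
  · rintro ⟨_, ⟨r, hr, rfl⟩, rfl⟩
    exact ⟨r, hr, rfl⟩
  · rintro ⟨r, hr, rfl⟩
    exact ⟨α r, ⟨r, hr, rfl⟩, rfl⟩

theorem index_le (D : Dat p F Q E) : (Q.subgroupOf E).index ≤ p := by
  have hnorm : (Q.subgroupOf S).Normal := ⟨fun q hq g => D.ext.conj_mem g.2 hq⟩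
  let φ : E →* S ⧸ Q.subgroupOf S :=
    (QuotientGroup.mk' (Q.subgroupOf S)).comp (Subgroup.inclusion D.setup.le_S)
  have h1 : Q.subgroupOf E = φ.ker := by
    ext e
    rw [MonoidHom.mem_ker]
    show (e : Ω) ∈ Q ↔ ((Subgroup.inclusion D.setup.le_S e : S) : S ⧸ Q.subgroupOf S) = 1
    rw [QuotientGroup.eq_one_iff]
    rfl
  rw [h1, Subgroup.index_ker]
  refine (Subgroup.card_le_card_group _).trans ?_
  rw [← Subgroup.index_eq_card, D.ext.index]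

theorem mdat (D : Dat p F Q E) {α : MulAut E} (hα : α ∈ F.autGroup E) {z : E}
    (hz : (z : Ω) ∈ ZQ Q) (hm : ((α z : E) : Ω) ∉ ZQ Q) (haQ : ((α z : E) : Ω) ∈ Q) :
    MDat p S Q E (img α Q) ((α z : E) : Ω) where
  ext := D.ext
  card_Q := D.card_Q
  E_le := D.setup.le_S
  E1_le := by
    intro u hu
    obtain ⟨r, -, rfl⟩ := mem_img.1 hu
    exact (α r).2
  a_mem := haQ
  a_not := hm
  a_pow := by
    have h1 : z ^ p = 1 := Subtype.ext (D.ext.Z_pow hz)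
    have h2 : (α z) ^ p = 1 := by rw [← map_pow, h1, map_one]
    exact congrArg Subtype.val h2
  comm_a := fun e he => D.comm_a α hz he
  mem_E := fun g hg h => D.mem_of_comm hα hz hm hg h
  comm1 := by
    intro u hu v hv
    obtain ⟨r, hr, rfl⟩ := mem_img.1 hu
    obtain ⟨s, hs, rfl⟩ := mem_img.1 hv
    have h1 : ((⁅r, s⁆ : E) : Ω) ∈ ZQ Q := D.ext.cm hr hs
    obtain ⟨i, hi⟩ := D.gen hz (ne_one hm) h1
    refine Subgroup.mem_zpowers_iff.2 ⟨i, ?_⟩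
    have h2 : (α z) ^ i = ⁅α r, α s⁆ := by rw [← map_zpow, hi, map_commutatorElement]
    have := congrArg Subtype.val h2
    rwa [Subgroup.coe_zpow] at this
  conj1 := by
    intro g hg u hu
    obtain ⟨r, hr, rfl⟩ := mem_img.1 hu
    rw [mem_img]
    refine ⟨α⁻¹ ⟨g, hg⟩ * r * (α⁻¹ ⟨g, hg⟩)⁻¹, D.ext.conj_mem (D.setup.le_S (α⁻¹ _).2) hr, ?_⟩
    rw [map_mul, map_mul, map_inv, MulAut.apply_inv_self]
    rfl
  a1 := mem_img.2 ⟨z, ZQ_le Q hz, rfl⟩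
  Z1 := by
    intro w hw
    have hwE : w ∈ E := D.setup.Y_le hw
    refine mem_img.2 ⟨α⁻¹ ⟨w, hwE⟩, ?_, ?_⟩
    · exact D.center_le hα hz hm haQ (fun e => D.central α⁻¹ (z := ⟨w, hwE⟩) hw e)
    · rw [MulAut.apply_inv_self]
  index1 := by
    intro c hc hc1 u hu
    have hcQ : ((α⁻¹ ⟨c, hc⟩ : E) : Ω) ∉ Q := by
      intro h
      exact hc1 (mem_img.2 ⟨_, h, by rw [MulAut.apply_inv_self]⟩)
    obtain ⟨i, hi⟩ := D.ext.exists_zpow (D.setup.le_S (α⁻¹ ⟨c, hc⟩).2) hcQ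
      (D.setup.le_S (α⁻¹ ⟨u, hu⟩).2)
    refine ⟨i, mem_img.2 ⟨α⁻¹ ⟨u, hu⟩ * (α⁻¹ ⟨c, hc⟩) ^ i, hi, ?_⟩⟩
    rw [map_mul, map_zpow, MulAut.apply_inv_self, MulAut.apply_inv_self]
    rfl
  noncomm1 := by
    obtain ⟨u, hu, v, hv, hua, hva, huv⟩ := D.ext.exists_noncomm_centralizer D.card_Q haQ
    have huE := D.mem_of_comm hα hz hm (D.ext.le hu) hua
    have hvE := D.mem_of_comm hα hz hm (D.ext.le hv) hva
    refine ⟨_, mem_img.2 ⟨⟨u, huE⟩, hu, rfl⟩, _, mem_img.2 ⟨⟨v, hvE⟩, hv, rfl⟩, fun h => huv ?_⟩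
    have h1 : α ⟨u, huE⟩ * α ⟨v, hvE⟩ = α ⟨v, hvE⟩ * α ⟨u, huE⟩ := Subtype.ext h
    rw [← map_mul, ← map_mul] at h1
    exact congrArg Subtype.val (α.injective h1)
  card1 := by
    have hfinE : Finite E := finite_of_le D.setup.le_S
    set A0 := Q.subgroupOf E with hA0
    have hidx : (A0.map α.toMonoidHom).index = A0.index :=
      Subgroup.index_map_of_bijective α.bijective _
    have h1 : (A0 ⊓ A0.map α.toMonoidHom).index ≤ A0.index * A0.index := by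
      refine (Subgroup.index_inf_le).trans ?_
      rw [hidx]
    have h2 := (A0 ⊓ A0.map α.toMonoidHom).index_mul_card
    have h3 := A0.index_mul_card
    have h4 : Nat.card A0 ≤ A0.index * Nat.card (A0 ⊓ A0.map α.toMonoidHom : Subgroup E) := by
      have hpos : 0 < A0.index := Nat.pos_of_ne_zero Subgroup.index_ne_zero_of_finite
      apply Nat.le_of_mul_le_mul_left _ hpos
      calc A0.index * Nat.card A0 = Nat.card E := h3
        _ = (A0 ⊓ A0.map α.toMonoidHom).index *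
            Nat.card (A0 ⊓ A0.map α.toMonoidHom : Subgroup E) := h2.symm
        _ ≤ (A0.index * A0.index) * Nat.card (A0 ⊓ A0.map α.toMonoidHom : Subgroup E) :=
          Nat.mul_le_mul_right _ h1
        _ = _ := by ring
    have h5 : Nat.card (E ⊓ Q : Subgroup Ω) = Nat.card A0 := by
      have : (E ⊓ Q).subgroupOf E = A0 := by
        rw [hA0, Subgroup.inf_subgroupOf_left]
      rw [← this]
      exact Nat.card_congr (Subgroup.subgroupOfEquivOfLe inf_le_left).symm.toEquiv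
    have h6 : Nat.card (img α Q ⊓ Q : Subgroup Ω) =
        Nat.card (A0 ⊓ A0.map α.toMonoidHom : Subgroup E) := by
      have hle : img α Q ⊓ Q ≤ E := by
        intro u hu
        obtain ⟨r, -, rfl⟩ := mem_img.1 hu.1
        exact (α r).2
      have : (img α Q ⊓ Q).subgroupOf E = A0 ⊓ A0.map α.toMonoidHom := by
        ext e
        rw [Subgroup.mem_subgroupOf, Subgroup.mem_inf, mem_img, Subgroup.mem_inf]
        constructor
        · rintro ⟨⟨r, hr, hre⟩, h⟩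
          exact ⟨h, ⟨r, hr, Subtype.ext hre⟩⟩
        · rintro ⟨h, ⟨r, hr, rfl⟩⟩
          exact ⟨⟨r, hr, rfl⟩, h⟩
      rw [← this]
      exact Nat.card_congr (Subgroup.subgroupOfEquivOfLe hle).symm.toEquiv
    rw [h5, h6]
    exact h4.trans (Nat.mul_le_mul_right _ D.index_le)
  pow1 := by
    intro u hu
    obtain ⟨r, hr, rfl⟩ := mem_img.1 hu
    have h1 : ((r ^ p : E) : Ω) ∈ ZQ Q := D.ext.pow_mem hr
    obtain ⟨i, hi⟩ := D.gen hz (ne_one hm) h1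
    refine Subgroup.mem_zpowers_iff.2 ⟨i, ?_⟩
    have h2 : (α z) ^ i = (α r) ^ p := by rw [← map_zpow, hi, map_pow]
    have := congrArg Subtype.val h2
    rwa [Subgroup.coe_zpow] at this
  pow_iff := by
    intro h u hu
    obtain ⟨r, hr, rfl⟩ := mem_img.1 hu
    have h1 : r ^ p = 1 := Subtype.ext (h r r.2 hr)
    have h2 : (α r) ^ p = 1 := by rw [← map_pow, h1, map_one]
    exact congrArg Subtype.val h2

/-- `⁅g, a⁆ ∈ Z` for all `g ∈ S`. -/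
theorem comm_a_mem (D : Dat p F Q E) {α : MulAut E} (hα : α ∈ F.autGroup E) {z : E}
    (hz : (z : Ω) ∈ ZQ Q) (hm : ((α z : E) : Ω) ∉ ZQ Q) (haQ : ((α z : E) : Ω) ∈ Q) {g : Ω}
    (hg : g ∈ S) : ⁅g, ((α z : E) : Ω)⁆ ∈ ZQ Q := by
  obtain ⟨c, hcE, hcQ⟩ : ∃ c ∈ E, c ∉ Q := by
    by_contra hcon
    push Not at hcon
    exact D.not_le hα hz hm hcon
  obtain ⟨i, hi⟩ := D.ext.exists_zpow (D.setup.le_S hcE) hcQ hg
  have h1 : g = (g * c ^ i) * c ^ (-i) := by rw [zpow_neg]; group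
  have h2 : ⁅c ^ (-i), ((α z : E) : Ω)⁆ = 1 := by
    rw [comm_eq_one]
    exact (show Commute c ((α z : E) : Ω) from D.comm_a α hz hcE).zpow_left _
  rw [h1, comm_mul_left, h2, mul_one, mul_inv_cancel, one_mul]
  exact D.ext.cm hi haQ

/-- `S` normalizes `E`. -/
theorem normalizer_eq (D : Dat p F Q E) {α : MulAut E} (hα : α ∈ F.autGroup E) {z : E}
    (hz : (z : Ω) ∈ ZQ Q) (hm : ((α z : E) : Ω) ∉ ZQ Q) (haQ : ((α z : E) : Ω) ∈ Q) :
    normalizerIn S E = S := by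
  have hconj : ∀ g ∈ S, ∀ e ∈ E, g * e * g⁻¹ ∈ E := by
    intro g hg e he
    have heS := D.setup.le_S he
    refine D.mem_of_comm hα hz hm (S.mul_mem (S.mul_mem hg heS) (S.inv_mem hg)) ?_
    set a := ((α z : E) : Ω) with ha
    have h1 := D.comm_a_mem hα hz hm haQ (S.inv_mem hg)
    -- g⁻¹ a g = ζ a
    have h2 : g⁻¹ * a * g = ⁅g⁻¹, a⁆ * a := by
      have := conj_eq g⁻¹ a
      rwa [inv_inv] at this
    have c1 : Commute e ⁅g⁻¹, a⁆ := D.ext.Z_comm heS h1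
    have c2 : Commute e a := D.comm_a α hz he
    have c3 : Commute e (g⁻¹ * a * g) := by rw [h2]; exact c1.mul_right c2
    have h3 : g * e * g⁻¹ * a = g * (e * (g⁻¹ * a * g)) * g⁻¹ := by group
    rw [h3, c3.eq]
    group
  refine inf_eq_left.2 fun g hg => Subgroup.mem_normalizer_iff.2 fun x => ⟨hconj g hg x, fun hx => ?_⟩
  have h1 := hconj g⁻¹ (S.inv_mem hg) _ hx
  have h2 : g⁻¹ * (g * x * g⁻¹) * g⁻¹⁻¹ = x := by group
  rwa [h2] at h1

/-- Case M: `y ^ p = 1`. -/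
theorem y_pow (D : Dat p F Q E) {α : MulAut E} (hα : α ∈ F.autGroup E) {z : E}
    (hz : (z : Ω) ∈ ZQ Q) (hm : ((α z : E) : Ω) ∉ ZQ Q) (haQ : ((α z : E) : Ω) ∈ Q) {y : Ω}
    (hy : y ∈ Q) (hya : ⁅y, ((α z : E) : Ω)⁆ ≠ 1) : y ^ p = 1 := by
  have M := D.mdat hα hz hm haQ
  have hES := D.setup.le_S
  have hyS := D.ext.le hy
  have hNS := D.normalizer_eq hα hz hm haQ
  have hnorm : ∀ g ∈ S, g ∈ Subgroup.normalizer (E : Set Ω) := by
    intro g hg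
    rw [← hNS] at hg
    exact hg.2
  have hfinE : Finite E := finite_of_le hES
  obtain ⟨a, ha⟩ : ∃ a : E, a = α z := ⟨_, rfl⟩
  rw [← ha] at hya hm haQ M
  have hz1Z : ⁅y, (a : Ω)⁆ ∈ ZQ Q := D.ext.cm hy haQ
  obtain ⟨z1, hz1⟩ : ∃ z1 : E, (z1 : Ω) = ⁅y, (a : Ω)⁆ := ⟨⟨_, D.setup.Y_le hz1Z⟩, rfl⟩
  have hz1Z' : (z1 : Ω) ∈ ZQ Q := by rw [hz1]; exact hz1Z
  have hz11 : z1 ≠ 1 := by
    intro h
    apply hya
    rw [← hz1, h]
    rfl
  have hap : a ^ p = 1 := Subtype.ext M.a_pow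
  have hzp : z1 ^ p = 1 := Subtype.ext (D.ext.Z_pow hz1Z')
  have haz : a * z1 = z1 * a := Subtype.ext (D.ext.Z_comm (hES a.2) hz1Z')
  -- t
  obtain ⟨t, ht⟩ := exists_conjAut (hnorm y hyS)
  have htS : t ∈ autInducedBy S E := (mem_autInducedBy_iff S E t).2 ⟨y, hyS, ht⟩
  have htF : t ∈ F.autGroup E := autInducedBy_le_autGroup F hES htS
  have htZ : ∀ w : E, (w : Ω) ∈ ZQ Q → t w = w := fun w hw => Subtype.ext (by
    rw [ht, D.ext.conj_Z hyS hw])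
  have hta : t a = a * z1 := by
    apply Subtype.ext
    rw [ht, conj_eq, Subgroup.coe_mul, hz1]
    exact (D.ext.Z_comm (hES a.2) hz1Z).symm
  have htz : t z1 = z1 := htZ z1 hz1Z'
  -- s
  obtain ⟨s, hs⟩ : ∃ s : MulAut E, s = α * t * α⁻¹ := ⟨_, rfl⟩
  have hsF : s ∈ F.autGroup E := by
    rw [hs]
    exact mul_mem (mul_mem hα htF) (inv_mem hα)
  have hsa : s a = a := by
    rw [hs, MulAut.mul_apply, MulAut.mul_apply, ha, MulAut.inv_apply_self, htZ z hz]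
  have hm' : ((α z : E) : Ω) ∉ ZQ Q := by rw [← ha]; exact hm
  have haQ' : ((α z : E) : Ω) ∈ Q := by rw [← ha]; exact haQ
  have hwQ : ((α⁻¹ z1 : E) : Ω) ∈ Q :=
    D.center_le hα hz hm' haQ' (fun e => D.central α⁻¹ hz1Z' e)
  obtain ⟨k, hk⟩ : ∃ k : ℤ, z ^ k = ⟨⁅y, ((α⁻¹ z1 : E) : Ω)⁆, D.setup.Y_le (D.ext.cm hy hwQ)⟩ :=
    D.gen hz (ne_one hm') (D.ext.cm hy hwQ)
  have hsz : s z1 = z1 * a ^ k := by
    have h1 : t (α⁻¹ z1) = z ^ k * α⁻¹ z1 := by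
      apply Subtype.ext
      rw [ht, conj_eq, Subgroup.coe_mul, hk]
    rw [hs, MulAut.mul_apply, MulAut.mul_apply, h1, map_mul, MulAut.apply_inv_self, map_zpow, ← ha]
    exact ((show Commute a z1 from haz).zpow_left k).eq
  have hkp : ¬ (p : ℤ) ∣ k := by
    intro hd
    have h1 : z ^ k = 1 := zpow_eq_one_of_dvd (Subtype.ext (D.ext.Z_pow hz)) hd
    rw [h1] at hk
    have h2 : ⁅y, ((α⁻¹ z1 : E) : Ω)⁆ = 1 := (congrArg Subtype.val hk).symm
    have h3 := D.mem_of_comm (inv_mem hα) hz1Z' (D.inv_moved hz hm' hz1Z' hz11) hyS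
      (comm_eq_one.1 h2)
    apply hya
    rw [comm_eq_one]
    exact M.comm_a y h3
  obtain ⟨n, hnF, hna, hnz, -⟩ := exists_torus (G := F.autGroup E) htF hsF haz hap hta htz hsa hsz hkp
    (u := -1) (u' := -1) hzp (by norm_num)
  rw [zpow_neg_one] at hna hnz
  -- the group X
  have hninv : ∀ w : E, n w = w⁻¹ → n⁻¹ w = w⁻¹ := by
    intro w hw
    apply n.injective
    rw [MulAut.apply_inv_self, map_inv, hw, inv_inv]
  let X : Subgroup (MulAut E) :=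
    { carrier := {γ | γ ∈ F.autGroup E ∧ γ z1 = z1 ∧ ∃ i : ℤ, γ a = a * z1 ^ i}
      one_mem' := ⟨one_mem _, rfl, 0, by simp⟩
      mul_mem' := by
        rintro γ δ ⟨h1, h2, i, h3⟩ ⟨h4, h5, j, h6⟩
        refine ⟨mul_mem h1 h4, by rw [MulAut.mul_apply, h5, h2], i + j, ?_⟩
        rw [MulAut.mul_apply, h6, map_mul, map_zpow, h2, h3, zpow_add, mul_assoc]
      inv_mem' := by
        rintro γ ⟨h1, h2, i, h3⟩
        have h4 : γ⁻¹ z1 = z1 := by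
          apply γ.injective
          rw [MulAut.apply_inv_self, h2]
        refine ⟨inv_mem h1, h4, -i, ?_⟩
        apply γ.injective
        rw [MulAut.apply_inv_self, map_mul, map_zpow, h2, h3, zpow_neg]
        group }
  have hSX : autInducedBy S E ≤ X := by
    intro γ hγ
    refine ⟨autInducedBy_le_autGroup F hES hγ, ?_, ?_⟩
    · obtain ⟨g, hg, he⟩ := (mem_autInducedBy_iff S E γ).1 hγ
      apply Subtype.ext
      rw [he, D.ext.conj_Z hg hz1Z']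
    · obtain ⟨g, hg, he⟩ := (mem_autInducedBy_iff S E γ).1 hγ
      have h1 : ⁅g, (a : Ω)⁆ ∈ ZQ Q := by
        rw [ha]
        exact D.comm_a_mem hα hz hm' haQ' hg
      obtain ⟨i, hi⟩ := D.gen hz1Z' hz11 (w := ⟨_, D.setup.Y_le h1⟩) h1
      refine ⟨i, ?_⟩
      apply Subtype.ext
      rw [he, conj_eq, hi, Subgroup.coe_mul]
      exact (D.ext.Z_comm (hES a.2) h1).symm
  have hKX : (autInducedBy S E).map (MulAut.conj n).toMonoidHom ≤ X := by
    rintro _ ⟨γ, hγ, rfl⟩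
    obtain ⟨h1, h2, i, h3⟩ := hSX hγ
    show n * γ * n⁻¹ ∈ X
    refine ⟨mul_mem (mul_mem hnF h1) (inv_mem hnF), ?_, i, ?_⟩
    · rw [MulAut.mul_apply, MulAut.mul_apply, hninv z1 hnz, map_inv, h2, map_inv, hnz, inv_inv]
    · rw [MulAut.mul_apply, MulAut.mul_apply, hninv a hna, map_inv, h3, map_inv, map_mul, map_zpow,
        hna, hnz, mul_inv_rev, inv_inv, inv_zpow, inv_inv]
      exact ((show Commute a z1 from haz).zpow_right i).eq.symm
  obtain ⟨δ, hδX, hδ⟩ := exists_conj_mem_of_le D.pg D.sat D.setup.fullyNormalized hSX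
    (fun γ hγ => hγ.1) hKX ((isPGroup_autInducedBy D.pg E).map _)
  obtain ⟨hδF, hδz, i, hδa⟩ := hδX
  have hti : ∀ m : ℤ, (t ^ m) a = a * z1 ^ m := pow_transvection hta htz
  have htzi : ∀ m : ℤ, (t ^ m) z1 = z1 := fun m =>
    (MulAction.stabilizer (MulAut E) z1).zpow_mem
      (show t ∈ MulAction.stabilizer (MulAut E) z1 from htz) m
  set n' : MulAut E := t ^ (-i) * δ * n with hn'
  have hn'F : n' ∈ F.autGroup E := mul_mem (mul_mem (zpow_mem htF _) hδF) hnF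
  have hn'z : n' z1 = z1⁻¹ := by
    rw [hn', MulAut.mul_apply, MulAut.mul_apply, hnz, map_inv, hδz, map_inv, htzi]
  have hn'a : n' a = a⁻¹ := by
    rw [hn', MulAut.mul_apply, MulAut.mul_apply, hna, map_inv, hδa, map_inv, map_mul, map_zpow,
      htzi, hti, zpow_neg]
    group
  have hn'S : ∀ γ ∈ autInducedBy S E, n' * γ * n'⁻¹ ∈ autInducedBy S E := by
    intro γ hγ
    have h1 := hδ _ ⟨γ, hγ, rfl⟩
    have h2 : n' * γ * n'⁻¹ = t ^ (-i) * (δ * (MulAut.conj n).toMonoidHom γ * δ⁻¹) * (t ^ (-i))⁻¹ := by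
      show n' * γ * n'⁻¹ = t ^ (-i) * (δ * (n * γ * n⁻¹) * δ⁻¹) * (t ^ (-i))⁻¹
      rw [hn']
      group
    rw [h2]
    exact mul_mem (mul_mem (zpow_mem htS _) h1) (inv_mem (zpow_mem htS _))
  have hext := exists_extension_of_normalizes D.pg D.sat D.setup.fullyNormalized hn'F hn'S
  rw [hNS] at hext
  obtain ⟨τ, -, hτ⟩ := hext
  have hτa : τ ⟨a, hES a.2⟩ = (⟨a, hES a.2⟩ : S)⁻¹ := by
    apply Subtype.ext
    rw [hτ a a.2, show (⟨(a : Ω), a.2⟩ : E) = a from rfl, hn'a]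
    rfl
  have hτz : τ ⟨z1, hES z1.2⟩ = (⟨z1, hES z1.2⟩ : S)⁻¹ := by
    apply Subtype.ext
    rw [hτ z1 z1.2, show (⟨(z1 : Ω), z1.2⟩ : E) = z1 from rfl, hn'z]
    rfl
  obtain ⟨x, hx, hxQ⟩ := M.exists_x
  have hτQ : ((τ ⟨y, hyS⟩ : S) : Ω) ∈ Q :=
    D.ext.apply_mem (hES (M.E1_le hx)) (fun R hR hc => M.star hx hxQ R hR hc) D.center.symm τ hy
  obtain ⟨j, hj⟩ := M.exists_y_zpow hy hya hτQ
  set w := ((τ ⟨y, hyS⟩ : S) : Ω) * y ^ j with hw
  have hwQ' : w ∈ Q := Q.mul_mem hτQ (Q.zpow_mem hy j)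
  have hτy : ((τ ⟨y, hyS⟩ : S) : Ω) = w * y ^ (-j) := by rw [hw, zpow_neg]; group
  -- compare commutators
  have hcomm : (⁅(⟨y, hyS⟩ : S), (⟨a, hES a.2⟩ : S)⁆) = ⟨z1, hES z1.2⟩ := Subtype.ext hz1.symm
  have h1 := congrArg τ hcomm
  rw [map_commutatorElement, hτa, hτz] at h1
  have h2 : ⁅((τ ⟨y, hyS⟩ : S) : Ω), (a : Ω)⁻¹⁆ = (z1 : Ω)⁻¹ := congrArg Subtype.val h1
  rw [hτy, D.ext.bil_left hwQ' (Q.zpow_mem hy _) (Q.inv_mem haQ), D.ext.zpow_left hy (Q.inv_mem haQ)] at h2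
  have h3 : ⁅w, (a : Ω)⁻¹⁆ = 1 := by
    rw [comm_eq_one]
    exact (show Commute w (a : Ω) from M.comm_a w hj).inv_right
  have h4 : ⁅y, (a : Ω)⁻¹⁆ = (z1 : Ω)⁻¹ := by
    have := D.ext.zpow_right haQ hy (-1)
    rwa [zpow_neg_one, zpow_neg_one, ← hz1] at this
  rw [h3, one_mul, h4, inv_zpow, zpow_neg, inv_inv] at h2
  have hjp : (p : ℤ) ∣ j + 1 := by
    by_contra hcon
    obtain ⟨m, hm1⟩ := exists_mul_sub_one hcon
    apply hz11
    have h5 : (z1 : Ω) ^ ((j + 1) * m) = (z1 : Ω) ^ (1 : ℤ) :=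
      zpow_eq_zpow_of_modEq (D.ext.Z_pow hz1Z') hm1
    rw [zpow_mul, zpow_add, h2, zpow_one, inv_mul_cancel, one_zpow] at h5
    exact Subtype.ext h5.symm
  -- p-th powers
  have hypZ := D.ext.pow_mem hy
  obtain ⟨m, hm1⟩ := D.ext.Z_gen hz1Z' (fun h => hz11 (Subtype.ext h)) hypZ
  have h5 : ((τ ⟨y, hyS⟩ : S) : Ω) ^ p = (y ^ p)⁻¹ := by
    have h6 : (⟨y, hyS⟩ : S) ^ p = (⟨z1, hES z1.2⟩ : S) ^ m := Subtype.ext (by
      rw [Subgroup.coe_pow, Subgroup.coe_zpow]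
      exact hm1.symm)
    have h7 := congrArg τ h6
    rw [map_pow, map_zpow, hτz] at h7
    have h8 := congrArg Subtype.val h7
    rw [Subgroup.coe_pow, Subgroup.coe_zpow, Subgroup.coe_inv, inv_zpow] at h8
    rw [h8]
    show ((z1 : Ω) ^ m)⁻¹ = (y ^ p)⁻¹
    rw [hm1]
  rw [hτy, D.ext.zpow_mul_pow hwQ' hy, M.pow_E0 hj hwQ', one_mul] at h5
  have h6 : (y ^ p) ^ (-j) = y ^ p := by
    have : (y ^ p) ^ (-j) = (y ^ p) ^ (1 : ℤ) := by
      apply zpow_eq_zpow_of_modEq (D.ext.Z_pow hypZ)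
      have : -j - 1 = -(j + 1) := by ring
      rw [this]
      exact (dvd_neg).2 hjp
    rw [this, zpow_one]
  rw [h6] at h5
  -- (y^p)^2 = 1, (y^p)^p = 1
  have h7 : (y ^ p) ^ 2 = 1 := by
    rw [sq]
    nth_rewrite 1 [h5]
    exact inv_mul_cancel _
  have h8 : (y ^ p) ^ p = 1 := D.ext.Z_pow hypZ
  obtain ⟨r, hr⟩ := D.ext.odd
  calc y ^ p = (y ^ p) ^ (2 * r + 1) * ((y ^ p) ^ 2)⁻¹ ^ r := by
        rw [pow_succ, pow_mul, inv_pow]
        have hc : Commute (((y ^ p) ^ 2) ^ r) (y ^ p) := ((Commute.refl (y ^ p)).pow_left 2).pow_left r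
        rw [hc.eq]
        group
    _ = 1 := by rw [← hr, h8, h7, inv_one, one_pow, one_mul]

/-- **Case M.** -/
theorem caseM (D : Dat p F Q E) {α : MulAut E} (hα : α ∈ F.autGroup E) {z : E}
    (hz : (z : Ω) ∈ ZQ Q) (hm : ((α z : E) : Ω) ∉ ZQ Q) (haQ : ((α z : E) : Ω) ∈ Q) :
    Nat.card Q = p ^ 5 ∧ (∀ q ∈ Q, q ^ p = 1) ∧ (Hyp4 p S Q ∨ HypG p S Q) := by
  have M := D.mdat hα hz hm haQ
  obtain ⟨y, hy, hya⟩ := M.exists_y
  exact M.concl hy hya (D.y_pow hα hz hm haQ hy hya)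

end Dat

end Cfsg.Agent.H764
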