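import Cfsg.Agent.H764.CaseI
import Cfsg.Agent.H766.PearlTorus
import Cfsg.Agent.H779.PearlFinal2
import Cfsg.Agent.S5081

/-!
# S5177, case P: `E` is a pearl (helper764)
-/

set_option autoImplicit false
set_option linter.unusedSectionVars false

namespace Cfsg.Agent.H764

open Cfsg Cfsg.FusionSystem Cfsg.Agent.H802
open scoped commutatorElement

variable {Ω : Type*} [Group Ω] {S Q E : Subgroup Ω} {p : ℕ} [hp : Fact p.Prime]
  {F : FusionSystem S} [Finite S]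

/-- `E ≠ S`. -/
theorem Dat.ne_S (D : Dat p F Q E) {α : MulAut E} {z : E} (hz : (z : Ω) ∈ ZQ Q)
    (hm : ((α z : E) : Ω) ∉ ZQ Q) : E ≠ S := by
  intro h
  apply hm
  rw [← D.center]
  refine ⟨D.setup.le_S (α z).2, Subgroup.mem_centralizer_iff.2 fun g hg => ?_⟩
  have hgE : g ∈ E := by rw [h]; exact hg
  exact D.comm_a α hz hgE

/-- `E` is essential. -/
theorem Dat.essential (D : Dat p F Q E) {α : MulAut E} (hα : α ∈ F.autGroup E) {z : E}
    (hz : (z : Ω) ∈ ZQ Q) (hm : ((α z : E) : Ω) ∉ ZQ Q) : F.IsEssential p E := by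
  have hES := D.setup.le_S
  have hlt : E < S := lt_of_le_of_ne hES (D.ne_S hz hm)
  have hfinE : Finite E := finite_of_le hES
  rcases Cfsg.Agent.S5081.result p D.pg F D.sat E hlt D.setup.fullyNormalized _ rfl with
    ⟨-, h⟩ | ⟨h, -⟩
  · exfalso
    apply hm
    rw [← h] at hα
    have hle : Subgroup.closure {α : MulAut E | ∃ (R : Subgroup Ω) (hPQ : E < R) (φ : R →* Ω),
        φ ∈ F.Hom R ∧ ∀ x : E, φ (Subgroup.inclusion hPQ.le x) = α x} ≤ fixGroup (ZQ Q) E := by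
      rw [Subgroup.closure_le]
      rintro β ⟨R, hER, φ, hφ, he⟩ y hy
      have hfinR : Finite R := finite_of_le (hom_le hφ)
      have hcard : Nat.card E < Nat.card R := by
        refine lt_of_le_of_ne (Nat.card_mono (Set.toFinite _) hER.le) fun heq => ?_
        exact hER.ne (Subgroup.eq_of_le_of_card_ge hER.le heq.ge)
      have h1 := D.setup.big R φ hφ hcard (Subgroup.inclusion hER.le y) hy
      rwa [he] at h1
    exact hle hα z hz
  · exact h

namespace IHyp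

variable {α : MulAut E} {z : E}

theorem exists_ts (H : IHyp p F Q E α z) {y2 : Ω} (hy2 : y2 ∈ Q)
    (hy2x : ⁅y2, ((α z : E) : Ω)⁆ ∈ ZQ Q) (hy2E : y2 ∉ E) :
    ∃ t ∈ autInducedBy S E, ∃ s ∈ F.autGroup E, ∃ z' : E, (z' : Ω) ∈ ZQ Q ∧ z' ≠ 1 ∧
      t (α z) = α z * z' ∧ t z' = z' ∧ s (α z) = α z ∧
      ∃ k : ℤ, s z' = z' * (α z) ^ k ∧ ¬ (p : ℤ) ∣ k := by
  have hES := H.D.setup.le_S
  have hfinE : Finite E := finite_of_le hES
  obtain ⟨x, hx⟩ : ∃ x : E, x = α z := ⟨_, rfl⟩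
  rw [← hx] at hy2x ⊢
  have hxp : x ^ p = 1 := by rw [hx]; exact H.x_pow
  obtain ⟨z', hz'⟩ : ∃ z' : E, (z' : Ω) = ⁅y2, (x : Ω)⁆ := ⟨⟨_, H.D.setup.Y_le hy2x⟩, rfl⟩
  have hz'Z : (z' : Ω) ∈ ZQ Q := by rw [hz']; exact hy2x
  have hz'1 : z' ≠ 1 := by
    intro h
    apply hy2E
    apply H.mem_of_comm (H.D.ext.le hy2)
    rw [← hx, ← comm_eq_one, ← hz', h]
    rfl
  have hy2N : y2 ∈ Subgroup.normalizer (E : Set Ω) := by
    apply H.mem_normalizer hy2
    rw [← hx, ← commutatorElement_inv]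
    exact E.inv_mem (H.D.setup.Y_le hy2x)
  obtain ⟨t, ht⟩ := exists_conjAut hy2N
  have htS : t ∈ autInducedBy S E := (mem_autInducedBy_iff S E t).2 ⟨y2, H.D.ext.le hy2, ht⟩
  have htF : t ∈ F.autGroup E := autInducedBy_le_autGroup F hES htS
  have htu : ∀ u : E, ∃ j : ℤ, t u = u * z ^ j := by
    intro u
    have h1 : ⁅y2, (u : Ω)⁆ ∈ ZQ Q := H.comm_mem_Z hy2 (by rw [← hx]; exact hy2x) u.2
    obtain ⟨j, hj⟩ := H.D.gen H.hz H.z_ne (w := ⟨_, H.D.setup.Y_le h1⟩) h1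
    refine ⟨j, ?_⟩
    rw [H.comm, hj]
    apply Subtype.ext
    rw [ht, conj_eq]
    rfl
  have htx : t x = x * z' := by
    rw [H.comm]
    apply Subtype.ext
    rw [ht, conj_eq, Subgroup.coe_mul, hz']
  have htZ : ∀ v : E, (v : Ω) ∈ ZQ Q → t v = v := fun v hv => Subtype.ext (by
    rw [ht, H.D.ext.conj_Z (H.D.ext.le hy2) hv])
  obtain ⟨s, hs⟩ : ∃ s : MulAut E, s = α * t * α⁻¹ := ⟨_, rfl⟩
  have hsF : s ∈ F.autGroup E := by
    rw [hs]
    exact mul_mem (mul_mem H.hα htF) (inv_mem H.hα)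
  have hsu : ∀ u : E, ∃ j : ℤ, s u = u * x ^ j := by
    intro u
    obtain ⟨j, hj⟩ := htu (α⁻¹ u)
    refine ⟨j, ?_⟩
    rw [hs, MulAut.mul_apply, MulAut.mul_apply, hj, map_mul, MulAut.apply_inv_self, map_zpow, hx]
  have hsx : s x = x := by
    rw [hs, MulAut.mul_apply, MulAut.mul_apply, hx, MulAut.inv_apply_self, htZ z H.hz]
  obtain ⟨k, hk⟩ := hsu z'
  refine ⟨t, htS, s, hsF, z', hz'Z, hz'1, htx, htZ z' hz'Z, hsx, k, hk, ?_⟩
  intro hd
  have h1 : s z' = z' := by rw [hk, zpow_eq_one_of_dvd hxp hd, mul_one]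
  have h2 : t (α⁻¹ z') = α⁻¹ z' := by
    apply α.injective
    rw [MulAut.apply_inv_self]
    have := h1
    rw [hs, MulAut.mul_apply, MulAut.mul_apply] at this
    exact this
  have h3 : y2 * (α⁻¹ z' : E) = (α⁻¹ z' : E) * y2 := by
    have h4 := congrArg Subtype.val h2
    rw [ht] at h4
    calc y2 * (α⁻¹ z' : E) = (y2 * (α⁻¹ z' : E) * y2⁻¹) * y2 := by group
      _ = _ := by rw [h4]
  exact hy2E (H.D.mem_of_comm (inv_mem H.hα) hz'Z
    (H.D.inv_moved H.hz H.hm hz'Z hz'1) (H.D.ext.le hy2) h3)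

/-- `E ∩ Q = Z` implies `|E| = p²`. -/
theorem card_E (H : IHyp p F Q E α z)
    (hC : ∀ w ∈ Q, ((α z : E) : Ω) * w = w * (α z : E) → w ∈ ZQ Q) : Nat.card E = p ^ 2 := by
  have hES := H.D.setup.le_S
  have hfinE : Finite E := finite_of_le hES
  have h1 := (Q.subgroupOf E).index_mul_card
  have h2 : Q.subgroupOf E = (ZQ Q).subgroupOf E := by
    ext u
    rw [Subgroup.mem_subgroupOf, Subgroup.mem_subgroupOf]
    constructor
    · intro hu
      exact hC u hu (H.comm_x u.2).symm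
    · intro hu
      exact ZQ_le Q hu
  have h3 : Nat.card (Q.subgroupOf E) = p := by
    rw [h2, Nat.card_congr (Subgroup.subgroupOfEquivOfLe H.D.setup.Y_le).toEquiv, H.D.ext.card_Z]
  have h4 := H.D.index_le
  have h5 : (Q.subgroupOf E).index ≠ 1 := by
    rw [Ne, Subgroup.index_eq_one, Subgroup.subgroupOf_eq_top]
    intro h
    exact H.x_not (h (α z).2)
  obtain ⟨n, hn⟩ := (H.D.pg.to_le hES).exists_card_eq
  have h6 : (Q.subgroupOf E).index ∣ p ^ n := by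
    rw [← hn]
    exact Subgroup.index_dvd_card _
  obtain ⟨m, -, hm⟩ := (Nat.dvd_prime_pow hp.out).1 h6
  have hm0 : m ≠ 0 := by
    rintro rfl
    exact h5 (by rw [hm, pow_zero])
  have hm1 : m ≤ 1 := by
    by_contra hlt
    push Not at hlt
    have h7 : p ^ 1 < p ^ m := Nat.pow_lt_pow_right hp.out.one_lt hlt
    rw [pow_one, ← hm] at h7
    omega
  have : m = 1 := by omega
  rw [h3, hm, this, pow_one] at h1
  rw [← h1]; ring

/-- Case P. -/
theorem concl_P (H : IHyp p F Q E α z) [Group.IsNilpotent S] {y2 : Ω} (hy2 : y2 ∈ Q)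
    (hy2x : ⁅y2, ((α z : E) : Ω)⁆ ∈ ZQ Q) (hy2E : y2 ∉ E) :
    (Nat.card Q = p ^ 5 ∧ (∀ q ∈ Q, q ^ p = 1) ∧ (Hyp4 p S Q ∨ HypG p S Q)) ∨
    (11 ≤ p ∧ Nat.card S = p ^ (p - 1) ∧ (∀ s : S, s ^ p = 1) ∧ Group.nilpotencyClass S = p - 2) := by
  have hES := H.D.setup.le_S
  have hfinE : Finite E := finite_of_le hES
  have hC := H.caseP hy2 hy2x hy2E
  have hcard := H.card_E hC
  have hess := H.D.essential H.hα H.hz H.hm
  have hpearl : Cfsg.Agent.H766.IsPearl F p E := ⟨hess, Or.inl hcard⟩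
  obtain ⟨t, htS, s, hsF, z', hz'Z, hz'1, htx, htz, hsx, k, hsz, hk⟩ := H.exists_ts hy2 hy2x hy2E
  have htF := autInducedBy_le_autGroup F hES htS
  have hxp := H.x_pow
  obtain ⟨x, hx⟩ : ∃ x : E, x = α z := ⟨_, rfl⟩
  rw [← hx] at htx hsx hsz hxp hC
  have hz'p : z' ^ p = 1 := H.pow z'
  have hEQ : ∀ u : E, (u : Ω) ∈ Q → ∃ j : ℤ, z' ^ j = u := by
    intro u hu
    apply H.D.gen hz'Z hz'1
    exact hC u hu (by rw [hx]; exact (H.comm_x u.2).symm)
  have hdec : ∀ u : E, ∃ i j : ℤ, u = z' ^ j * x ^ i := by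
    intro u
    obtain ⟨i, hi⟩ := H.index u
    obtain ⟨j, hj⟩ := hEQ _ hi
    refine ⟨-i, j, ?_⟩
    rw [hj, ← hx, zpow_neg]
    group
  have hautext : ∀ β γ : MulAut E, β x = γ x → β z' = γ z' → β = γ := by
    intro β γ h1 h2
    apply MulEquiv.ext
    intro u
    obtain ⟨i, j, rfl⟩ := hdec u
    rw [map_mul, map_mul, map_zpow, map_zpow, map_zpow, map_zpow, h1, h2]
  have hti : ∀ m : ℤ, (t ^ m) x = x * z' ^ m := pow_transvection htx htz
  have htzi : ∀ m : ℤ, (t ^ m) z' = z' := fun m =>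
    (MulAction.stabilizer (MulAut E) z').zpow_mem
      (show t ∈ MulAction.stabilizer (MulAut E) z' from htz) m
  -- Aut_S(E) = ⟨t⟩
  have hAut : ∀ γ ∈ autInducedBy S E, ∃ i : ℤ, γ = t ^ i := by
    intro γ hγ
    obtain ⟨g, hg, he⟩ := (mem_autInducedBy_iff S E γ).1 hγ
    have h1 : γ z' = z' := Subtype.ext (by rw [he, H.D.ext.conj_Z hg hz'Z])
    have h2 : ((γ x * x⁻¹ : E) : Ω) ∈ Q := by
      rw [Subgroup.coe_mul, he, Subgroup.coe_inv]
      -- g x g⁻¹ x⁻¹ ∈ Q since S/Q is cyclic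
      have hxQ : (x : Ω) ∉ Q := by rw [hx]; exact H.x_not
      obtain ⟨i, hi⟩ := H.D.ext.exists_zpow (hES x.2) hxQ hg
      have h3 : g * (x : Ω) * g⁻¹ * (x : Ω)⁻¹ =
          (g * (x : Ω) ^ i) * ((x : Ω) * (g * (x : Ω) ^ i)⁻¹ * (x : Ω)⁻¹) := by
        group
      rw [h3]
      exact Q.mul_mem hi (H.D.ext.conj_mem (hES x.2) (Q.inv_mem hi))
    obtain ⟨j, hj⟩ := hEQ _ h2
    refine ⟨j, hautext _ _ ?_ ?_⟩
    · rw [hti, H.comm, hj]; group
    · rw [h1, htzi]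
  have hfinal := Cfsg.Agent.H779.PearlFinal.pearl_final H.D.ext H.D.card_Q (x := (x : Ω)) (hES x.2)
    (by rw [hx]; exact H.x_not) (by rw [← Subgroup.coe_pow, hxp]; rfl) hC (by
      intro c d hcd
      have hcd' : (p : ℤ) ∣ (d : ℤ) * c - 1 := by
        have h1 := (Nat.modEq_iff_dvd.1 hcd.symm)
        push_cast at h1
        rwa [mul_comm (c : ℤ) d] at h1
      obtain ⟨n, hnF, hnx, hnz, -⟩ := exists_torus (G := F.autGroup E) htF hsF (H.comm x z') hxp htx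
        htz hsx hsz hk (u := d) (u' := c) hz'p hcd'
      have hninv : n⁻¹ x = x ^ (d : ℤ) := by
        apply n.injective
        rw [MulAut.apply_inv_self, map_zpow, hnx, ← zpow_mul]
        have : x ^ ((c : ℤ) * d) = x ^ (1 : ℤ) :=
          zpow_eq_zpow_of_modEq hxp (by rwa [mul_comm (c : ℤ) d])
        rw [this, zpow_one]
      have hninz : n⁻¹ z' = z' ^ (c : ℤ) := by
        apply n.injective
        rw [MulAut.apply_inv_self, map_zpow, hnz, ← zpow_mul]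
        have : z' ^ ((d : ℤ) * c) = z' ^ (1 : ℤ) := zpow_eq_zpow_of_modEq hz'p hcd'
        rw [this, zpow_one]
      have hnorm : ∀ β ∈ autInducedBy S E, n * β * n⁻¹ ∈ autInducedBy S E := by
        intro β hβ
        obtain ⟨i, rfl⟩ := hAut β hβ
        have h1 : n * t ^ i * n⁻¹ = t ^ ((d : ℤ) * d * i) := by
          apply hautext
          · rw [MulAut.mul_apply, MulAut.mul_apply, hninv, map_zpow, hti, hti, map_zpow, map_mul,
              map_zpow, hnx, hnz, (show Commute (x ^ (c : ℤ)) ((z' ^ (d : ℤ)) ^ i) from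
                H.comm _ _).mul_zpow, ← zpow_mul, ← zpow_mul, ← zpow_mul]
            have : x ^ ((c : ℤ) * d) = x ^ (1 : ℤ) :=
              zpow_eq_zpow_of_modEq hxp (by rwa [mul_comm (c : ℤ) d])
            rw [this, zpow_one]
            congr 2
            ring
          · rw [MulAut.mul_apply, MulAut.mul_apply, hninz, map_zpow, htzi, htzi, map_zpow, hnz,
              ← zpow_mul]
            have : z' ^ ((d : ℤ) * c) = z' ^ (1 : ℤ) := zpow_eq_zpow_of_modEq hz'p hcd'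
            rw [this, zpow_one]
        rw [h1]
        exact zpow_mem htS _
      obtain ⟨σ, -, hσ⟩ := Cfsg.Agent.H766.pearl_lift H.D.pg H.D.sat hpearl hnF hnorm
      refine ⟨σ, ?_, ?_⟩
      · rw [hσ x (hES x.2), hnx, zpow_natCast, Subgroup.coe_pow]
      · intro v hv
        have hvE : (v : Ω) ∈ E := H.D.setup.Y_le hv
        obtain ⟨j, hj⟩ := H.D.gen hz'Z hz'1 (w := ⟨v, hvE⟩) hv
        apply Subtype.ext
        have h1 := hσ ⟨v, hvE⟩ v.2
        have h2 : (⟨((⟨v, hvE⟩ : E) : Ω), v.2⟩ : S) = v := rfl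
        rw [h2] at h1
        rw [h1, ← hj, map_zpow, hnz, Subgroup.coe_pow]
        have h3 : (v : Ω) = (z' : Ω) ^ j := by
          have := congrArg Subtype.val hj
          rw [Subgroup.coe_zpow] at this
          exact this.symm
        rw [h3, Subgroup.coe_zpow, Subgroup.coe_zpow, ← zpow_mul, ← zpow_natCast, ← zpow_mul,
          mul_comm])
  rcases hfinal with ⟨h1, h2, s, hs, hsQ, hsp, y, hy, e, k, a, h3⟩ | h
  · exact Or.inl ⟨h1, h2, Or.inr ⟨s, hs, hsQ, hsp, y, hy, e, k, a, h3⟩⟩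
  · exact Or.inr h

end IHyp

end Cfsg.Agent.H764
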