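import Cfsg.Agent.H764.CaseI
import Cfsg.Agent.H764.Ov
import Cfsg.Agent.H608.OvTorus

/-!
# S5177, case U: `C_Q(x)` is the full preimage of the fixed points (helper764)
-/

set_option autoImplicit false
set_option linter.unusedSectionVars false

namespace Cfsg.Agent.H764

open Cfsg Cfsg.FusionSystem Cfsg.Agent.H802
open scoped commutatorElement

variable {Ω : Type*} [Group Ω] {S Q E : Subgroup Ω} {p : ℕ} [hp : Fact p.Prime]
  {F : FusionSystem S} [Finite S]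

namespace IHyp

variable {α : MulAut E} {z : E}

/-- Elements of `Aut_S(E)` are induced by elements of `Q`. -/
theorem exists_Q (H : IHyp p F Q E α z) {γ : MulAut E} (hγ : γ ∈ autInducedBy S E) :
    ∃ q ∈ Q, q ∈ Subgroup.normalizer (E : Set Ω) ∧ ∀ u : E, ((γ u : E) : Ω) = q * u * q⁻¹ := by
  have hES := H.D.setup.le_S
  have hfinE : Finite E := finite_of_le hES
  obtain ⟨g, hg, he⟩ := (mem_autInducedBy_iff S E γ).1 hγ
  obtain ⟨i, hi⟩ := H.D.ext.exists_zpow H.x_mem H.x_not hg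
  have h1 : ∀ u : E, ((γ u : E) : Ω) =
      (g * ((α z : E) : Ω) ^ i) * u * (g * ((α z : E) : Ω) ^ i)⁻¹ := by
    intro u
    rw [he]
    have h2 : Commute (((α z : E) : Ω) ^ i) (u : Ω) :=
      (show Commute ((α z : E) : Ω) (u : Ω) from (H.comm_x u.2).symm).zpow_left i
    calc g * (u : Ω) * g⁻¹ = g * ((u : Ω) * ((α z : E) : Ω) ^ i) * (((α z : E) : Ω) ^ i)⁻¹ * g⁻¹ := by
          group
      _ = g * (((α z : E) : Ω) ^ i * (u : Ω)) * (((α z : E) : Ω) ^ i)⁻¹ * g⁻¹ := by rw [h2.eq]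
      _ = _ := by group
  refine ⟨_, hi, mem_normalizer_of_conj ?_, h1⟩
  intro u hu
  have := h1 ⟨u, hu⟩
  rw [← this]
  exact (γ _).2

theorem comm_Q_mem (H : IHyp p F Q E α z) {q : Ω} (hq : q ∈ Q) : ⁅q, ((α z : E) : Ω)⁆ ∈ Q := by
  have h1 : ⁅q, ((α z : E) : Ω)⁆ = q * (((α z : E) : Ω) * q⁻¹ * ((α z : E) : Ω)⁻¹) := by
    rw [commutatorElement_def]; group
  rw [h1]
  exact Q.mul_mem hq (H.D.ext.conj_mem H.x_mem (Q.inv_mem hq))

/-- The configuration `Ov`. -/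
theorem ov (H : IHyp p F Q E α z)
    (hT2 : ∀ q ∈ Q, ⁅q, ((α z : E) : Ω)⁆ ∈ ZQ Q → q ∈ E) :
    Ov p (F.autGroup E) (autInducedBy S E) (Q.subgroupOf E) (α z) z where
  comm := H.comm
  exp := H.pow
  z_mem := ZQ_le Q H.hz
  z_ne := H.z_ne
  x_not := H.x_not
  index := H.index
  T_le := autInducedBy_le_autGroup F H.D.setup.le_S
  T_comm := by
    intro s hs t ht
    obtain ⟨q, hq, -, hqe⟩ := H.exists_Q hs
    obtain ⟨r, hr, -, hre⟩ := H.exists_Q ht
    apply MulEquiv.ext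
    intro u
    apply Subtype.ext
    rw [MulAut.mul_apply, MulAut.mul_apply, hqe, hre, hre, hqe]
    have h1 : ⁅q, r⁆ ∈ ZQ Q := H.D.ext.cm hq hr
    have h2 : q * r = ⁅q, r⁆ * (r * q) := by rw [commutatorElement_def]; group
    have hqS := H.D.ext.le hq
    have hrS := H.D.ext.le hr
    have h3 : r * q * (u : Ω) * (r * q)⁻¹ ∈ S :=
      S.mul_mem (S.mul_mem (S.mul_mem hrS hqS) (H.D.setup.le_S u.2)) (S.inv_mem (S.mul_mem hrS hqS))
    calc q * (r * (u : Ω) * r⁻¹) * q⁻¹ = (q * r) * u * (q * r)⁻¹ := by group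
      _ = ⁅q, r⁆ * (r * q * (u : Ω) * (r * q)⁻¹) * ⁅q, r⁆⁻¹ := by rw [h2]; group
      _ = r * q * (u : Ω) * (r * q)⁻¹ := by
        rw [← H.D.ext.Z_comm h3 h1]; group
      _ = _ := by group
  T_z := by
    intro t ht
    obtain ⟨q, hq, -, hqe⟩ := H.exists_Q ht
    apply Subtype.ext
    rw [hqe, H.D.ext.conj_Z (H.D.ext.le hq) H.hz]
  T_H := by
    intro t ht w hw
    obtain ⟨q, hq, -, hqe⟩ := H.exists_Q ht
    have h1 : ⁅q, (w : Ω)⁆ ∈ ZQ Q := H.D.ext.cm hq hw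
    obtain ⟨j, hj⟩ := H.D.gen H.hz H.z_ne (w := ⟨_, H.D.setup.Y_le h1⟩) h1
    refine ⟨j, ?_⟩
    rw [H.comm, hj]
    apply Subtype.ext
    rw [hqe, conj_eq]
    rfl
  T_x := by
    intro t ht
    obtain ⟨q, hq, hqN, hqe⟩ := H.exists_Q ht
    refine ⟨⟨_, H.comm_mem_of_normalizer hqN⟩, H.comm_Q_mem hq, ?_⟩
    rw [H.comm]
    apply Subtype.ext
    rw [hqe, conj_eq]
    rfl
  T_surj := by
    intro w hw
    have hwQ : (w : Ω) ∈ Q := hw
    obtain ⟨q, hq, ζ, hζ, hwq⟩ := H.D.ext.duality H.x_mem (Q.inv_mem hwQ) (by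
      intro c hc hcZ
      have hcE : c ∈ E := by
        apply hT2 c hc
        rw [← commutatorElement_inv]
        exact (ZQ Q).inv_mem hcZ
      exact congrArg Subtype.val (H.comm ⟨c, hcE⟩ w⁻¹))
    have hwq' : (w : Ω)⁻¹ = ⁅((α z : E) : Ω), q⁆ * ζ := hwq
    have hζE : ζ ∈ E := H.D.setup.Y_le hζ
    have hxq : ⁅((α z : E) : Ω), q⁆ ∈ E := by
      have : ⁅((α z : E) : Ω), q⁆ = (w : Ω)⁻¹ * ζ⁻¹ := by rw [hwq']; group
      rw [this]
      exact E.mul_mem (E.inv_mem w.2) (E.inv_mem hζE)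
    have hqN := H.mem_normalizer hq hxq
    obtain ⟨t, ht⟩ := exists_conjAut hqN
    obtain ⟨i, hi⟩ := H.D.gen H.hz H.z_ne (w := ⟨ζ, hζE⟩) hζ
    refine ⟨t, (mem_autInducedBy_iff S E t).2 ⟨q, H.D.ext.le hq, ht⟩, i, ?_⟩
    rw [hi, H.comm (α z) w, mul_assoc, H.comm (α z) ⟨ζ, hζE⟩, ← mul_assoc]
    apply Subtype.ext
    rw [ht, conj_eq, Subgroup.coe_mul, Subgroup.coe_mul]
    congr 1
    rw [← commutatorElement_inv]
    have h2 : ⁅((α z : E) : Ω), q⁆ = (w : Ω)⁻¹ * ζ⁻¹ := by rw [hwq']; group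
    rw [h2, mul_inv_rev, inv_inv, inv_inv]
    exact (H.D.ext.Z_comm (H.D.setup.le_S w.2) hζ).symm
  T_inj := by
    intro t ht i hti
    obtain ⟨q, hq, -, hqe⟩ := H.exists_Q ht
    have h1 : ⁅q, ((α z : E) : Ω)⁆ ∈ ZQ Q := by
      have h2 : ((t (α z) * (α z)⁻¹ : E) : Ω) = ⁅q, ((α z : E) : Ω)⁆ := by
        rw [Subgroup.coe_mul, hqe]; rfl
      rw [← h2, hti, H.comm (α z), mul_inv_cancel_right, Subgroup.coe_zpow]
      exact (ZQ Q).zpow_mem H.hz i
    have hqE := hT2 q hq h1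
    apply MulEquiv.ext
    intro u
    apply Subtype.ext
    rw [hqe]
    have h3 : q * (u : Ω) = u * q := congrArg Subtype.val (H.comm ⟨q, hqE⟩ u)
    rw [h3]
    simp
  trans := ⟨α, H.hα, rfl⟩
  hI := by
    intro β hβ hβz
    have h1 := H.hI β hβ z H.hz hβz
    obtain ⟨i, hi⟩ := H.D.gen H.hz H.z_ne h1
    exact Subgroup.mem_zpowers_iff.2 ⟨i, hi⟩

/-- Case U. -/
theorem concl_U (H : IHyp p F Q E α z)
    (hT2 : ∀ q ∈ Q, ⁅q, ((α z : E) : Ω)⁆ ∈ ZQ Q → q ∈ E)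
    (hA : ∀ t ∈ autInducedBy S E, t ≠ 1 → ∀ w : E, t (α z) = (α z) * w → t w ≠ w)
    (hTc : Nat.card (autInducedBy S E) ≤ p ^ 2)
    (hB : Nat.card (autInducedBy S E) = p ^ 2 → ∀ β ∈ F.autGroup E, β z ∉ Subgroup.zpowers z →
      ∃ t ∈ autInducedBy S E, ∃ i : ℤ, β z = (t (α z)) ^ i) :
    Nat.card Q = p ^ 5 ∧ (∀ q ∈ Q, q ^ p = 1) ∧ (Hyp4 p S Q ∨ HypG p S Q) := by
  have hext := H.D.ext
  have hES := H.D.setup.le_S
  have hfinE : Finite E := finite_of_le hES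
  have hfinQ : Finite Q := finite_of_le hext.le
  have hov := H.ov hT2
  have hxS := H.x_mem
  -- anisotropy on the level of Q
  have hA' : ∀ y ∈ Q, y ∈ Subgroup.normalizer (E : Set Ω) → y ∉ E →
      ⁅y, ⁅((α z : E) : Ω), y⁆⁆ ≠ 1 := by
    intro y hy hyN hyE h
    obtain ⟨t, ht⟩ := exists_conjAut hyN
    have htS : t ∈ autInducedBy S E := (mem_autInducedBy_iff S E t).2 ⟨y, hext.le hy, ht⟩
    have ht1 : t ≠ 1 := by
      rintro rfl
      apply hyE
      apply H.mem_of_comm (hext.le hy)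
      have := ht (α z)
      rw [MulAut.one_apply] at this
      calc y * ((α z : E) : Ω) = y * ((α z : E) : Ω) * y⁻¹ * y := by group
        _ = _ := by rw [← this]
    have hyx := H.comm_mem_of_normalizer hyN
    refine hA t htS ht1 ⟨_, hyx⟩ ?_ ?_
    · rw [H.comm]
      apply Subtype.ext
      rw [ht, conj_eq]
      rfl
    · apply Subtype.ext
      rw [ht]
      show y * ⁅y, ((α z : E) : Ω)⁆ * y⁻¹ = ⁅y, ((α z : E) : Ω)⁆
      have h1 : Commute y ⁅((α z : E) : Ω), y⁆ := comm_eq_one.1 h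
      have h2 : Commute y ⁅y, ((α z : E) : Ω)⁆ := by
        rw [← commutatorElement_inv]
        exact h1.inv_right
      rw [h2.eq]; group
  -- all of Q normalizes E
  have hN : ∀ q ∈ Q, q ∈ Subgroup.normalizer (E : Set Ω) := by
    intro q hq
    by_contra hqN
    obtain ⟨n, hn1, hn2⟩ := exists_iterate H.D.pg hxS (hext.le hq)
      (Z := ((Subgroup.normalizer (E : Set Ω) : Subgroup Ω) : Set Ω)) (Subgroup.one_mem _) hqN
    rw [Function.iterate_succ_apply'] at hn2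
    have hrQ := iterate_mem hext hxS hq n
    set r := (fun r => ⁅((α z : E) : Ω), r⁆)^[n] q with hr
    have hyN : ⁅((α z : E) : Ω), r⁆ ∈ Subgroup.normalizer (E : Set Ω) := hn2
    have hyQ : ⁅((α z : E) : Ω), r⁆ ∈ Q := hext.comm_mem_Q hxS hrQ
    have hyE : ⁅((α z : E) : Ω), r⁆ ∉ E := fun h => hn1 (H.mem_normalizer hrQ h)
    set x := ((α z : E) : Ω) with hx
    set y := ⁅x, r⁆ with hy
    have hwE : ⁅x, y⁆ ∈ E := by
      rw [← commutatorElement_inv]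
      exact E.inv_mem (H.comm_mem_of_normalizer hyN)
    have hwQ : ⁅x, y⁆ ∈ Q := hext.comm_mem_Q hxS hyQ
    apply hA' y hyQ hyN hyE
    have h1 := hext.invar hxS hrQ hwQ
    have h2 : x * ⁅x, y⁆ * x⁻¹ = ⁅x, y⁆ := by
      have h3 : ⁅x, y⁆ * x = x * ⁅x, y⁆ := H.comm_x hwE
      rw [← h3]; group
    rw [h2, conj_eq x r, hext.bil_left hyQ hrQ hwQ] at h1
    exact mul_eq_right.1 h1
  -- the map Q → Aut(E)
  obtain ⟨c, hc⟩ : ∃ c : Q →* MulAut E, ∀ (q : Q) (u : E), ((c q u : E) : Ω) = (q : Ω) * u * (q : Ω)⁻¹ := by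
    have hex : ∀ q : Q, ∃ t : MulAut E, ∀ u : E, ((t u : E) : Ω) = (q : Ω) * u * (q : Ω)⁻¹ :=
      fun q => exists_conjAut (hN q q.2)
    choose c hc using hex
    refine ⟨{ toFun := c, map_one' := ?_, map_mul' := ?_ }, hc⟩
    · apply MulEquiv.ext
      intro u
      apply Subtype.ext
      rw [hc]
      simp
    · intro a b
      apply MulEquiv.ext
      intro u
      apply Subtype.ext
      rw [hc, MulAut.mul_apply, hc, hc, Subgroup.coe_mul]
      group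
  have hcT : ∀ q : Q, c q ∈ autInducedBy S E := fun q =>
    (mem_autInducedBy_iff S E _).2 ⟨q, hext.le q.2, hc q⟩
  have hker : ∀ q : Q, c q = 1 → (q : Ω) ∈ E := by
    intro q h
    apply H.mem_of_comm (hext.le q.2)
    have := hc q (α z)
    rw [h, MulAut.one_apply] at this
    calc (q : Ω) * ((α z : E) : Ω) = (q : Ω) * ((α z : E) : Ω) * (q : Ω)⁻¹ * q := by group
      _ = _ := by rw [← this]
  have hcardQ : Nat.card Q = Nat.card (autInducedBy S E) * Nat.card (E ⊓ Q : Subgroup Ω) := by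
    have h1 := c.ker.index_mul_card
    rw [Subgroup.index_ker] at h1
    have h2 : c.range = autInducedBy S E := by
      apply le_antisymm
      · rintro _ ⟨q, rfl⟩
        exact hcT q
      · intro γ hγ
        obtain ⟨q, hq, -, hqe⟩ := H.exists_Q hγ
        refine ⟨⟨q, hq⟩, ?_⟩
        apply MulEquiv.ext
        intro u
        apply Subtype.ext
        rw [hc, hqe]
    have h3 : c.ker = (E ⊓ Q).subgroupOf Q := by
      ext q
      rw [MonoidHom.mem_ker, Subgroup.mem_subgroupOf]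
      constructor
      · intro h
        exact ⟨hker q h, q.2⟩
      · rintro ⟨h, -⟩
        apply MulEquiv.ext
        intro u
        apply Subtype.ext
        rw [hc]
        have h3 : (q : Ω) * (u : Ω) = u * q := congrArg Subtype.val (H.comm ⟨q, h⟩ u)
        rw [h3]
        simp
    rw [h2, h3, Nat.card_congr (Subgroup.subgroupOfEquivOfLe inf_le_right).toEquiv] at h1
    exact h1.symm
  have hsq : Nat.card (E ⊓ Q : Subgroup Ω) * Nat.card (E ⊓ Q : Subgroup Ω) ≤ p * Nat.card Q := by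
    refine hext.card_sq_le inf_le_right ?_
    intro u hu v hv
    exact congrArg Subtype.val (H.comm ⟨u, hu.1⟩ ⟨v, hv.1⟩)
  have hcards : Nat.card (autInducedBy S E) = p ^ 2 ∧ Nat.card Q = p ^ 5 := by
    set t := Nat.card (autInducedBy S E) with ht
    set e := Nat.card (E ⊓ Q : Subgroup Ω) with he
    have hfin2 : Finite (E ⊓ Q : Subgroup Ω) := finite_of_le (S := Q) inf_le_right
    have hepos : 0 < e := Nat.card_pos
    have h1 : e ≤ p * t := by
      rw [hcardQ] at hsq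
      apply Nat.le_of_mul_le_mul_right _ hepos
      calc e * e ≤ p * (t * e) := hsq
        _ = p * t * e := by ring
    have h2 : p ^ 5 ≤ t * (p * t) := by
      calc p ^ 5 ≤ Nat.card Q := H.D.card_Q
        _ = t * e := hcardQ
        _ ≤ t * (p * t) := Nat.mul_le_mul_left _ h1
    have h3 : t = p ^ 2 := by
      apply le_antisymm hTc
      by_contra hlt
      push Not at hlt
      have h4 : t * (p * t) < p ^ 5 := by
        have h5 : t * t < p ^ 2 * p ^ 2 := Nat.mul_self_lt_mul_self hlt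
        calc t * (p * t) = p * (t * t) := by ring
          _ < p * (p ^ 2 * p ^ 2) := Nat.mul_lt_mul_of_pos_left h5 hp.out.pos
          _ = p ^ 5 := by ring
      omega
    refine ⟨h3, le_antisymm ?_ H.D.card_Q⟩
    calc Nat.card Q = t * e := hcardQ
      _ ≤ t * (p * t) := Nat.mul_le_mul_left _ h1
      _ = p ^ 5 := by rw [h3]; ring
  obtain ⟨hT, hQ5⟩ := hcards
  have hNS : normalizerIn S E = S := by
    refine inf_eq_left.2 fun g hg => ?_
    obtain ⟨i, hi⟩ := hext.exists_zpow hxS H.x_not hg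
    have h1 : g = (g * ((α z : E) : Ω) ^ i) * (((α z : E) : Ω) ^ i)⁻¹ := by group
    rw [h1]
    exact Subgroup.mul_mem _ (hN _ hi) (Subgroup.inv_mem _
      (Subgroup.le_normalizer (E.zpow_mem (α z).2 i)))
  -- exponent of Q
  have hpow : ∀ q ∈ Q, q ^ p = 1 := by
    obtain ⟨t₁, ht₁, t₂, ht₂, n, hn, μ, a₁, a₂, hgen, hnT, hnz, hn1, hn2, ha1, ha2⟩ :=
      Cfsg.Agent.H608.OvTorus.ov_torus hext.ne_two hov hT hA (hB hT)
        (fun N hN hNp hle => eq_autInducedBy_of_isPGroup H.D.pg H.D.sat H.D.setup.fullyNormalized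
          hN hNp hle)
    have hτ := exists_extension_of_normalizes H.D.pg H.D.sat H.D.setup.fullyNormalized hn hnT
    rw [hNS] at hτ
    obtain ⟨τ, -, hτ⟩ := hτ
    have hτZ : ∀ v : S, (v : Ω) ∈ ZQ Q → τ v = v ^ μ := by
      intro v hv
      have hvE : (v : Ω) ∈ E := H.D.setup.Y_le hv
      obtain ⟨j, hj⟩ := H.D.gen H.hz H.z_ne (w := ⟨v, hvE⟩) hv
      apply Subtype.ext
      have h1 := hτ v hvE v.2
      have h2 : (⟨(v : Ω), v.2⟩ : S) = v := rfl
      rw [h2] at h1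
      have h3 : (v : Ω) = (z : Ω) ^ j := by
        have := congrArg Subtype.val hj
        rw [Subgroup.coe_zpow] at this
        exact this.symm
      rw [h1, ← hj, map_zpow, hnz, Subgroup.coe_zpow, Subgroup.coe_zpow, Subgroup.coe_zpow, h3,
        ← zpow_mul, ← zpow_mul, mul_comm]
    have key : ∀ t ∈ autInducedBy S E, ∀ a : ℤ, n * t * n⁻¹ = t ^ a → ¬ (p : ℤ) ∣ a - μ →
        ∀ q ∈ Q, (∀ u : E, ((t u : E) : Ω) = q * u * q⁻¹) → q ^ p = 1 := by
      intro t ht a hta ha q hq hqe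
      have hqS := hext.le hq
      have hτQ : ((τ ⟨q, hqS⟩ : S) : Ω) ∈ Q := by
        refine hext.apply_mem hxS ?_ H.D.center.symm τ hq
        intro D hD hcard
        by_contra hcon
        push Not at hcon
        have hDE : D ≤ E := by
          intro d hd
          apply hT2 d (hD hd)
          rw [← commutatorElement_inv]
          exact (ZQ Q).inv_mem (hcon d hd)
        refine Ext.pow_arith hp.out.one_lt H.D.card_Q hcard (hext.card_sq_le hD ?_)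
        intro u hu v hv
        exact congrArg Subtype.val (H.comm ⟨u, hDE hu⟩ ⟨v, hDE hv⟩)
      -- τ q = e q^a
      have hcomm : ∀ u : E, ((τ ⟨q, hqS⟩ : S) : Ω) * u * ((τ ⟨q, hqS⟩ : S) : Ω)⁻¹ =
          q ^ a * u * (q ^ a)⁻¹ := by
        intro u
        rw [← coe_zpow_conj hqe a u, ← hta]
        -- n (t (n⁻¹ u))
        have h1 : (⟨q, hqS⟩ : S) * ⟨(n⁻¹ u : E), hES (n⁻¹ u).2⟩ * (⟨q, hqS⟩ : S)⁻¹ =
            ⟨(t (n⁻¹ u) : E), hES (t (n⁻¹ u)).2⟩ := Subtype.ext (hqe (n⁻¹ u)).symm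
        have h2 := congrArg τ h1
        rw [map_mul, map_mul, map_inv] at h2
        have h3 : τ ⟨(n⁻¹ u : E), hES (n⁻¹ u).2⟩ = ⟨u, hES u.2⟩ := by
          apply Subtype.ext
          rw [hτ (n⁻¹ u : E) (n⁻¹ u).2]
          show ((n (n⁻¹ u) : E) : Ω) = u
          rw [MulAut.apply_inv_self]
        have h4 : ((τ ⟨(t (n⁻¹ u) : E), hES (t (n⁻¹ u)).2⟩ : S) : Ω) = ((n * t * n⁻¹) u : E) := by
          rw [hτ (t (n⁻¹ u) : E) (t (n⁻¹ u)).2]
          rfl
        rw [h3] at h2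
        rw [← h4, ← h2]
        rfl
      have heE : ((τ ⟨q, hqS⟩ : S) : Ω) * (q ^ a)⁻¹ ∈ E := by
        have hqa := Q.zpow_mem hq a
        apply H.mem_of_comm (hext.le (Q.mul_mem hτQ (Q.inv_mem hqa)))
        -- commutes with x
        set y := ((τ ⟨q, hqS⟩ : S) : Ω) with hy
        -- y⁻¹ ... : conjugation by y and q^a agree on E
        have hagree : ∀ u ∈ E, y * u * y⁻¹ = q ^ a * u * (q ^ a)⁻¹ := fun u hu => hcomm ⟨u, hu⟩
        have hqaN : (q ^ a)⁻¹ ∈ Subgroup.normalizer (E : Set Ω) :=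
          Subgroup.inv_mem _ (hN _ hqa)
        have h5 : (q ^ a)⁻¹ * ((α z : E) : Ω) * (q ^ a) ∈ E := by
          have := (Subgroup.mem_normalizer_iff.1 hqaN ((α z : E) : Ω)).1 (α z).2
          rwa [inv_inv] at this
        have h6 := hagree _ h5
        have h7 : q ^ a * ((q ^ a)⁻¹ * ((α z : E) : Ω) * (q ^ a)) * (q ^ a)⁻¹ = ((α z : E) : Ω) := by
          group
        rw [h7] at h6
        calc y * (q ^ a)⁻¹ * ((α z : E) : Ω) =
            (y * ((q ^ a)⁻¹ * ((α z : E) : Ω) * (q ^ a)) * y⁻¹) * (y * (q ^ a)⁻¹) := by group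
          _ = ((α z : E) : Ω) * (y * (q ^ a)⁻¹) := by rw [h6]
      have heQ : ((τ ⟨q, hqS⟩ : S) : Ω) * (q ^ a)⁻¹ ∈ Q := Q.mul_mem hτQ (Q.inv_mem (Q.zpow_mem hq a))
      have hep : (((τ ⟨q, hqS⟩ : S) : Ω) * (q ^ a)⁻¹) ^ p = 1 :=
        congrArg Subtype.val (H.pow ⟨_, heE⟩)
      have hτp : ((τ ⟨q, hqS⟩ : S) : Ω) ^ p = (q ^ p) ^ a := by
        have h8 : ((τ ⟨q, hqS⟩ : S) : Ω) = (((τ ⟨q, hqS⟩ : S) : Ω) * (q ^ a)⁻¹) * q ^ a := by group
        rw [h8, hext.zpow_mul_pow heQ hq, hep, one_mul]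
      have hτp' : ((τ ⟨q, hqS⟩ : S) : Ω) ^ p = (q ^ p) ^ μ := by
        have h9 := hτZ ((⟨q, hqS⟩ : S) ^ p) (hext.pow_mem hq)
        rw [map_pow] at h9
        have := congrArg Subtype.val h9
        rw [Subgroup.coe_pow, Subgroup.coe_zpow, Subgroup.coe_pow] at this
        exact this
      obtain ⟨m, hm⟩ := exists_mul_sub_one ha
      have h10 : (q ^ p) ^ ((a - μ) * m) = (q ^ p) ^ (1 : ℤ) :=
        zpow_eq_zpow_of_modEq (hext.Z_pow (hext.pow_mem hq)) hm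
      rw [zpow_one, zpow_mul, zpow_sub, ← hτp, ← hτp', mul_inv_cancel, one_zpow] at h10
      exact h10.symm
    obtain ⟨q₁, hq₁, -, hq₁e⟩ := H.exists_Q ht₁
    obtain ⟨q₂, hq₂, -, hq₂e⟩ := H.exists_Q ht₂
    have hp1 := key t₁ ht₁ a₁ hn1 ha1 q₁ hq₁ hq₁e
    have hp2 := key t₂ ht₂ a₂ hn2 ha2 q₂ hq₂ hq₂e
    intro q hq
    obtain ⟨i, j, hij⟩ := hgen _ (hcT ⟨q, hq⟩)
    have h1 : c ⟨q₁, hq₁⟩ = t₁ := by
      apply MulEquiv.ext
      intro u
      apply Subtype.ext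
      rw [hc, hq₁e]
    have h2 : c ⟨q₂, hq₂⟩ = t₂ := by
      apply MulEquiv.ext
      intro u
      apply Subtype.ext
      rw [hc, hq₂e]
    rw [← h1, ← h2, ← map_zpow, ← map_zpow, ← map_mul] at hij
    have h3 : c (⟨q, hq⟩ * ((⟨q₁, hq₁⟩ : Q) ^ i * (⟨q₂, hq₂⟩ : Q) ^ j)⁻¹) = 1 := by
      rw [map_mul, map_inv, hij, mul_inv_cancel]
    have h4 := hker _ h3
    have h5 : (q * (q₁ ^ i * q₂ ^ j)⁻¹) ^ p = 1 := congrArg Subtype.val (H.pow ⟨_, h4⟩)
    have hq12 : q₁ ^ i * q₂ ^ j ∈ Q := Q.mul_mem (Q.zpow_mem hq₁ i) (Q.zpow_mem hq₂ j)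
    have h6 : q = (q * (q₁ ^ i * q₂ ^ j)⁻¹) * (q₁ ^ i * q₂ ^ j) := by group
    rw [h6, hext.mul_pow (Q.mul_mem hq (Q.inv_mem hq12)) hq12, h5, one_mul,
      hext.zpow_mul_pow (Q.zpow_mem hq₁ i) hq₂, hp2, one_zpow, mul_one]
    have h7 := hext.zpow_mul_pow Q.one_mem hq₁ i
    rw [one_mul, one_pow, one_mul, hp1, one_zpow] at h7
    exact h7
  refine ⟨hQ5, hpow, Or.inl ⟨((α z : E) : Ω), hxS, H.x_not, ?_, ?_, ?_, ?_⟩⟩
  · exact congrArg Subtype.val H.x_pow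
  · intro q hq r hr hxq hxr
    have h1 := H.mem_of_comm (hext.le hq) hxq.symm
    have h2 := H.mem_of_comm (hext.le hr) hxr.symm
    exact congrArg Subtype.val (H.comm ⟨q, h1⟩ ⟨r, h2⟩)
  · intro q hq
    have h1 : ⁅((α z : E) : Ω), q⁆ ∈ E := by
      rw [← commutatorElement_inv]
      exact E.inv_mem (H.comm_mem_of_normalizer (hN q hq))
    exact (H.comm_x h1).symm
  · intro q hq hxq
    have h1 : ⁅q, ((α z : E) : Ω)⁆ ∈ ZQ Q := by
      rw [← commutatorElement_inv]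
      exact (ZQ Q).inv_mem hxq
    exact (H.comm_x (hT2 q hq h1)).symm

end IHyp

end Cfsg.Agent.H764
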