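import Cfsg.Agent.H764.FusTool

/-!
# Tools for saturated fusion systems, part 2 (helper764)

* `eq_autInducedBy_of_isPGroup` : a `p`-subgroup of `Aut_F(E)` containing `Aut_S(E)` equals it.
* `normalizes_of_normal` : if `Aut_S(E)` lies in a normal `p`-subgroup of `Aut_F(E)` it is normal.
* `agree_of_pow` : an element of `Aut_F(S)` whose `p`-th power centralizes `Z(S)` centralizes `Z(S)`.
* `negOne` : two transvections generate an element inverting the plane.
-/

set_option autoImplicit false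

namespace Cfsg.Agent.H764

open Cfsg Cfsg.FusionSystem Cfsg.Agent.H802

variable {Ω : Type*} [Group Ω] {S : Subgroup Ω} {p : ℕ} [hp : Fact p.Prime] [Finite S]

/-- A `p`-subgroup of `Aut_F(E)` containing `Aut_S(E)`, `E` fully normalized, equals `Aut_S(E)`. -/
theorem eq_autInducedBy_of_isPGroup {F : FusionSystem S} {E : Subgroup Ω}
    (hS : IsPGroup p S) (hF : F.IsSaturated p) (hE : F.IsFullyNormalized E)
    {N : Subgroup (MulAut E)} (hN : N ≤ F.autGroup E) (hNp : IsPGroup p N)
    (hle : autInducedBy S E ≤ N) : N = autInducedBy S E := by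
  have hfinE : Finite E := finite_of_le hE.1
  obtain ⟨-, R, hR⟩ := isFullyAutomized_of_isFullyNormalized hS hF hE
  have h1 : IsPGroup p (N.subgroupOf (F.autGroup E)) :=
    hNp.comap_of_injective _ (Subgroup.subtype_injective _)
  have h2 : (R : Subgroup (F.autGroup E)) ≤ N.subgroupOf (F.autGroup E) := by
    intro x hx
    rw [hR, Subgroup.mem_subgroupOf] at hx
    exact hle hx
  have h3 := R.is_maximal' h1 h2
  refine le_antisymm ?_ hle
  intro x hx
  have h4 : (⟨x, hN hx⟩ : F.autGroup E) ∈ N.subgroupOf (F.autGroup E) := hx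
  rw [h3, hR, Subgroup.mem_subgroupOf] at h4
  exact h4

/-- If `Aut_S(E)` lies in a `p`-subgroup of `Aut_F(E)` normalized by `α`, then `α` normalizes `Aut_S(E)`. -/
theorem normalizes_of_normal {F : FusionSystem S} {E : Subgroup Ω}
    (hS : IsPGroup p S) (hF : F.IsSaturated p) (hE : F.IsFullyNormalized E)
    {N : Subgroup (MulAut E)} (hN : N ≤ F.autGroup E) (hNp : IsPGroup p N)
    (hle : autInducedBy S E ≤ N) {α : MulAut E} (hα : ∀ γ ∈ N, α * γ * α⁻¹ ∈ N) :
    ∀ γ ∈ autInducedBy S E, α * γ * α⁻¹ ∈ autInducedBy S E := by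
  have h := eq_autInducedBy_of_isPGroup hS hF hE hN hNp hle
  rw [h] at hα
  exact hα

/-- Elements of `MulAut` of `p`-th power one: a subgroup consisting of such elements is a `p`-group. -/
theorem isPGroup_of_pow_eq_one {G : Type*} [Group G] {N : Subgroup G} {n : ℕ}
    (h : ∀ x ∈ N, x ^ p ^ n = 1) : IsPGroup p N := by
  rintro ⟨x, hx⟩
  exact ⟨n, Subtype.ext (h x hx)⟩

theorem isFullyNormalized_self (F : FusionSystem S) : F.IsFullyNormalized S := by
  refine ⟨le_rfl, fun Q hQ => ?_⟩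
  have h1 : Q ≤ S := isConj_le_right hQ
  have h2 := isConj_card_eq hQ
  have h3 : Q = S := Subgroup.eq_of_le_of_card_ge h1 h2.le
  rw [h3]

/-- An automorphism of `S` preserves `Z(S)`. -/
theorem apply_mem_center (β : MulAut S) {c : S} (hc : (c : Ω) ∈ centralizerIn S S) :
    ((β c : S) : Ω) ∈ centralizerIn S S := by
  refine ⟨(β c).2, Subgroup.mem_centralizer_iff.2 fun g hg => ?_⟩
  have h1 : (β⁻¹ ⟨g, hg⟩ : S) * c = c * β⁻¹ ⟨g, hg⟩ :=
    Subtype.ext (Subgroup.mem_centralizer_iff.1 hc.2 _ (β⁻¹ ⟨g, hg⟩).2)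
  have h2 := congrArg β h1
  rw [map_mul, map_mul, MulAut.apply_inv_self] at h2
  exact congrArg Subtype.val h2

/-- If `δ ∈ Aut_F(S)` and `δ^(p^n)` is trivial on `Z(S)` then `δ` is trivial on `Z(S)`. -/
theorem agree_of_pow {F : FusionSystem S} (hS : IsPGroup p S) (hF : F.IsSaturated p)
    {δ : MulAut S} (hδ : δ ∈ F.autGroup S) {n : ℕ}
    (h : ∀ c : S, (c : Ω) ∈ centralizerIn S S → (δ ^ p ^ n) c = c) :
    ∀ c : S, (c : Ω) ∈ centralizerIn S S → δ c = c := by
  let K : Subgroup (F.autGroup S) :=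
    { carrier := {β | ∀ c : S, (c : Ω) ∈ centralizerIn S S → (β : MulAut S) c = c}
      mul_mem' := by
        intro a b ha hb c hc
        show (a : MulAut S) ((b : MulAut S) c) = c
        rw [hb c hc, ha c hc]
      one_mem' := fun c _ => rfl
      inv_mem' := by
        intro a ha c hc
        show (a : MulAut S)⁻¹ c = c
        conv_lhs => rw [← ha c hc]
        exact (a : MulAut S).symm_apply_apply c }
  have hKn : K.Normal := by
    refine ⟨fun a ha b c hc => ?_⟩
    show (b : MulAut S) ((a : MulAut S) ((b : MulAut S)⁻¹ c)) = c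
    have h1 : (((b : MulAut S)⁻¹ c : S) : Ω) ∈ centralizerIn S S := apply_mem_center _ hc
    rw [ha _ h1]
    exact (b : MulAut S).apply_symm_apply c
  obtain ⟨-, R, hR⟩ := isFullyAutomized_of_isFullyNormalized hS hF (isFullyNormalized_self F)
  have hRK : (R : Subgroup (F.autGroup S)) ≤ K := by
    intro a ha c hc
    rw [hR, Subgroup.mem_subgroupOf] at ha
    obtain ⟨g, hg, he⟩ := (mem_autInducedBy_iff S S _).1 ha
    apply Subtype.ext
    rw [he, Subgroup.mem_centralizer_iff.1 hc.2 g hg]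
    group
  have hcop : ¬ p ∣ K.index := by
    intro hd
    exact R.not_dvd_index' (by
      intro h0
      have : Finite (F.autGroup S) := inferInstance
      exact Subgroup.index_ne_zero_of_finite h0) (hd.trans (Subgroup.index_dvd_of_le hRK))
  have hδK : ((⟨δ, hδ⟩ : F.autGroup S) ^ p ^ n) ∈ K := by
    intro c hc
    exact h c hc
  have h2 : (QuotientGroup.mk' K ⟨δ, hδ⟩) ^ p ^ n = 1 := by
    rw [← map_pow]
    exact (QuotientGroup.eq_one_iff _).2 hδK
  have h3 : (QuotientGroup.mk' K ⟨δ, hδ⟩) = 1 := by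
    have h4 : orderOf (QuotientGroup.mk' K ⟨δ, hδ⟩) ∣ p ^ n := orderOf_dvd_of_pow_eq_one h2
    have h5 : orderOf (QuotientGroup.mk' K ⟨δ, hδ⟩) ∣ K.index := by
      rw [Subgroup.index_eq_card]
      exact orderOf_dvd_natCard _
    have h6 : Nat.Coprime (p ^ n) K.index :=
      Nat.Coprime.pow_left n ((Nat.Prime.coprime_iff_not_dvd hp.out).2 hcop)
    exact orderOf_eq_one_iff.1 (Nat.eq_one_of_dvd_coprimes h6 h4 h5)
  have h7 : (⟨δ, hδ⟩ : F.autGroup S) ∈ K := (QuotientGroup.eq_one_iff _).1 h3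
  exact h7

end Cfsg.Agent.H764
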