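import Mathlib

/-!
# Two transvections of a plane generate the torus of `SL(2, p)` (helper764)
-/

set_option autoImplicit false

namespace Cfsg.Agent.H764

variable {E : Type*} [Group E] {p : ℕ} [hp : Fact p.Prime]

theorem zpow_eq_one_of_dvd {G : Type*} [Group G] {a : G} {q : ℕ} (ha : a ^ q = 1) {n : ℤ}
    (h : (q : ℤ) ∣ n) : a ^ n = 1 := by
  obtain ⟨m, rfl⟩ := h
  rw [zpow_mul, zpow_natCast, ha, one_zpow]

theorem zpow_eq_zpow_of_modEq {G : Type*} [Group G] {a : G} {q : ℕ} (ha : a ^ q = 1) {m n : ℤ}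
    (h : (q : ℤ) ∣ m - n) : a ^ m = a ^ n := by
  have h1 := zpow_eq_one_of_dvd ha h
  rw [zpow_sub] at h1
  exact mul_inv_eq_one.1 h1

/-- Inverses modulo a prime. -/
theorem exists_mul_sub_one {k : ℤ} (hk : ¬ (p : ℤ) ∣ k) : ∃ j : ℤ, (p : ℤ) ∣ k * j - 1 := by
  have h1 : IsCoprime k (p : ℤ) := by
    rw [isCoprime_comm]
    exact (Nat.prime_iff_prime_int.1 hp.out).coprime_iff_not_dvd.2 hk
  obtain ⟨u, v, huv⟩ := h1
  exact ⟨u, ⟨-v, by linarith⟩⟩

/-- A power map of an automorphism acting as a transvection. -/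
theorem pow_transvection {t : MulAut E} {a z : E} (hta : t a = a * z)
    (htz : t z = z) (n : ℤ) : (t ^ n) a = a * z ^ n := by
  have hz : ∀ n : ℤ, (t ^ n) z = z := by
    intro n
    have h1 : t ∈ MulAction.stabilizer (MulAut E) z := htz
    exact (MulAction.stabilizer (MulAut E) z).zpow_mem h1 n
  have hpos : ∀ n : ℕ, (t ^ n) a = a * z ^ n := by
    intro n
    induction n with
    | zero => simp
    | succ n ih =>
      rw [pow_succ', MulAut.mul_apply, ih, map_mul, map_pow, hta, htz, pow_succ']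
      group
  cases n with
  | ofNat n => simpa using hpos n
  | negSucc n =>
    rw [zpow_negSucc, zpow_negSucc]
    have h1 := hpos (n + 1)
    have h2 : (t ^ (n + 1))⁻¹ (a * z ^ (n + 1)) = a := by
      rw [← h1]
      exact (t ^ (n + 1)).symm_apply_apply a
    have h3 : (t ^ (n + 1))⁻¹ (z ^ (n + 1)) = z ^ (n + 1) := by
      rw [map_pow]
      congr 1
      have := hz (-((n + 1 : ℕ) : ℤ))
      rwa [zpow_neg, zpow_natCast] at this
    rw [map_mul, h3] at h2
    exact eq_mul_inv_of_mul_eq h2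

/-- Two transvections with different centres on the plane `⟨a, z⟩` generate the swap `a ↦ z^u`, `z ↦ a^(-u')`,
`u u' = 1`. -/
theorem exists_swap {G : Subgroup (MulAut E)} {t s : MulAut E} (ht : t ∈ G) (hs : s ∈ G) {a z : E}
    (haz : a * z = z * a) (hap : a ^ p = 1) (hta : t a = a * z) (htz : t z = z)
    (hsa : s a = a) {k : ℤ} (hsz : s z = z * a ^ k) (hk : ¬ (p : ℤ) ∣ k) {u u' : ℤ}
    (hzp : z ^ p = 1) (huu : (p : ℤ) ∣ u * u' - 1) :
    ∃ n ∈ G, n a = z ^ u ∧ n z = a ^ (-u') ∧ ∀ y, t y = y → s y = y → n y = y := by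
  obtain ⟨j, hj⟩ := exists_mul_sub_one hk
  -- s₀ = s ^ (-j * u') : z ↦ z * a ^ (-u')
  have hs0a : ∀ m : ℤ, (s ^ m) a = a := fun m =>
    (MulAction.stabilizer (MulAut E) a).zpow_mem (show s ∈ MulAction.stabilizer (MulAut E) a from hsa) m
  have hs0z : ∀ m : ℤ, (s ^ m) z = z * a ^ (k * m) := by
    intro m
    have := pow_transvection (t := s) (a := z) (z := a ^ k) hsz (by rw [map_zpow, hsa]) m
    rw [this, ← zpow_mul]
  have hta' : ∀ m : ℤ, (t ^ m) a = a * z ^ m := pow_transvection hta htz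
  have htz' : ∀ m : ℤ, (t ^ m) z = z := fun m =>
    (MulAction.stabilizer (MulAut E) z).zpow_mem (show t ∈ MulAction.stabilizer (MulAut E) z from htz) m
  have hC : Commute a z := haz
  have e1 : a ^ (k * (-(j * u'))) = a ^ (-u') := by
    apply zpow_eq_zpow_of_modEq hap
    have : k * (-(j * u')) - (-u') = -u' * (k * j - 1) := by ring
    rw [this]
    exact Dvd.dvd.mul_left hj _
  have e2 : (s ^ (-(j * u'))) z = z * a ^ (-u') := by rw [hs0z, e1]
  have e3 : (s ^ (-(j * u'))) (a * z ^ u) = z ^ u := by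
    rw [map_mul, map_zpow, hs0a, e2, (hC.symm.zpow_right (-u')).mul_zpow, ← zpow_mul]
    have e4 : a ^ (-u' * u) = a ^ (-1 : ℤ) := by
      apply zpow_eq_zpow_of_modEq hap
      have : -u' * u - (-1) = -1 * (u * u' - 1) := by ring
      rw [this]
      exact Dvd.dvd.mul_left huu _
    rw [e4, zpow_neg_one, ← mul_assoc, (hC.zpow_right u).eq]
    group
  have e5 : (t ^ u) (z * a ^ (-u')) = a ^ (-u') := by
    rw [map_mul, map_zpow, htz', hta', (hC.zpow_right u).mul_zpow, ← zpow_mul]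
    have e4 : z ^ (u * -u') = z ^ (-1 : ℤ) := by
      apply zpow_eq_zpow_of_modEq hzp
      have : u * -u' - (-1) = -1 * (u * u' - 1) := by ring
      rw [this]
      exact Dvd.dvd.mul_left huu _
    rw [e4, zpow_neg_one, ← mul_assoc, ← (hC.zpow_left (-u')).eq]
    group
  refine ⟨t ^ u * s ^ (-(j * u')) * t ^ u,
    mul_mem (mul_mem (zpow_mem ht _) (zpow_mem hs _)) (zpow_mem ht _), ?_, ?_, ?_⟩
  · rw [MulAut.mul_apply, MulAut.mul_apply, hta', e3, map_zpow, htz']
  · rw [MulAut.mul_apply, MulAut.mul_apply, htz', e2, e5]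
  · intro y hy1 hy2
    have h1 : ∀ m : ℤ, (t ^ m) y = y := fun m =>
      (MulAction.stabilizer (MulAut E) y).zpow_mem
        (show t ∈ MulAction.stabilizer (MulAut E) y from hy1) m
    have h2 : ∀ m : ℤ, (s ^ m) y = y := fun m =>
      (MulAction.stabilizer (MulAut E) y).zpow_mem
        (show s ∈ MulAction.stabilizer (MulAut E) y from hy2) m
    rw [MulAut.mul_apply, MulAut.mul_apply, h1, h2, h1]

/-- Two transvections with different centres on the plane `⟨a, z⟩` generate the torus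
`a ↦ a^u'`, `z ↦ z^u`, `u u' = 1`. -/
theorem exists_torus {G : Subgroup (MulAut E)} {t s : MulAut E} (ht : t ∈ G) (hs : s ∈ G) {a z : E}
    (haz : a * z = z * a) (hap : a ^ p = 1) (hta : t a = a * z) (htz : t z = z)
    (hsa : s a = a) {k : ℤ} (hsz : s z = z * a ^ k) (hk : ¬ (p : ℤ) ∣ k) {u u' : ℤ}
    (hzp : z ^ p = 1) (huu : (p : ℤ) ∣ u * u' - 1) :
    ∃ n ∈ G, n a = a ^ u' ∧ n z = z ^ u ∧ ∀ y, t y = y → s y = y → n y = y := by
  obtain ⟨n₁, hn₁, h1a, h1z, h1y⟩ := exists_swap (u := 1) (u' := 1) ht hs haz hap hta htz hsa hsz hk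
    hzp (by simp)
  obtain ⟨n₂, hn₂, h2a, h2z, h2y⟩ := exists_swap (u := -u) (u' := -u') ht hs haz hap hta htz hsa hsz
    hk hzp (by rwa [neg_mul_neg])
  refine ⟨n₂ * n₁, mul_mem hn₂ hn₁, ?_, ?_, fun y hy1 hy2 => ?_⟩
  · rw [MulAut.mul_apply, h1a, zpow_one, h2z, neg_neg]
  · rw [MulAut.mul_apply, h1z, map_zpow, h2a, ← zpow_mul]
    congr 1
    ring
  · rw [MulAut.mul_apply, h1y y hy1 hy2, h2y y hy1 hy2]

end Cfsg.Agent.H764
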