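import Cfsg.Agent.H764.Extra
import Cfsg.Agent.H764.FusTool2
import Cfsg.Agent.H764.Plane

/-!
# The centre of a `p`-group with an extraspecial subgroup of index `p` (helper764)

If `O_p(F) = 1` then `Z(S) = Z(Q)`.
-/

set_option autoImplicit false

namespace Cfsg.Agent.H764

open Cfsg Cfsg.FusionSystem Cfsg.Agent.H802

variable {Ω : Type*} [Group Ω] {S : Subgroup Ω} {p : ℕ} [hp : Fact p.Prime]

/-- If `H` has prime index in `S` (and is normalized by `S`), `c ∈ S \ H`, then `S = H⟨c⟩`. -/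
theorem exists_mul_zpow_mem_of_index {H : Subgroup Ω} (hi : (H.subgroupOf S).index = p)
    (hn : ∀ g ∈ S, ∀ q ∈ H, g * q * g⁻¹ ∈ H) (hHS : H ≤ S) {c : Ω} (hc : c ∈ S) (hcH : c ∉ H)
    {s : Ω} (hs : s ∈ S) : ∃ i : ℤ, s * c ^ i ∈ H := by
  have hnorm : (H.subgroupOf S).Normal := ⟨fun q hq g => hn g g.2 q hq⟩
  have hcard : Nat.card (S ⧸ H.subgroupOf S) = p := by
    rw [← Subgroup.index_eq_card, hi]
  have h1 : (QuotientGroup.mk' (H.subgroupOf S) ⟨c, hc⟩) ≠ 1 := by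
    intro h
    exact hcH ((QuotientGroup.eq_one_iff (N := H.subgroupOf S) ⟨c, hc⟩).1 h)
  have h2 : (QuotientGroup.mk' (H.subgroupOf S) ⟨s, hs⟩)⁻¹ ∈
      Subgroup.zpowers (QuotientGroup.mk' (H.subgroupOf S) ⟨c, hc⟩) :=
    mem_zpowers_of_prime_card hcard h1
  obtain ⟨i, hi⟩ := Subgroup.mem_zpowers_iff.1 h2
  refine ⟨i, ?_⟩
  have h3 : QuotientGroup.mk' (H.subgroupOf S) (⟨s, hs⟩ * ⟨c, hc⟩ ^ i) = 1 := by
    rw [map_mul, map_zpow, hi, mul_inv_cancel]
  have h4 := (QuotientGroup.eq_one_iff (N := H.subgroupOf S) _).1 h3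
  exact (by simpa using Subgroup.mem_subgroupOf.1 h4)

/-- The inner automorphism of `P` given by `g`, applied to powers. -/
theorem coe_zpow_conj {P : Subgroup Ω} {t : MulAut P} {g : Ω}
    (ht : ∀ x : P, ((t x : P) : Ω) = g * x * g⁻¹) (n : ℤ) (x : P) :
    (((t ^ n) x : P) : Ω) = g ^ n * x * (g ^ n)⁻¹ := by
  have hpos : ∀ n : ℕ, ∀ x : P, (((t ^ n) x : P) : Ω) = g ^ n * x * (g ^ n)⁻¹ := by
    intro n
    induction n with
    | zero => intro x; simp
    | succ n ih =>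
      intro x
      rw [pow_succ, MulAut.mul_apply, ih, ht, pow_succ]
      group
  cases n with
  | ofNat n => simpa using hpos n x
  | negSucc n =>
    rw [zpow_negSucc, zpow_negSucc]
    have h1 := hpos (n + 1) ((t ^ (n + 1))⁻¹ x)
    rw [MulAut.apply_inv_self] at h1
    rw [h1]
    group

variable [Finite S]

/-- In the situation where all commutators of `S` lie in `Z`, a subgroup `P` moving `Z` gives an element of
`Aut_F(S)` inverting `Z` and trivial on `Z(S) / Z`, whose fixed points on `Z(S)` are `Z(S) ∩ γ(Z(S))`. -/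
theorem exists_good {F : FusionSystem S} {Z P : Subgroup Ω} (hS : IsPGroup p S)
    (hF : F.IsSaturated p) (hodd : Odd p) (h : Setup F Z P) (hZ : Nat.card Z = p)
    (hcomm : ∀ s ∈ S, ∀ t ∈ S, s * t * s⁻¹ * t⁻¹ ∈ Z) (hnc : ∃ s ∈ S, ∃ t ∈ S, s * t ≠ t * s)
    {γ : MulAut P} (hγ : γ ∈ F.autGroup P) (hmove : ¬ Fix Z γ) :
    ∃ β ∈ F.autGroup S, (∀ z : S, (z : Ω) ∈ Z → β z = z⁻¹) ∧
      (∀ c : S, (c : Ω) ∈ centralizerIn S S → ((β c * c⁻¹ : S) : Ω) ∈ Z) ∧
      (∀ (c : Ω) (hcS : c ∈ S) (hc : c ∈ centralizerIn S S) (hcP : c ∈ P),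
        β ⟨c, hcS⟩ = ⟨c, hcS⟩ ↔ ((γ⁻¹ ⟨c, hcP⟩ : P) : Ω) ∈ centralizerIn S S) ∧
      (∀ (g : Ω), g ∈ S → g ∉ P → ∀ e : P, g * e = e * g → (e : Ω) ∈ centralizerIn S S) ∧
      (∀ e f : P, e * f = f * e) := by
  have hPS := h.le_S
  have hZP := h.Y_le
  have hfinP : Finite P := finite_of_le hPS
  -- `S` normalizes `P`
  have hconj : ∀ s ∈ S, ∀ e ∈ P, s * e * s⁻¹ ∈ P := by
    intro s hs e he
    have h1 := P.mul_mem (hZP (hcomm s hs e (hPS he))) he
    have h2 : s * e * s⁻¹ * e⁻¹ * e = s * e * s⁻¹ := by group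
    rwa [h2] at h1
  have hNP : S ≤ Subgroup.normalizer (P : Set Ω) := by
    intro s hs
    refine Subgroup.mem_normalizer_iff.2 fun x => ⟨hconj s hs x, fun hx => ?_⟩
    have h1 := hconj s⁻¹ (S.inv_mem hs) _ hx
    have h2 : s⁻¹ * (s * x * s⁻¹) * s⁻¹⁻¹ = x := by group
    rwa [h2] at h1
  have hNS : normalizerIn S P = S := inf_eq_left.2 hNP
  -- a generator of `Z` moved by `γ`
  have hmove' : ∃ z₀ : P, (z₀ : Ω) ∈ Z ∧ ((γ z₀ : P) : Ω) ∉ Z := by
    by_contra hcon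
    push Not at hcon
    exact hmove hcon
  obtain ⟨z₀, hz₀, ha⟩ := hmove'
  have hz₀1 : (z₀ : Ω) ≠ 1 := by
    intro h1
    apply ha
    have : z₀ = 1 := Subtype.ext h1
    rw [this, map_one]
    exact Z.one_mem
  have hgen : ∀ w : P, (w : Ω) ∈ Z → ∃ i : ℤ, z₀ ^ i = w := by
    intro w hw
    obtain ⟨i, hi⟩ := exists_zpow_of_card_prime hZ hz₀ hz₀1 hw
    exact ⟨i, Subtype.ext (by simpa using hi)⟩
  -- `P` is abelian
  have hab : ∀ e f : P, e * f = f * e := by
    intro e f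
    by_contra hne
    apply ha
    have h1 : ((e * f * e⁻¹ * f⁻¹ : P) : Ω) ∈ Z := hcomm e (hPS e.2) f (hPS f.2)
    have h2 : ((e * f * e⁻¹ * f⁻¹ : P) : Ω) ≠ 1 := by
      intro h3
      apply hne
      have h4 : e * f * e⁻¹ * f⁻¹ = 1 := Subtype.ext h3
      calc e * f = (e * f * e⁻¹ * f⁻¹) * (f * e) := by group
        _ = f * e := by rw [h4, one_mul]
    obtain ⟨i, hi⟩ := exists_zpow_of_card_prime hZ h1 h2 hz₀
    have h3 : z₀ = (e * f * e⁻¹ * f⁻¹) ^ i := Subtype.ext (by simpa using hi.symm)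
    rw [h3, map_zpow]
    have h4 : ((γ (e * f * e⁻¹ * f⁻¹) : P) : Ω) ∈ Z := by
      rw [map_mul, map_mul, map_mul, map_inv, map_inv]
      exact hcomm _ (hPS (γ e).2) _ (hPS (γ f).2)
    simpa using Z.zpow_mem h4 i
  -- an element outside `P`
  have hPne : ∃ g ∈ S, g ∉ P := by
    by_contra hcon
    push Not at hcon
    obtain ⟨s, hs, t, ht, hne⟩ := hnc
    exact hne (congrArg Subtype.val (hab ⟨s, hcon s hs⟩ ⟨t, hcon t ht⟩))
  obtain ⟨g, hg, hgP⟩ := hPne
  have hgN : ∀ s ∈ S, s ∈ normalizerIn S P := fun s hs => by rw [hNS]; exact hs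
  set a : P := γ z₀ with ha_def
  have hap : a ^ p = 1 := by
    rw [ha_def, ← map_pow]
    have : z₀ ^ p = 1 := Subtype.ext (by simpa using pow_eq_one_of_card_prime hZ hz₀)
    rw [this, map_one]
  -- semiregularity for `a`
  have hSRa : ∀ s ∈ S, s * (a : Ω) = a * s → s ∈ P := by
    intro s hs hsa
    refine h.mem_of_fixes hS hF hγ hmove (hgN s hs) ?_
    intro y hy hx
    obtain ⟨i, rfl⟩ := hgen y hy
    have h1 : s * ((γ (z₀ ^ i) : P) : Ω) * s⁻¹ = (γ (z₀ ^ i) : P) := by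
      rw [map_zpow, ← ha_def]
      have h2 : Commute s (((a ^ i : P)) : Ω) := by
        rw [Subgroup.coe_zpow]
        exact (show Commute s (a : Ω) from hsa).zpow_right i
      rw [h2.eq]
      group
    have h2 : (⟨s * ((γ (z₀ ^ i) : P) : Ω) * s⁻¹, hx⟩ : P) = γ (z₀ ^ i) := Subtype.ext h1
    rw [h2, MulAut.inv_apply_self]
    exact hy
  have hmove2 : ¬ Fix Z γ⁻¹ := fun h1 => hmove (by simpa using Fix.inv h1)
  -- semiregularity for `γ⁻¹ w`, `w ∈ Z` nontrivial
  have hSRi : ∀ w : P, (w : Ω) ∈ Z → w ≠ 1 → ∀ s ∈ S, s * ((γ⁻¹ w : P) : Ω) = (γ⁻¹ w : P) * s →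
      s ∈ P := by
    intro w hw hw1 s hs hsw
    refine h.mem_of_fixes hS hF (inv_mem hγ) hmove2 (hgN s hs) ?_
    intro y hy hx
    obtain ⟨i, hi⟩ := exists_zpow_of_card_prime hZ hw (fun h1 => hw1 (Subtype.ext h1)) hy
    have hy' : y = w ^ i := Subtype.ext (by simpa using hi.symm)
    subst hy'
    have h1 : s * ((γ⁻¹ (w ^ i) : P) : Ω) * s⁻¹ = (γ⁻¹ (w ^ i) : P) := by
      rw [map_zpow]
      have h2 : Commute s ((((γ⁻¹ w) ^ i : P)) : Ω) := by
        rw [Subgroup.coe_zpow]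
        exact (show Commute s ((γ⁻¹ w : P) : Ω) from hsw).zpow_right i
      rw [h2.eq]
      group
    have h2 : (⟨s * ((γ⁻¹ (w ^ i) : P) : Ω) * s⁻¹, hx⟩ : P) = γ⁻¹ (w ^ i) := Subtype.ext h1
    rw [h2, MulAut.inv_apply_self]
    exact hy
  -- the transvection `t`
  obtain ⟨t, ht⟩ := exists_conjAut (hNP hg)
  have htF : t ∈ F.autGroup P :=
    autInducedBy_le_autGroup F hPS ((mem_autInducedBy_iff S P t).2 ⟨g, hg, ht⟩)
  have htz : ∀ w : P, (w : Ω) ∈ Z → t w = w := by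
    intro w hw
    apply Subtype.ext
    rw [ht, h.comm hg hw]
    group
  obtain ⟨z, hz⟩ : ∃ z : P, z = a⁻¹ * t a := ⟨_, rfl⟩
  have hta : t a = a * z := by rw [hz]; group
  have hzZ : (z : Ω) ∈ Z := by
    have h1 := hcomm g hg a (hPS a.2)
    have h2 : (z : Ω) = g * a * g⁻¹ * (a : Ω)⁻¹ := by
      rw [hz, Subgroup.coe_mul, ht, Subgroup.coe_inv]
      have h3 : (a : Ω)⁻¹ * (g * a * g⁻¹) = (g * a * g⁻¹) * (a : Ω)⁻¹ := by
        have := hab a⁻¹ (t a)
        have := congrArg Subtype.val this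
        simpa [ht] using this
      exact h3
    rw [h2]
    exact h1
  have hz1 : z ≠ 1 := by
    intro h1
    apply hgP
    apply hSRa g hg
    have h2 : t a = a := by rw [hta, h1, mul_one]
    have h3 := congrArg Subtype.val h2
    rw [ht] at h3
    exact mul_inv_eq_iff_eq_mul.1 h3
  have hzp : z ^ p = 1 := Subtype.ext (by simpa using pow_eq_one_of_card_prime hZ hzZ)
  have hzgen : ∀ w : P, (w : Ω) ∈ Z → ∃ i : ℤ, z ^ i = w := by
    intro w hw
    obtain ⟨i, hi⟩ := exists_zpow_of_card_prime hZ hzZ (fun h1 => hz1 (Subtype.ext h1)) hw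
    exact ⟨i, Subtype.ext (by simpa using hi)⟩
  have htzz : t z = z := htz z hzZ
  -- `t w * w⁻¹ ∈ Z`
  have htw : ∀ w : P, ∃ i : ℤ, t w = w * z₀ ^ i := by
    intro w
    have h1 : ((t w * w⁻¹ : P) : Ω) ∈ Z := by
      rw [Subgroup.coe_mul, ht, Subgroup.coe_inv]
      exact hcomm g hg w (hPS w.2)
    obtain ⟨i, hi⟩ := hgen _ h1
    exact ⟨i, by rw [hi, hab w]; group⟩
  have htw' : ∀ w : P, ∃ i : ℤ, t w = w * z ^ i := by
    intro w
    have h1 : ((t w * w⁻¹ : P) : Ω) ∈ Z := by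
      rw [Subgroup.coe_mul, ht, Subgroup.coe_inv]
      exact hcomm g hg w (hPS w.2)
    obtain ⟨i, hi⟩ := hzgen _ h1
    exact ⟨i, by rw [hi, hab w]; group⟩
  -- the conjugate transvection
  set s : MulAut P := γ * t * γ⁻¹ with hs_def
  have hsF : s ∈ F.autGroup P := mul_mem (mul_mem hγ htF) (inv_mem hγ)
  have hsapp : ∀ w : P, s w = γ (t (γ⁻¹ w)) := fun w => rfl
  have hsa : s a = a := by
    rw [hsapp, ha_def, MulAut.inv_apply_self, htz z₀ hz₀]
  have hsw : ∀ w : P, ∃ i : ℤ, s w = w * a ^ i := by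
    intro w
    obtain ⟨i, hi⟩ := htw (γ⁻¹ w)
    exact ⟨i, by rw [hsapp, hi, map_mul, MulAut.apply_inv_self, map_zpow]⟩
  obtain ⟨k, hk⟩ := htw (γ⁻¹ z)
  have hsz : s z = z * a ^ k := by
    rw [hsapp, hk, map_mul, MulAut.apply_inv_self, map_zpow]
  have hkp : ¬ (p : ℤ) ∣ k := by
    intro hd
    apply hgP
    apply hSRi z hzZ hz1 g hg
    have h1 : z₀ ^ k = 1 := by
      apply zpow_eq_one_of_dvd (q := p) _ hd
      exact Subtype.ext (by simpa using pow_eq_one_of_card_prime hZ hz₀)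
    rw [h1, mul_one] at hk
    have h3 := congrArg Subtype.val hk
    rw [ht] at h3
    exact mul_inv_eq_iff_eq_mul.1 h3
  obtain ⟨n, hn, hna, hnz, hny⟩ := exists_torus (p := p) (u := -1) (u' := -1) htF hsF (hab a z) hap
    hta htzz hsa hsz hkp hzp (by simp)
  rw [zpow_neg_one] at hna hnz
  -- decomposition of elements of `P`
  have hdec : ∀ e : P, ∃ (y : P) (l i : ℤ), e = y * z ^ l * a ^ i ∧ t y = y ∧ s y = y := by
    intro e
    obtain ⟨i, hi⟩ := htw' e
    have h1 : t (e * a ^ (-i)) = e * a ^ (-i) := by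
      rw [map_mul, map_zpow, hi, hta, (show Commute a z from hab a z).mul_zpow]
      have h2 : e * z ^ i * (a ^ (-i) * z ^ (-i)) = e * a ^ (-i) * (z ^ i * z ^ (-i)) := by
        have h3 : z ^ i * a ^ (-i) = a ^ (-i) * z ^ i := hab _ _
        calc e * z ^ i * (a ^ (-i) * z ^ (-i)) = e * (z ^ i * a ^ (-i)) * z ^ (-i) := by group
          _ = e * (a ^ (-i) * z ^ i) * z ^ (-i) := by rw [h3]
          _ = e * a ^ (-i) * (z ^ i * z ^ (-i)) := by group
      rw [h2]
      simp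
    obtain ⟨m, hm⟩ := hsw (e * a ^ (-i))
    obtain ⟨j, hj⟩ := exists_mul_sub_one hkp
    have h2 : s (e * a ^ (-i) * z ^ (-(j * m))) = e * a ^ (-i) * z ^ (-(j * m)) := by
      rw [map_mul, hm, map_zpow, hsz, (show Commute z (a ^ k) from hab _ _).mul_zpow, ← zpow_mul]
      have h3 : a ^ m * a ^ (k * -(j * m)) = 1 := by
        rw [← zpow_add]
        apply zpow_eq_one_of_dvd hap
        have : m + k * -(j * m) = -m * (k * j - 1) := by ring
        rw [this]
        exact Dvd.dvd.mul_left hj _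
      calc e * a ^ (-i) * a ^ m * (z ^ (-(j * m)) * a ^ (k * -(j * m)))
          = e * a ^ (-i) * a ^ m * (a ^ (k * -(j * m)) * z ^ (-(j * m))) := by
            rw [hab (z ^ (-(j * m)))]
        _ = e * a ^ (-i) * (a ^ m * a ^ (k * -(j * m))) * z ^ (-(j * m)) := by group
        _ = e * a ^ (-i) * z ^ (-(j * m)) := by rw [h3, mul_one]
    refine ⟨e * a ^ (-i) * z ^ (-(j * m)), j * m, i, ?_, ?_, h2⟩
    · have h3 : z ^ (-(j * m)) * z ^ (j * m) = 1 := by rw [← zpow_add]; simp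
      calc e = e * (a ^ (-i) * a ^ i) := by rw [← zpow_add]; simp
        _ = e * a ^ (-i) * (z ^ (-(j * m)) * z ^ (j * m)) * a ^ i := by rw [h3]; group
        _ = _ := by group
    · rw [map_mul, h1, map_zpow, htzz]
  -- `n` commutes with `t`
  have hcommute : n * t = t * n := by
    apply MulEquiv.ext
    intro e
    obtain ⟨y, l, i, he, hy1, hy2⟩ := hdec e
    have hy3 := hny y hy1 hy2
    show n (t e) = t (n e)
    rw [he]
    simp only [map_mul, map_zpow, hy1, hy3, htzz, hta, hnz, hna, map_inv]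
    rw [mul_inv_rev, hab z⁻¹ a⁻¹]
  -- automorphisms induced by `S` are powers of `t`
  have hSt : ∀ s' ∈ S, ∃ m : ℤ, ∀ x : P, s' * (x : Ω) * s'⁻¹ = ((t ^ m) x : P) := by
    intro s' hs'
    have h1 := hcomm s' hs' a (hPS a.2)
    obtain ⟨m, hm⟩ := hzgen ⟨_, hZP h1⟩ h1
    have hm' : (z : Ω) ^ m = s' * a * s'⁻¹ * (a : Ω)⁻¹ := by
      have := congrArg Subtype.val hm
      simpa using this
    refine ⟨m, ?_⟩
    have h2 : s' * g ^ (-m) ∈ P := by
      refine hSRa _ (S.mul_mem hs' (S.zpow_mem hg _)) ?_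
      have h3 : g ^ (-m) * (a : Ω) * (g ^ (-m))⁻¹ = a * (z : Ω) ^ (-m) := by
        rw [← coe_zpow_conj ht, pow_transvection hta htzz]
        simp
      have h4 : s' * (z : Ω) ^ (-m) = (z : Ω) ^ (-m) * s' :=
        h.comm hs' (Z.zpow_mem hzZ _)
      have h5 : s' * (a : Ω) * s'⁻¹ = z ^ m * a := by rw [hm']; group
      have h6 : (z : Ω) ^ m * a * (z : Ω) ^ (-m) = a := by
        have : z ^ m * a * z ^ (-m) = a := by
          rw [hab (z ^ m) a, mul_assoc, ← zpow_add]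
          simp
        have := congrArg Subtype.val this
        simpa using this
      calc s' * g ^ (-m) * (a : Ω) = s' * (g ^ (-m) * (a : Ω) * (g ^ (-m))⁻¹) * g ^ (-m) := by group
        _ = s' * (a * (z : Ω) ^ (-m)) * g ^ (-m) := by rw [h3]
        _ = (s' * (a : Ω) * s'⁻¹) * (s' * (z : Ω) ^ (-m)) * g ^ (-m) := by group
        _ = z ^ m * a * ((z : Ω) ^ (-m) * s') * g ^ (-m) := by rw [h5, h4]
        _ = (z ^ m * a * (z : Ω) ^ (-m)) * (s' * g ^ (-m)) := by group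
        _ = a * (s' * g ^ (-m)) := by rw [h6]
    intro x
    rw [coe_zpow_conj ht]
    have h3 : g ^ m * (x : Ω) * (g ^ m)⁻¹ ∈ P := by
      rw [← coe_zpow_conj ht]
      exact ((t ^ m) x).2
    have h4 := congrArg Subtype.val (hab ⟨_, h2⟩ ⟨_, h3⟩)
    have h5 : s' * g ^ (-m) * (g ^ m * (x : Ω) * (g ^ m)⁻¹) =
        g ^ m * (x : Ω) * (g ^ m)⁻¹ * (s' * g ^ (-m)) := h4
    calc s' * (x : Ω) * s'⁻¹ = (s' * g ^ (-m) * (g ^ m * (x : Ω) * (g ^ m)⁻¹)) * (g ^ m * s'⁻¹) := by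
          group
      _ = (g ^ m * (x : Ω) * (g ^ m)⁻¹ * (s' * g ^ (-m))) * (g ^ m * s'⁻¹) := by rw [h5]
      _ = g ^ m * (x : Ω) * (g ^ m)⁻¹ := by group
  have hnorm : ∀ δ ∈ autInducedBy S P, n * δ * n⁻¹ ∈ autInducedBy S P := by
    intro δ hδ
    obtain ⟨s', hs', he⟩ := (mem_autInducedBy_iff S P δ).1 hδ
    obtain ⟨m, hm⟩ := hSt s' hs'
    have h1 : δ = t ^ m := by
      apply MulEquiv.ext
      intro x
      apply Subtype.ext
      rw [he, hm]
    have h2 : n * δ * n⁻¹ = δ := by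
      rw [h1]
      have h3 : Commute n t := hcommute
      rw [(h3.zpow_right m).eq]
      group
    rw [h2]
    exact hδ
  obtain ⟨β, hβ, hβe⟩ := exists_extension_of_normalizes hS hF h.fullyNormalized hn hnorm
  -- transport along `N_S(P) = S`
  have hex : ∃ β ∈ F.autGroup S, ∀ (x : Ω) (hx : x ∈ P) (hx' : x ∈ S),
      ((β ⟨x, hx'⟩ : S) : Ω) = (n ⟨x, hx⟩ : P) := by
    have key : ∀ (N : Subgroup Ω), N = S → ∀ β ∈ F.autGroup N,
        (∀ (x : Ω) (hx : x ∈ P) (hx' : x ∈ N), ((β ⟨x, hx'⟩ : N) : Ω) = (n ⟨x, hx⟩ : P)) →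
        ∃ β ∈ F.autGroup S, ∀ (x : Ω) (hx : x ∈ P) (hx' : x ∈ S),
          ((β ⟨x, hx'⟩ : S) : Ω) = (n ⟨x, hx⟩ : P) := by
      rintro N rfl β hβ hβe
      exact ⟨β, hβ, hβe⟩
    exact key _ hNS β hβ hβe
  obtain ⟨β, hβ, hβe⟩ := hex
  -- elements commuting with `g`
  have hcg : ∀ (g' : Ω), g' ∈ S → g' ∉ P → ∀ e : P, g' * e = e * g' →
      (e : Ω) ∈ centralizerIn S S := by
    intro g' hg' hgP' e he
    obtain ⟨m', hm'⟩ := hSt g' hg'
    have hm'p : ¬ (p : ℤ) ∣ m' := by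
      intro hd
      apply hgP'
      apply hSRa g' hg'
      have h1 : g' * (a : Ω) * g'⁻¹ = a := by
        rw [hm', pow_transvection hta htzz, zpow_eq_one_of_dvd hzp hd, mul_one]
      exact mul_inv_eq_iff_eq_mul.1 h1
    obtain ⟨j, hj⟩ := exists_mul_sub_one hm'p
    obtain ⟨i, hi⟩ := htw' e
    have hte : ∀ r : ℤ, (t ^ r) e = e * z ^ (i * r) := by
      intro r
      rw [pow_transvection (z := z ^ i) hi (by rw [map_zpow, htzz]), ← zpow_mul]
    have h0 : z ^ (i * m') = 1 := by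
      have h1 : (t ^ m') e = e := by
        apply Subtype.ext
        rw [← hm', he]
        group
      rw [hte] at h1
      exact mul_eq_left.1 h1
    have h00 : z ^ i = 1 := by
      have h1 : z ^ (i * m' * j) = 1 := by rw [zpow_mul, h0, one_zpow]
      rw [← h1]
      apply zpow_eq_zpow_of_modEq hzp
      have : i - i * m' * j = -i * (m' * j - 1) := by ring
      rw [this]
      exact Dvd.dvd.mul_left hj _
    refine ⟨hPS e.2, Subgroup.mem_centralizer_iff.2 fun s' hs' => ?_⟩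
    obtain ⟨m, hm⟩ := hSt s' hs'
    have h1 : s' * (e : Ω) * s'⁻¹ = e := by
      rw [hm, hte, zpow_mul, h00, one_zpow, mul_one]
    exact mul_inv_eq_iff_eq_mul.1 h1
  refine ⟨β, hβ, ?_, ?_, ?_, hcg, hab⟩
  · -- inverts `Z`
    intro w hw
    apply Subtype.ext
    obtain ⟨i, hi⟩ := hzgen ⟨w, hZP hw⟩ hw
    have h1 : ((β w : S) : Ω) = (n ⟨w, hZP hw⟩ : P) := hβe w (hZP hw) w.2
    rw [h1, ← hi, map_zpow, hnz, inv_zpow, hi]
    rfl
  · intro c hc
    have hcP : (c : Ω) ∈ P := by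
      apply h.centralizer_le
      exact ⟨c.2, Subgroup.centralizer_le (show (P : Set Ω) ⊆ S from hPS) hc.2⟩
    obtain ⟨y, l, i, he, hy1, hy2⟩ := hdec ⟨c, hcP⟩
    have htc : t ⟨c, hcP⟩ = ⟨c, hcP⟩ := by
      apply Subtype.ext
      rw [ht]
      have := Subgroup.mem_centralizer_iff.1 hc.2 g hg
      show g * (c : Ω) * g⁻¹ = c
      rw [this]
      group
    have hzi : z ^ i = 1 := by
      rw [he, map_mul, map_mul, hy1, map_zpow, map_zpow, htzz, hta,
        (show Commute a z from hab a z).mul_zpow, ← mul_assoc] at htc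
      exact mul_eq_left.1 htc
    have hpi : (p : ℤ) ∣ i := by
      by_contra hpi
      apply hz1
      obtain ⟨j, hj⟩ := exists_mul_sub_one hpi
      have h1 : z ^ (i * j) = 1 := by rw [zpow_mul, hzi, one_zpow]
      rw [← zpow_one z, ← h1]
      apply zpow_eq_zpow_of_modEq hzp
      have : (1 : ℤ) - i * j = -1 * (i * j - 1) := by ring
      rw [this]
      exact Dvd.dvd.mul_left hj _
    rw [zpow_eq_one_of_dvd hap hpi, mul_one] at he
    have h1 : ((β c : S) : Ω) = (n ⟨c, hcP⟩ : P) := hβe c hcP c.2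
    rw [Subgroup.coe_mul, h1, he, map_mul, hny y hy1 hy2, map_zpow, hnz]
    have h2 : ((c⁻¹ : S) : Ω) = ((y * z ^ l : P) : Ω)⁻¹ := by
      rw [← he]
      rfl
    rw [h2, ← Subgroup.coe_inv, ← Subgroup.coe_mul]
    have h3 : y * z⁻¹ ^ l * (y * z ^ l)⁻¹ = z ^ (-l + -l) := by
      rw [mul_inv_rev, hab (z ^ l)⁻¹ y⁻¹, ← mul_assoc, hab y, mul_assoc (z⁻¹ ^ l), mul_inv_cancel,
        mul_one, zpow_add, inv_zpow, zpow_neg]
    rw [h3]
    simpa using Z.zpow_mem hzZ _
  · intro c hcS hc hcP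
    obtain ⟨y, l, i, he, hy1, hy2⟩ := hdec ⟨c, hcP⟩
    have htc : t ⟨c, hcP⟩ = ⟨c, hcP⟩ := by
      apply Subtype.ext
      rw [ht]
      have := Subgroup.mem_centralizer_iff.1 hc.2 g hg
      show g * (c : Ω) * g⁻¹ = c
      rw [this]
      group
    have hzi : z ^ i = 1 := by
      rw [he, map_mul, map_mul, hy1, map_zpow, map_zpow, htzz, hta,
        (show Commute a z from hab a z).mul_zpow, ← mul_assoc] at htc
      exact mul_eq_left.1 htc
    have hord : ∀ i : ℤ, z ^ i = 1 → (p : ℤ) ∣ i := by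
      intro i hzi
      by_contra hpi
      apply hz1
      obtain ⟨j, hj⟩ := exists_mul_sub_one hpi
      have h1 : z ^ (i * j) = 1 := by rw [zpow_mul, hzi, one_zpow]
      rw [← zpow_one z, ← h1]
      apply zpow_eq_zpow_of_modEq hzp
      have : (1 : ℤ) - i * j = -1 * (i * j - 1) := by ring
      rw [this]
      exact Dvd.dvd.mul_left hj _
    rw [zpow_eq_one_of_dvd hap (hord i hzi), mul_one] at he
    have h1 : ((β ⟨c, hcS⟩ : S) : Ω) = (n ⟨c, hcP⟩ : P) := hβe c hcP hcS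
    have h2 : (β ⟨c, hcS⟩ = ⟨c, hcS⟩) ↔ z ^ l = 1 := by
      rw [Subtype.ext_iff, h1]
      show ((n ⟨c, hcP⟩ : P) : Ω) = ((⟨c, hcP⟩ : P) : Ω) ↔ _
      rw [← Subtype.ext_iff, he, map_mul, hny y hy1 hy2, map_zpow, hnz, mul_right_inj, inv_zpow]
      constructor
      · intro h3
        have h4 : z ^ (2 * l) = 1 := by
          have : z ^ l * z ^ l = 1 := by
            nth_rewrite 1 [← h3]
            exact inv_mul_cancel _
          rw [two_mul, zpow_add, this]
        have h5 := hord _ h4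
        have h6 : (p : ℤ) ∣ l := by
          rcases (Nat.prime_iff_prime_int.1 hp.out).dvd_or_dvd h5 with h7 | h7
          · exfalso
            have h8 : p ∣ 2 := by exact_mod_cast h7
            rcases (Nat.dvd_prime Nat.prime_two).1 h8 with h9 | h9
            · exact hp.out.one_lt.ne' h9
            · rw [h9] at hodd
              exact absurd hodd (by decide)
          · exact h7
        exact zpow_eq_one_of_dvd hzp h6
      · intro h3
        rw [h3, inv_one]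
    rw [h2]
    -- s c = c iff z ^ l = 1
    have h3 : s ⟨c, hcP⟩ = ⟨c, hcP⟩ ↔ z ^ l = 1 := by
      rw [he, map_mul, hy2, mul_right_inj, map_zpow, hsz,
        (show Commute z (a ^ k) from hab _ _).mul_zpow, mul_eq_left, ← zpow_mul]
      constructor
      · intro h4
        have h5 : (p : ℤ) ∣ k * l := by
          by_contra hpi
          obtain ⟨j, hj⟩ := exists_mul_sub_one hpi
          have h6 : a ^ (k * l * j) = 1 := by rw [zpow_mul, h4, one_zpow]
          have h7 : a = 1 := by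
            rw [← zpow_one a, ← h6]
            apply zpow_eq_zpow_of_modEq hap
            have : (1 : ℤ) - k * l * j = -1 * (k * l * j - 1) := by ring
            rw [this]
            exact Dvd.dvd.mul_left hj _
          apply ha
          rw [h7]
          exact Z.one_mem
        rcases (Nat.prime_iff_prime_int.1 hp.out).dvd_or_dvd h5 with h7 | h7
        · exact absurd h7 hkp
        · exact zpow_eq_one_of_dvd hzp h7
      · intro h4
        have h5 := hord _ h4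
        exact zpow_eq_one_of_dvd hap (Dvd.dvd.mul_left h5 _)
    rw [← h3, hsapp]
    constructor
    · intro h4
      have h5 : t (γ⁻¹ ⟨c, hcP⟩) = γ⁻¹ ⟨c, hcP⟩ := by
        apply γ.injective
        rw [h4, MulAut.apply_inv_self]
      have h6 := congrArg Subtype.val h5
      rw [ht] at h6
      exact hcg g hg hgP _ (mul_inv_eq_iff_eq_mul.1 h6)
    · intro h4
      have h5 : t (γ⁻¹ ⟨c, hcP⟩) = γ⁻¹ ⟨c, hcP⟩ := by
        apply Subtype.ext
        rw [ht, Subgroup.mem_centralizer_iff.1 h4.2 g hg]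
        group
      rw [h5, MulAut.apply_inv_self]

end Cfsg.Agent.H764
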