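import Cfsg.Agent.H802.FusAlp

/-!
# Tools for saturated fusion systems (helper764)

* `normSys F Y` : the maps of `F` extending to `Y` and preserving it, for `Y` normal in `S`.
* `exists_moving` : if `Y ≤ Z(S)` is not normal in `F`, there is a fully normalized centric `E` such that
  `Aut_F(E)` moves `Y` although all maps on larger subgroups preserve `Y`.
* `mem_of_fixes` : (semiregularity) in that situation an element of `N_S(E)` normalizing `α(Y) ≠ Y` lies in `E`.
* `exists_extension_of_normalizes` : elements of `Aut_F(E)` normalizing `Aut_S(E)` extend to `N_S(E)`.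
-/

set_option autoImplicit false

namespace Cfsg.Agent.H764

open Cfsg Cfsg.FusionSystem Cfsg.Agent.H802

variable {Ω : Type*} [Group Ω] {S : Subgroup Ω}

/-- For a finite subgroup `Y` an injective homomorphism mapping `Y` into `Y` maps it onto `Y`. -/
theorem map_subgroupOf_eq {R Y : Subgroup Ω} [Finite Y] {ψ : R →* Ω} (hψ : Function.Injective ψ)
    (hYR : Y ≤ R) (h : ∀ (y : Ω) (hy : y ∈ Y), ψ ⟨y, hYR hy⟩ ∈ Y) :
    (Y.subgroupOf R).map ψ = Y := by
  have hle : (Y.subgroupOf R).map ψ ≤ Y := by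
    rintro _ ⟨x, hx, rfl⟩
    exact h x hx
  refine Subgroup.eq_of_le_of_card_ge hle ?_
  have h1 : Nat.card ((Y.subgroupOf R).map ψ) = Nat.card (Y.subgroupOf R) :=
    Nat.card_congr ((Y.subgroupOf R).equivMapOfInjective ψ hψ).symm.toEquiv
  rw [h1, Nat.card_congr (Subgroup.subgroupOfEquivOfLe hYR).toEquiv]

theorem apply_mem_of_map_eq {R Y : Subgroup Ω} {ψ : R →* Ω}
    (h : (Y.subgroupOf R).map ψ = Y) (y : Ω) (hy : y ∈ Y) (hR : y ∈ R) : ψ ⟨y, hR⟩ ∈ Y := by
  rw [← h]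
  exact ⟨⟨y, hR⟩, hy, rfl⟩

theorem exists_of_map_eq {R Y : Subgroup Ω} {ψ : R →* Ω}
    (h : (Y.subgroupOf R).map ψ = Y) (y : Ω) (hy : y ∈ Y) :
    ∃ (w : Ω) (_ : w ∈ Y) (hR : w ∈ R), ψ ⟨w, hR⟩ = y := by
  rw [← h] at hy
  obtain ⟨⟨w, hw⟩, hwY, rfl⟩ := hy
  exact ⟨w, hwY, hw, rfl⟩

/-- The system of maps extending to `Y` and preserving `Y`, for a normal subgroup `Y` of `S`. -/
def normSys (F : FusionSystem S) (Y : Subgroup Ω) (hYS : Y ≤ S)
    (hYN : S ≤ Subgroup.normalizer (Y : Set Ω)) [Finite Y] : FusionSystem S where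
  Hom P := {φ | φ ∈ F.Hom P ∧ ∃ ψ ∈ F.Hom (P ⊔ Y),
    (∀ x : P, ψ (Subgroup.inclusion le_sup_left x) = φ x) ∧ (Y.subgroupOf (P ⊔ Y)).map ψ = Y}
  le_of_mem h := F.le_of_mem h.1
  injective_of_mem h := F.injective_of_mem h.1
  conj_mem := by
    intro P g hP hg
    refine ⟨F.conj_mem hP hg, conjHom (P ⊔ Y) g, F.conj_mem (sup_le hP hYS) hg, fun x => rfl, ?_⟩
    refine map_subgroupOf_eq (F.injective_of_mem (F.conj_mem (sup_le hP hYS) hg)) le_sup_right ?_
    intro y hy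
    exact (Subgroup.mem_normalizer_iff.1 (hYN hg) y).1 hy
  comp_mem := by
    rintro P Q φ ψ ⟨hφ, φ', hφ', hφe, hφY⟩ ⟨hψ, ψ', hψ', hψe, hψY⟩ h
    have hm : ∀ x : ↥(P ⊔ Y), φ' x ∈ Q ⊔ Y := by
      rintro ⟨x, hx⟩
      have hsub : P ⊔ Y ≤ ((Q ⊔ Y).comap φ').map (P ⊔ Y).subtype := by
        refine sup_le ?_ ?_
        · intro w hw
          refine ⟨⟨w, Subgroup.mem_sup_left hw⟩, ?_, rfl⟩
          show φ' ⟨w, Subgroup.mem_sup_left hw⟩ ∈ Q ⊔ Y
          have : φ' ⟨w, Subgroup.mem_sup_left hw⟩ = φ ⟨w, hw⟩ := hφe ⟨w, hw⟩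
          rw [this]
          exact Subgroup.mem_sup_left (h _)
        · intro w hw
          refine ⟨⟨w, Subgroup.mem_sup_right hw⟩, ?_, rfl⟩
          exact Subgroup.mem_sup_right (apply_mem_of_map_eq hφY w hw _)
      obtain ⟨w, hw, hwx⟩ := hsub hx
      have : w = ⟨x, hx⟩ := Subtype.ext hwx
      rw [← this]
      exact hw
    obtain ⟨χ, hχ, hχe⟩ := exists_comp hφ' hψ' hm
    refine ⟨F.comp_mem hφ hψ h, χ, hχ, fun x => ?_, ?_⟩
    · rw [hχe]
      have e1 : (⟨φ' (Subgroup.inclusion le_sup_left x), hm _⟩ : ↥(Q ⊔ Y)) =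
          Subgroup.inclusion le_sup_left (φ.codRestrict Q h x) := Subtype.ext (hφe x)
      rw [e1, hψe]
      rfl
    · refine map_subgroupOf_eq (F.injective_of_mem hχ) le_sup_right ?_
      intro y hy
      rw [hχe]
      exact apply_mem_of_map_eq hψY _ (apply_mem_of_map_eq hφY y hy _) _
  inv_mem := by
    rintro P φ ⟨hφ, φ', hφ', hφe, hφY⟩
    obtain ⟨ψ, hψ, hψr, h1, h2⟩ := exists_inv hφ rfl
    have hr : φ'.range = φ.range ⊔ Y := by
      apply le_antisymm
      · rintro _ ⟨⟨x, hx⟩, rfl⟩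
        have hsub : P ⊔ Y ≤ ((φ.range ⊔ Y).comap φ').map (P ⊔ Y).subtype := by
          refine sup_le ?_ ?_
          · intro w hw
            refine ⟨⟨w, Subgroup.mem_sup_left hw⟩, ?_, rfl⟩
            show φ' ⟨w, Subgroup.mem_sup_left hw⟩ ∈ φ.range ⊔ Y
            have : φ' ⟨w, Subgroup.mem_sup_left hw⟩ = φ ⟨w, hw⟩ := hφe ⟨w, hw⟩
            rw [this]
            exact Subgroup.mem_sup_left ⟨_, rfl⟩
          · intro w hw
            refine ⟨⟨w, Subgroup.mem_sup_right hw⟩, ?_, rfl⟩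
            exact Subgroup.mem_sup_right (apply_mem_of_map_eq hφY w hw _)
        obtain ⟨w, hw, hwx⟩ := hsub hx
        have : w = ⟨x, hx⟩ := Subtype.ext hwx
        rw [← this]
        exact hw
      · refine sup_le ?_ ?_
        · rintro _ ⟨x, rfl⟩
          exact ⟨_, hφe x⟩
        · intro y hy
          obtain ⟨w, hw, hR, e⟩ := exists_of_map_eq hφY y hy
          exact ⟨_, e⟩
    obtain ⟨ψ', hψ', hψr', h1', h2'⟩ := exists_inv hφ' hr
    refine ⟨ψ, ⟨hψ, ψ', hψ', fun x => ?_, ?_⟩, fun x => h1 x _⟩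
    · obtain ⟨_, x, rfl⟩ := x
      have e1 : ψ ⟨φ x, ⟨x, rfl⟩⟩ = x := h1 x _
      rw [e1]
      have e2 := h1' (Subgroup.inclusion le_sup_left x)
        (by rw [hφe]; exact Subgroup.mem_sup_left ⟨x, rfl⟩)
      have e3 : (⟨φ' (Subgroup.inclusion le_sup_left x),
          (by rw [hφe]; exact Subgroup.mem_sup_left ⟨x, rfl⟩)⟩ : ↥(φ.range ⊔ Y)) =
          Subgroup.inclusion le_sup_left (⟨φ x, ⟨x, rfl⟩⟩ : φ.range) := Subtype.ext (hφe x)
      rw [e3] at e2
      exact e2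
    · refine map_subgroupOf_eq (F.injective_of_mem hψ') le_sup_right ?_
      intro y hy
      obtain ⟨w, hw, hR, e⟩ := exists_of_map_eq hφY y hy
      have e2 := h1' ⟨w, hR⟩ (by rw [e]; exact Subgroup.mem_sup_right hy)
      have e3 : (⟨φ' ⟨w, hR⟩, (by rw [e]; exact Subgroup.mem_sup_right hy)⟩ : ↥(φ.range ⊔ Y)) =
          ⟨y, Subgroup.mem_sup_right hy⟩ := Subtype.ext e
      rw [e3] at e2
      rw [e2]
      exact hw

/-- If all maps of `F` extend to `Y` preserving `Y` then `Y` is normal in `F`. -/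
theorem isNormal_of_normSys {F : FusionSystem S} {Y : Subgroup Ω} (hYS : Y ≤ S)
    (hYN : S ≤ Subgroup.normalizer (Y : Set Ω)) [Finite Y]
    (h : ∀ P : Subgroup Ω, F.Hom P ⊆ (normSys F Y hYS hYN).Hom P) : F.IsNormal Y :=
  ⟨hYS, fun P φ hφ => (h P hφ).2⟩

/-- If `Y ≤ Z(S)` is not normal in the saturated system `F` there is a fully normalized centric subgroup `E`
such that `Aut_F(E)` moves `Y` although all maps of `F` on larger subgroups preserve `Y`. -/
theorem exists_moving {p : ℕ} [Fact p.Prime] [Finite S] (hS : IsPGroup p S)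
    {F : FusionSystem S} (hF : F.IsSaturated p) {Y : Subgroup Ω} (hY : Y ≤ centralizerIn S S)
    (hn : ¬ F.IsNormal Y) :
    ∃ E : Subgroup Ω, F.IsFullyNormalized E ∧ F.IsCentric E ∧
      (∃ α ∈ F.autGroup E, ∃ (y : E), (y : Ω) ∈ Y ∧ ((α y : E) : Ω) ∉ Y) ∧
      (∀ (R : Subgroup Ω) (φ : R →* Ω), φ ∈ F.Hom R → Nat.card E < Nat.card R →
        ∀ y : R, (y : Ω) ∈ Y → φ y ∈ Y) := by
  have hYS : Y ≤ S := hY.trans inf_le_left
  have hfin : Finite Y := finite_of_le hYS
  have hYN : S ≤ Subgroup.normalizer (Y : Set Ω) := by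
    intro g hg
    refine Subgroup.mem_normalizer_iff.2 fun y => ?_
    have key : ∀ w ∈ Y, g * w * g⁻¹ = w := by
      intro w hw
      rw [Subgroup.mem_centralizer_iff.1 (hY hw).2 g hg]
      group
    constructor
    · intro hy
      rw [key y hy]
      exact hy
    · intro hy
      have h1 := key _ hy
      have h2 : g * y * g⁻¹ = y := by
        have := mul_left_cancel (mul_right_cancel h1)
        exact this
      rw [h2] at hy
      exact hy
  by_contra hcon
  push Not at hcon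
  apply hn
  refine isNormal_of_normSys hYS hYN (le_of_centric hS hF _ ?_)
  intro E hE hEc hbig
  have hYE : Y ≤ E := by
    have h1 : Y ≤ centralizerIn S E := by
      refine hY.trans (inf_le_inf_left _ (Subgroup.centralizer_le ?_))
      exact hE.1
    exact h1.trans (hEc.2 E (isConj_refl F hE.1))
  have hsup : E ⊔ Y = E := sup_eq_left.2 hYE
  by_contra hne
  have hmove : ∃ α ∈ F.autGroup E, ∃ (y : E), (y : Ω) ∈ Y ∧ ((α y : E) : Ω) ∉ Y := by
    by_contra hall
    push Not at hall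
    apply hne
    intro α hα
    rw [mem_autGroup_iff _ hE.1]
    have hα' := (mem_autGroup_iff F hE.1 α).1 hα
    refine ⟨hα', ?_⟩
    have hex : ∃ ψ ∈ F.Hom (E ⊔ Y), ∀ (x : Ω) (hx : x ∈ E) (hx' : x ∈ E ⊔ Y),
        ψ ⟨x, hx'⟩ = (α ⟨x, hx⟩ : E) := by
      rw [hsup]
      exact ⟨_, hα', fun x hx hx' => rfl⟩
    obtain ⟨ψ, hψ, he⟩ := hex
    refine ⟨ψ, hψ, fun x => he x x.2 _, ?_⟩
    refine map_subgroupOf_eq (F.injective_of_mem hψ) le_sup_right ?_
    intro y hy
    rw [he y (hYE hy)]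
    exact hall α hα ⟨y, hYE hy⟩ hy
  obtain ⟨R, φ, hφ, hcard, y, hy, hyn⟩ := hcon E hE hEc hmove
  obtain ⟨-, ψ, hψ, he, hm⟩ := hbig R hcard hφ
  apply hyn
  rw [← he y]
  exact apply_mem_of_map_eq hm y hy _

/-- The data of a fully normalized centric subgroup `E` of `S` all of whose larger subgroups have maps
preserving `Y ≤ Z(S)`. -/
structure Setup {S : Subgroup Ω} (F : FusionSystem S) (Y E : Subgroup Ω) : Prop where
  /-- `Y` is central. -/
  le_center : Y ≤ centralizerIn S S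
  /-- `E` is fully normalized. -/
  fullyNormalized : F.IsFullyNormalized E
  /-- `E` is centric. -/
  centric : F.IsCentric E
  /-- Maps on larger subgroups preserve `Y`. -/
  big : ∀ (R : Subgroup Ω) (φ : R →* Ω), φ ∈ F.Hom R → Nat.card E < Nat.card R →
        ∀ y : R, (y : Ω) ∈ Y → φ y ∈ Y

namespace Setup

variable {F : FusionSystem S} {Y E : Subgroup Ω}

theorem le_S (h : Setup F Y E) : E ≤ S := h.fullyNormalized.1

theorem centralizer_le (h : Setup F Y E) : centralizerIn S E ≤ E :=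
  h.centric.2 E (isConj_refl F h.le_S)

theorem Y_le (h : Setup F Y E) : Y ≤ E := by
  have h1 : Y ≤ centralizerIn S E := by
    refine h.le_center.trans (inf_le_inf_left _ (Subgroup.centralizer_le ?_))
    exact h.le_S
  exact h1.trans h.centralizer_le

theorem Y_le_S (h : Setup F Y E) : Y ≤ S := h.le_center.trans inf_le_left

/-- Elements of `S` commute with elements of `Y`. -/
theorem comm (h : Setup F Y E) {g y : Ω} (hg : g ∈ S) (hy : y ∈ Y) : g * y = y * g :=
  Subgroup.mem_centralizer_iff.1 (h.le_center hy).2 g hg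

end Setup

/-- `α` preserves `Y`. -/
def Fix (Y : Subgroup Ω) {E : Subgroup Ω} (α : MulAut E) : Prop :=
  ∀ y : E, (y : Ω) ∈ Y → ((α y : E) : Ω) ∈ Y

theorem Fix.mul {Y E : Subgroup Ω} {α β : MulAut E} (hα : Fix Y α) (hβ : Fix Y β) :
    Fix Y (α * β) := fun y hy => hα _ (hβ y hy)

theorem Fix.inv {Y E : Subgroup Ω} [Finite E] {α : MulAut E} (hα : Fix Y α) : Fix Y α⁻¹ := by
  -- α restricted to `Y ∩ E` is injective hence surjective
  intro y hy
  have hfin : Finite (Y.subgroupOf E) := inferInstance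
  have hinj : Function.Injective (fun w : Y.subgroupOf E => (⟨α w, hα w w.2⟩ : Y.subgroupOf E)) := by
    intro a b hab
    have h1 : α (a : E) = α (b : E) := congrArg Subtype.val hab
    exact Subtype.ext (α.injective h1)
  obtain ⟨w, hw⟩ := (Finite.surjective_of_injective hinj) ⟨y, hy⟩
  have h2 : α (w : E) = y := congrArg Subtype.val hw
  have h3 : α⁻¹ y = (w : E) := by
    rw [← h2]
    exact α.symm_apply_apply _
  rw [h3]
  exact w.2

/-- The stabilizer of `Y` in `Aut(E)`. -/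
def fixGroup (Y E : Subgroup Ω) [Finite E] : Subgroup (MulAut E) where
  carrier := {α | Fix Y α}
  mul_mem' := Fix.mul
  one_mem' := fun _ hy => hy
  inv_mem' := Fix.inv

variable {p : ℕ} [Fact p.Prime] [Finite S]

/-- **Trivial intersection property.** If `α ∈ Aut_F(E)` conjugates the automorphism induced by some
`g ∈ N_S(E) \ E` to an automorphism induced by an element of `S`, then `α` preserves `Y`. -/
theorem Setup.fix_of_conj {F : FusionSystem S} {Y E : Subgroup Ω} (h : Setup F Y E)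
    (hS : IsPGroup p S) (hF : F.IsSaturated p) {α : MulAut E} (hα : α ∈ F.autGroup E) {g k : Ω}
    (hg : g ∈ normalizerIn S E) (hgE : g ∉ E) (hk : k ∈ S)
    (hc : ∀ (x : E) (hx : g * (x : Ω) * g⁻¹ ∈ E), ((α ⟨g * x * g⁻¹, hx⟩ : E) : Ω) =
      k * (α x : E) * k⁻¹) : Fix Y α := by
  have hα' := (mem_autGroup_iff F h.le_S α).1 hα
  have hfinE : Finite E := finite_of_le h.le_S
  have hrec := isReceptive_of_isFullyNormalized hS hF h.fullyNormalized
  have hr : (E.subtype.comp α.toMonoidHom).range = E :=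
    range_eq_of_mapsTo hα' (fun x => (α x).2)
  obtain ⟨ψ, hψ, hψe⟩ := hrec.2 E _ hα' hr
  have hle : E ≤ extender S E (E.subtype.comp α.toMonoidHom) :=
    le_extender h.le_S (hom_apply_mem hα')
  have hgx : g ∈ extender S E (E.subtype.comp α.toMonoidHom) := by
    rw [mem_extender_iff]
    exact ⟨hg.1, hg.2, k, hk, fun x hx => hc x hx⟩
  have hfin : Finite (extender S E (E.subtype.comp α.toMonoidHom)) :=
    finite_of_le (extender_le _ _ _)
  have hcard : Nat.card E < Nat.card (extender S E (E.subtype.comp α.toMonoidHom)) := by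
    refine lt_of_le_of_ne (Nat.card_mono (Set.toFinite _) hle) fun heq => ?_
    have := Subgroup.eq_of_le_of_card_ge hle heq.ge
    rw [← this] at hgx
    exact hgE hgx
  intro y hy
  have h1 := h.big _ ψ hψ hcard ⟨y, hle y.2⟩ hy
  rw [hψe y y.2 _] at h1
  exact h1

omit [Finite S] in
/-- `Aut_S(E)` preserves `Y`. -/
theorem Setup.autInducedBy_le {F : FusionSystem S} {Y E : Subgroup Ω} (h : Setup F Y E)
    {α : MulAut E} (hα : α ∈ autInducedBy S E) : Fix Y α := by
  obtain ⟨g, hg, he⟩ := (mem_autInducedBy_iff S E α).1 hα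
  intro y hy
  rw [he, h.comm hg hy]
  simpa using hy

/-- A `p`-element of `Aut_F(E)` preserving `Y` is conjugate into `Aut_S(E)` by an element of `Aut_F(E)`
preserving `Y`. -/
theorem Setup.exists_conj_mem {F : FusionSystem S} {Y E : Subgroup Ω} (h : Setup F Y E)
    (hS : IsPGroup p S) (hF : F.IsSaturated p) {K : Subgroup (MulAut E)} (hK : K ≤ F.autGroup E)
    (hKp : IsPGroup p K) (hKY : ∀ γ ∈ K, Fix Y γ) :
    ∃ δ ∈ F.autGroup E, Fix Y δ ∧ ∀ γ ∈ K, δ * γ * δ⁻¹ ∈ autInducedBy S E := by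
  have hfinE : Finite E := finite_of_le h.le_S
  have hfinA : Finite (MulAut E) := inferInstance
  obtain ⟨-, R, hR⟩ := isFullyAutomized_of_isFullyNormalized hS hF h.fullyNormalized
  let H : Subgroup (F.autGroup E) := (fixGroup Y E).subgroupOf (F.autGroup E)
  have hRH : (R : Subgroup (F.autGroup E)) ≤ H := by
    intro a ha
    rw [hR, Subgroup.mem_subgroupOf] at ha
    exact h.autInducedBy_le ha
  let R' : Sylow p H := R.subtype hRH
  have hKH : (K.subgroupOf (F.autGroup E)) ≤ H := by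
    intro a ha
    exact hKY _ ha
  have hKp' : IsPGroup p ((K.subgroupOf (F.autGroup E)).subgroupOf H) := by
    have h1 : IsPGroup p (K.subgroupOf (F.autGroup E)) :=
      hKp.comap_of_injective _ (Subgroup.subtype_injective _)
    exact h1.comap_of_injective _ (Subgroup.subtype_injective _)
  obtain ⟨R'', hR''⟩ := hKp'.exists_le_sylow
  obtain ⟨b, hb⟩ := MulAction.exists_smul_eq H R'' R'
  refine ⟨((b : F.autGroup E) : MulAut E), (b : F.autGroup E).2, b.2, fun γ hγ => ?_⟩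
  have h2 : (⟨⟨γ, hK hγ⟩, hKH (show (⟨γ, hK hγ⟩ : F.autGroup E) ∈
      K.subgroupOf (F.autGroup E) from hγ)⟩ : H) ∈
      (K.subgroupOf (F.autGroup E)).subgroupOf H := hγ
  have h5 : (b * (⟨⟨γ, hK hγ⟩, hKH (show (⟨γ, hK hγ⟩ : F.autGroup E) ∈
      K.subgroupOf (F.autGroup E) from hγ)⟩ : H) * b⁻¹ : H) ∈ (R' : Subgroup H) := by
    rw [← hb]
    exact Subgroup.smul_mem_pointwise_smul _ (MulAut.conj b) (R'' : Subgroup H) (hR'' h2)
  have h6 : ((b : F.autGroup E) * ⟨γ, hK hγ⟩ * (b : F.autGroup E)⁻¹) ∈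
      (R : Subgroup (F.autGroup E)) := h5
  rw [hR, Subgroup.mem_subgroupOf] at h6
  exact h6

/-- **Semiregularity.** If `α ∈ Aut_F(E)` moves `Y` and `g ∈ N_S(E)` normalizes `α(Y)`, then `g ∈ E`. -/
theorem Setup.mem_of_fixes {F : FusionSystem S} {Y E : Subgroup Ω} (h : Setup F Y E)
    (hS : IsPGroup p S) (hF : F.IsSaturated p) {α : MulAut E} (hα : α ∈ F.autGroup E)
    (hmove : ¬ Fix Y α) {g : Ω} (hg : g ∈ normalizerIn S E)
    (hc : ∀ (y : E), (y : Ω) ∈ Y → ∀ hx : g * (α y : E) * g⁻¹ ∈ E,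
      ((α⁻¹ ⟨g * (α y : E) * g⁻¹, hx⟩ : E) : Ω) ∈ Y) : g ∈ E := by
  by_contra hgE
  have hfinE : Finite E := finite_of_le h.le_S
  obtain ⟨γ, hγ⟩ := exists_conjAut hg.2
  have hγS : γ ∈ autInducedBy S E := (mem_autInducedBy_iff S E γ).2 ⟨g, hg.1, hγ⟩
  have hγF : γ ∈ F.autGroup E := autInducedBy_le_autGroup F h.le_S hγS
  set γ' : MulAut E := α⁻¹ * γ * α with hγ'
  have hγ'F : γ' ∈ F.autGroup E := mul_mem (mul_mem (inv_mem hα) hγF) hα
  have hfix : Fix Y γ' := by
    intro y hy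
    have h1 : γ' y = α⁻¹ (γ (α y)) := rfl
    have h2 : γ (α y) = ⟨g * (α y : E) * g⁻¹, by rw [← hγ]; exact (γ _).2⟩ :=
      Subtype.ext (hγ _)
    rw [h1, h2]
    exact hc y hy _
  have hp1 : IsPGroup p (Subgroup.zpowers γ) := by
    refine (isPGroup_autInducedBy hS E).to_le ?_
    rwa [Subgroup.zpowers_le]
  have hp : IsPGroup p (Subgroup.zpowers γ') := by
    rintro ⟨_, ⟨n, rfl⟩⟩
    obtain ⟨k, hk⟩ := hp1 ⟨γ ^ n, ⟨n, rfl⟩⟩
    refine ⟨k, ?_⟩
    have hk' : (γ ^ n) ^ p ^ k = 1 := congrArg Subtype.val hk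
    apply Subtype.ext
    show (γ' ^ n) ^ p ^ k = 1
    have : γ' = (MulAut.conj α⁻¹) γ := by
      rw [MulAut.conj_apply, inv_inv]
    rw [this, ← map_zpow, ← map_pow, hk', map_one]
  obtain ⟨δ, hδ, hδY, hδe⟩ := h.exists_conj_mem (p := p) hS hF (K := Subgroup.zpowers γ')
    (by rwa [Subgroup.zpowers_le]) hp (by
      intro x hx
      have : Subgroup.zpowers γ' ≤ fixGroup Y E := by
        rw [Subgroup.zpowers_le]
        exact hfix
      exact this hx)
  obtain ⟨k, hk, hke⟩ := (mem_autInducedBy_iff S E _).1 (hδe γ' (Subgroup.mem_zpowers γ'))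
  -- β = δ α⁻¹ conjugates c_g to c_k
  have hβ : δ * α⁻¹ ∈ F.autGroup E := mul_mem hδ (inv_mem hα)
  have hβY : Fix Y (δ * α⁻¹) := by
    refine h.fix_of_conj (p := p) hS hF hβ hg hgE hk fun x hx => ?_
    have h1 : (⟨g * (x : Ω) * g⁻¹, hx⟩ : E) = γ x := Subtype.ext (hγ x).symm
    rw [h1, ← hke]
    congr 1
    show (δ * α⁻¹) (γ x) = (δ * (α⁻¹ * γ * α) * δ⁻¹) ((δ * α⁻¹) x)
    simp only [MulAut.mul_apply, MulAut.inv_apply_self, MulAut.apply_inv_self]
  apply hmove
  have h2 : α⁻¹ = δ⁻¹ * (δ * α⁻¹) := by group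
  have h3 : Fix Y α⁻¹ := by
    rw [h2]
    exact (Fix.inv hδY).mul hβY
  have h4 := Fix.inv h3
  rwa [inv_inv] at h4

/-- An element of `Aut_F(E)` normalizing `Aut_S(E)`, `E` fully normalized, extends to an element of
`Aut_F(N_S(E))`. -/
theorem exists_extension_of_normalizes {F : FusionSystem S} {E : Subgroup Ω}
    (hS : IsPGroup p S) (hF : F.IsSaturated p) (hE : F.IsFullyNormalized E)
    {α : MulAut E} (hα : α ∈ F.autGroup E)
    (hn : ∀ γ ∈ autInducedBy S E, α * γ * α⁻¹ ∈ autInducedBy S E) :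
    ∃ β ∈ F.autGroup (normalizerIn S E), ∀ (x : Ω) (hx : x ∈ E) (hx' : x ∈ normalizerIn S E),
      ((β ⟨x, hx'⟩ : normalizerIn S E) : Ω) = (α ⟨x, hx⟩ : E) := by
  have hES := hE.1
  have hfinE : Finite E := finite_of_le hES
  have hα' := (mem_autGroup_iff F hES α).1 hα
  have hrec := isReceptive_of_isFullyNormalized hS hF hE
  have hr : (E.subtype.comp α.toMonoidHom).range = E :=
    range_eq_of_mapsTo hα' (fun x => (α x).2)
  obtain ⟨ψ, hψ, hψe⟩ := hrec.2 E _ hα' hr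
  have hle : normalizerIn S E ≤ extender S E (E.subtype.comp α.toMonoidHom) := by
    intro g hg
    rw [mem_extender_iff]
    refine ⟨hg.1, hg.2, ?_⟩
    obtain ⟨γ, hγ⟩ := exists_conjAut hg.2
    have hγS : γ ∈ autInducedBy S E := (mem_autInducedBy_iff S E γ).2 ⟨g, hg.1, hγ⟩
    obtain ⟨k, hk, hke⟩ := (mem_autInducedBy_iff S E _).1 (hn γ hγS)
    refine ⟨k, hk, fun x hx => ?_⟩
    have h1 : (⟨g * (x : Ω) * g⁻¹, hx⟩ : E) = γ x := Subtype.ext (hγ x).symm
    show ((α ⟨g * (x : Ω) * g⁻¹, hx⟩ : E) : Ω) = k * (α x : E) * k⁻¹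
    rw [h1, ← hke]
    congr 1
    simp only [MulAut.mul_apply, MulAut.inv_apply_self]
  have hEN : E ≤ normalizerIn S E := le_normalizerIn hES
  have hfinN : Finite (normalizerIn S E) := finite_of_le inf_le_left
  have hψ' := restrict_mem hψ hle
  have hval : ∀ (x : Ω) (hx : x ∈ E), (ψ.comp (Subgroup.inclusion hle)) ⟨x, hEN hx⟩ =
      (E.subtype.comp α.toMonoidHom) ⟨x, hx⟩ := fun x hx => hψe x hx _
  have hmaps : ∀ x : normalizerIn S E, (ψ.comp (Subgroup.inclusion hle)) x ∈ normalizerIn S E :=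
    fun x => apply_mem_normalizerIn hψ' hEN inf_le_right hr hval x
  obtain ⟨β, hβ, hβe⟩ := exists_aut hψ' (range_eq_of_mapsTo hψ' hmaps)
  refine ⟨β, hβ, fun x hx hx' => ?_⟩
  rw [hβe]
  exact hval x hx

end Cfsg.Agent.H764
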