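import Cfsg.Agent.Transfer.Extraspecial
import Cfsg.Agent.Involutions.NormalFour
import Cfsg.Agent.H764.FusTool

/-!
# A `p`-group with an extraspecial subgroup of index `p`: elementary facts (helper764)
-/

set_option autoImplicit false

namespace Cfsg.Agent.H764

open Cfsg Cfsg.FusionSystem Cfsg.Agent.H802

variable {Ω : Type*} [Group Ω]

/-- The centre of `Q`, as a subgroup of the ambient group. -/
def ZQ (Q : Subgroup Ω) : Subgroup Ω := Q ⊓ Subgroup.centralizer (Q : Set Ω)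

theorem mem_ZQ {Q : Subgroup Ω} {z : Ω} : z ∈ ZQ Q ↔ z ∈ Q ∧ ∀ q ∈ Q, q * z = z * q := by
  unfold ZQ
  rw [Subgroup.mem_inf, Subgroup.mem_centralizer_iff]
  rfl

theorem ZQ_le (Q : Subgroup Ω) : ZQ Q ≤ Q := inf_le_left

theorem ZQ_eq_map (Q : Subgroup Ω) : ZQ Q = (Subgroup.center Q).map Q.subtype := by
  ext z
  rw [mem_ZQ]
  constructor
  · rintro ⟨hz, h⟩
    refine ⟨⟨z, hz⟩, Subgroup.mem_center_iff.2 fun q => Subtype.ext (h q q.2), rfl⟩
  · rintro ⟨w, hw, rfl⟩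
    refine ⟨w.2, fun q hq => ?_⟩
    exact congrArg Subtype.val (Subgroup.mem_center_iff.1 hw ⟨q, hq⟩)

/-- A group of prime order is generated by any nontrivial element (for subgroups of an ambient group). -/
theorem exists_zpow_of_card_prime {p : ℕ} [hp : Fact p.Prime] {Z : Subgroup Ω}
    (hZ : Nat.card Z = p) {z w : Ω} (hz : z ∈ Z) (hz1 : z ≠ 1) (hw : w ∈ Z) : ∃ i : ℤ, z ^ i = w := by
  have h1 : (⟨z, hz⟩ : Z) ≠ 1 := fun h => hz1 (congrArg Subtype.val h)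
  have h2 : (⟨w, hw⟩ : Z) ∈ Subgroup.zpowers (⟨z, hz⟩ : Z) := mem_zpowers_of_prime_card hZ h1
  obtain ⟨i, hi⟩ := Subgroup.mem_zpowers_iff.1 h2
  exact ⟨i, by simpa using congrArg Subtype.val hi⟩

theorem pow_eq_one_of_card_prime {p : ℕ} {Z : Subgroup Ω}
    (hZ : Nat.card Z = p) {z : Ω} (hz : z ∈ Z) : z ^ p = 1 := by
  have h1 : (⟨z, hz⟩ : Z) ^ Nat.card Z = 1 := pow_card_eq_one'
  rw [hZ] at h1
  simpa using congrArg Subtype.val h1

/-- A subgroup of prime order normalized by the finite `p`-group `S` containing it is centralized by `S`. -/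
theorem central_of_card_prime {p : ℕ} [hp : Fact p.Prime] {S Z : Subgroup Ω} [Finite S]
    (hS : IsPGroup p S) (hZS : Z ≤ S) (hZ : Nat.card Z = p)
    (hn : ∀ g ∈ S, ∀ z ∈ Z, g * z * g⁻¹ ∈ Z) : ∀ g ∈ S, ∀ z ∈ Z, g * z = z * g := by
  have hnorm : (Z.subgroupOf S).Normal := ⟨fun z hz g => hn g g.2 z hz⟩
  have hne : Z.subgroupOf S ≠ ⊥ := by
    intro h
    have h1 : Nat.card (Z.subgroupOf S) = Nat.card Z :=
      Nat.card_congr (Subgroup.subgroupOfEquivOfLe hZS).toEquiv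
    rw [h, Subgroup.card_bot, hZ] at h1
    exact hp.out.one_lt.ne h1
  obtain ⟨w, hw, hwc, hwo⟩ := Involutions.NormalFour.exists_mem_center_of_normal hS _ hne
  have hw1 : w ≠ 1 := by
    rintro rfl
    rw [orderOf_one] at hwo
    exact hp.out.one_lt.ne hwo
  intro g hg z hz
  obtain ⟨i, hi⟩ := exists_zpow_of_card_prime hZ (z := (w : Ω)) hw
    (fun h => hw1 (Subtype.ext h)) hz
  rw [← hi]
  have h2 : Commute g (w : Ω) := congrArg Subtype.val (Subgroup.mem_center_iff.1 hwc ⟨g, hg⟩)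
  exact (h2.zpow_right i)

/-- `Q` is an extraspecial subgroup of index `p` in the finite `p`-group `S`, `p` odd. -/
structure Ext (p : ℕ) (S Q : Subgroup Ω) : Prop where
  /-- `p` is odd. -/
  odd : Odd p
  /-- `S` is a `p`-group. -/
  pg : IsPGroup p S
  /-- `Q ≤ S`. -/
  le : Q ≤ S
  /-- `Q` is extraspecial. -/
  ex : Cfsg.IsExtraspecial p Q
  /-- the index of `Q` in `S` is `p`. -/
  index : (Q.subgroupOf S).index = p

namespace Ext

variable {p : ℕ} [hp : Fact p.Prime] {S Q : Subgroup Ω}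

theorem ne_two (h : Ext p S Q) : p ≠ 2 := by
  rintro rfl
  exact absurd h.odd (by decide)

theorem card_Z (h : Ext p S Q) : Nat.card (ZQ Q) = p := by
  rw [ZQ_eq_map, Nat.card_congr ((Subgroup.center Q).equivMapOfInjective _
    Q.subtype_injective).symm.toEquiv]
  exact h.ex.2

theorem comm_mem (h : Ext p S Q) {a b : Ω} (ha : a ∈ Q) (hb : b ∈ Q) :
    a * b * a⁻¹ * b⁻¹ ∈ ZQ Q := by
  rw [ZQ_eq_map]
  exact ⟨_, Transfer.Extraspecial.comm_mem_center h.ex ⟨a, ha⟩ ⟨b, hb⟩, rfl⟩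

theorem pow_mem (h : Ext p S Q) {a : Ω} (ha : a ∈ Q) : a ^ p ∈ ZQ Q := by
  rw [ZQ_eq_map]
  exact ⟨_, Transfer.Extraspecial.pow_mem_center h.ex ⟨a, ha⟩, rfl⟩

theorem mul_pow (h : Ext p S Q) {a b : Ω} (ha : a ∈ Q) (hb : b ∈ Q) :
    (a * b) ^ p = a ^ p * b ^ p :=
  congrArg Subtype.val
    (Transfer.Extraspecial.mul_pow_eq hp.out h.ne_two h.ex ⟨a, ha⟩ ⟨b, hb⟩)

theorem exists_noncomm (h : Ext p S Q) : ∃ a ∈ Q, ∃ b ∈ Q, a * b ≠ b * a := by
  obtain ⟨x, y, hxy⟩ := Transfer.Extraspecial.exists_comm_ne_one hp.out.one_lt.ne' h.ex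
  refine ⟨x, x.2, y, y.2, fun heq => hxy ?_⟩
  exact commutatorElement_eq_one_iff_mul_comm.2 (Subtype.ext heq)

/-- `Q` is normal in `S`. -/
theorem conj_mem [Finite S] (h : Ext p S Q) {g q : Ω} (hg : g ∈ S) (hq : q ∈ Q) :
    g * q * g⁻¹ ∈ Q := by
  have hnorm : (Q.subgroupOf S).Normal := by
    apply Subgroup.normal_of_index_eq_minFac_card
    rw [h.index]
    obtain ⟨n, hn⟩ := h.pg.exists_card_eq
    have hn0 : n ≠ 0 := by
      rintro rfl
      have h1 := (Q.subgroupOf S).index_mul_card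
      rw [h.index, hn, pow_zero] at h1
      exact hp.out.one_lt.ne' (Nat.eq_one_of_mul_eq_one_right h1)
    rw [hn, hp.out.pow_minFac hn0]
  exact hnorm.conj_mem ⟨q, h.le hq⟩ hq ⟨g, hg⟩

theorem conj_mem' [Finite S] (h : Ext p S Q) {g q : Ω} (hg : g ∈ S) (hq : q ∈ Q) :
    g⁻¹ * q * g ∈ Q := by
  have := h.conj_mem (S.inv_mem hg) hq
  rwa [inv_inv] at this

/-- The centre of `Q` is centralized by `S`. -/
theorem Z_comm [Finite S] (h : Ext p S Q) {g z : Ω} (hg : g ∈ S) (hz : z ∈ ZQ Q) :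
    g * z = z * g := by
  refine central_of_card_prime h.pg ((ZQ_le Q).trans h.le) h.card_Z ?_ g hg z hz
  intro g hg z hz
  rw [mem_ZQ] at hz ⊢
  refine ⟨h.conj_mem hg hz.1, fun q hq => ?_⟩
  have h1 := hz.2 _ (h.conj_mem' hg hq)
  calc q * (g * z * g⁻¹) = g * (g⁻¹ * q * g * z) * g⁻¹ := by group
    _ = g * (z * (g⁻¹ * q * g)) * g⁻¹ := by rw [h1]
    _ = g * z * g⁻¹ * q := by group

theorem Z_le_center [Finite S] (h : Ext p S Q) : ZQ Q ≤ centralizerIn S S := by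
  intro z hz
  refine ⟨h.le (ZQ_le Q hz), Subgroup.mem_centralizer_iff.2 fun g hg => ?_⟩
  exact h.Z_comm hg hz

theorem Z_gen (h : Ext p S Q) {z w : Ω} (hz : z ∈ ZQ Q) (hz1 : z ≠ 1) (hw : w ∈ ZQ Q) :
    ∃ i : ℤ, z ^ i = w := exists_zpow_of_card_prime h.card_Z hz hz1 hw

theorem Z_pow (h : Ext p S Q) {z : Ω} (hz : z ∈ ZQ Q) : z ^ p = 1 :=
  pow_eq_one_of_card_prime h.card_Z hz

theorem exists_Z_ne_one (h : Ext p S Q) : ∃ z ∈ ZQ Q, z ≠ 1 := by
  by_contra hcon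
  push Not at hcon
  have : ZQ Q = ⊥ := by
    rw [eq_bot_iff]
    intro z hz
    exact hcon z hz
  have h1 := h.card_Z
  rw [this, Subgroup.card_bot] at h1
  exact hp.out.one_lt.ne h1

/-- The centre of `Q` is not normal in a system with trivial core. -/
theorem not_isNormal {F : FusionSystem S} (h : Ext p S Q) (hO : F.core = ⊥) :
    ¬ F.IsNormal (ZQ Q) := by
  intro hn
  obtain ⟨z, hz, hz1⟩ := h.exists_Z_ne_one
  have h1 : ZQ Q ≤ F.core := le_sSup hn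
  rw [hO] at h1
  exact hz1 (h1 hz)

end Ext

end Cfsg.Agent.H764
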