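import Cfsg.Agent.H764.Rel
import Mathlib.GroupTheory.Sylow

/-!
# Identification of `S` with a Sylow subgroup by generators and relations (helper764)
-/

set_option autoImplicit false

namespace Cfsg.Agent.H764

open scoped Pointwise

section

variable {G : Type*} [Group G]

theorem sup_step {p m : ℕ} (hp : 0 < p) {N : Subgroup G} {g : G} (hN : Finite N ∧ Nat.card N ≤ m)
    (hg : g ∈ Subgroup.normalizer (N : Set G)) (hgp : g ^ p = 1) :
    Finite (N ⊔ Subgroup.zpowers g : Subgroup G) ∧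
      Nat.card (N ⊔ Subgroup.zpowers g : Subgroup G) ≤ m * p := by
  obtain ⟨hfin, hcard⟩ := hN
  have hle : Subgroup.zpowers g ≤ Subgroup.normalizer (N : Set G) := by
    rwa [Subgroup.zpowers_le]
  have hcoe : ((N ⊔ Subgroup.zpowers g : Subgroup G) : Set G) =
      (N : Set G) * (Subgroup.zpowers g : Set G) :=
    Subgroup.coe_mul_of_right_le_normalizer_left N (Subgroup.zpowers g) hle
  let f : N × Fin p → (N ⊔ Subgroup.zpowers g : Subgroup G) := fun a =>
    ⟨(a.1 : G) * g ^ (a.2 : ℕ), Subgroup.mul_mem _ (Subgroup.mem_sup_left a.1.2)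
      (Subgroup.mem_sup_right (Subgroup.pow_mem _ (Subgroup.mem_zpowers g) _))⟩
  have hsurj : Function.Surjective f := by
    rintro ⟨u, hu⟩
    have hu' : u ∈ ((N ⊔ Subgroup.zpowers g : Subgroup G) : Set G) := hu
    rw [hcoe] at hu'
    obtain ⟨n, hn, w, hw, rfl⟩ := Set.mem_mul.1 hu'
    obtain ⟨i, rfl⟩ := Subgroup.mem_zpowers_iff.1 hw
    have hp' : (p : ℤ) ≠ 0 := by exact_mod_cast hp.ne'
    have h1 : 0 ≤ i % (p : ℤ) := Int.emod_nonneg i hp'
    have h2 : i % (p : ℤ) < p := Int.emod_lt_of_pos i (by exact_mod_cast hp)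
    refine ⟨(⟨n, hn⟩, ⟨(i % (p : ℤ)).toNat, by omega⟩), Subtype.ext ?_⟩
    show n * g ^ (i % (p : ℤ)).toNat = n * g ^ i
    congr 1
    rw [← zpow_natCast, Int.toNat_of_nonneg h1]
    conv_rhs => rw [← Int.emod_add_mul_ediv i p, zpow_add, zpow_mul, zpow_natCast, hgp, one_zpow,
      mul_one]
  have hfin2 : Finite (N × Fin p) := inferInstance
  refine ⟨Finite.of_surjective f hsurj, ?_⟩
  refine (Nat.card_le_card_of_surjective f hsurj).trans ?_
  rw [Nat.card_prod, Nat.card_eq_fintype_card (α := Fin p), Fintype.card_fin]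
  exact Nat.mul_le_mul_right _ hcard

theorem norm_step {N : Subgroup G} {g h : G} (hfin : Finite (N ⊔ Subgroup.zpowers h : Subgroup G))
    (hg : g ∈ Subgroup.normalizer (N : Set G)) (h1 : g * h * g⁻¹ ∈ N ⊔ Subgroup.zpowers h) :
    g ∈ Subgroup.normalizer ((N ⊔ Subgroup.zpowers h : Subgroup G) : Set G) := by
  have key : N ⊔ Subgroup.zpowers h ≤ (N ⊔ Subgroup.zpowers h).comap (MulAut.conj g).toMonoidHom := by
    refine sup_le ?_ ?_
    · intro n hn
      exact Subgroup.mem_sup_left ((Subgroup.mem_normalizer_iff.1 hg n).1 hn)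
    · rw [Subgroup.zpowers_le]
      exact h1
  exact Subgroup.mem_normalizer_fintype (S := ((N ⊔ Subgroup.zpowers h : Subgroup G) : Set G))
    (fun n hn => key hn)

theorem mem_norm_bot (g : G) : g ∈ Subgroup.normalizer ((⊥ : Subgroup G) : Set G) := by
  refine Subgroup.mem_normalizer_iff.2 fun h => ?_
  rw [Subgroup.mem_bot, Subgroup.mem_bot]
  constructor
  · rintro rfl; simp
  · intro h1
    have : h = g⁻¹ * (g * h * g⁻¹) * g := by group
    rw [this, h1]; group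

theorem conj_of_comm {a b : G} (h : a * b = b * a) : a * b * a⁻¹ = b := by
  rw [h]; group

variable {p : ℕ}

theorem Rel4.card_le {f11 f12 f22 : ℤ} {x u1 u2 z y1 y2 : G} (hp : 0 < p)
    (h : Rel4 p f11 f12 f22 x u1 u2 z y1 y2) :
    Finite (Subgroup.closure {x, u1, u2, z, y1, y2}) ∧
      Nat.card (Subgroup.closure {x, u1, u2, z, y1, y2}) ≤ p ^ 6 := by
  have c0 : Finite (⊥ : Subgroup G) ∧ Nat.card (⊥ : Subgroup G) ≤ 1 := ⟨inferInstance, by simp⟩
  set N1 := (⊥ : Subgroup G) ⊔ Subgroup.zpowers z with hN1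
  have z1 : z ∈ N1 := Subgroup.mem_sup_right (Subgroup.mem_zpowers z)
  have c1 := sup_step hp c0 (mem_norm_bot z) h.z_pow
  rw [← hN1] at c1
  have n1 : ∀ g : G, g * z = z * g → g ∈ Subgroup.normalizer (N1 : Set G) := fun g hg =>
    norm_step c1.1 (mem_norm_bot g) (by rw [conj_of_comm hg]; exact z1)
  have nz := h.u1z
  have n1u1 := n1 u1 h.u1z
  have n1u2 := n1 u2 h.u2z
  have n1x := n1 x h.xz
  have n1y1 := n1 y1 h.y1z
  have n1y2 := n1 y2 h.y2z
  set N2 := N1 ⊔ Subgroup.zpowers u1 with hN2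
  have h12 : N1 ≤ N2 := le_sup_left
  have u12 : u1 ∈ N2 := Subgroup.mem_sup_right (Subgroup.mem_zpowers u1)
  have c2 := sup_step hp c1 n1u1 h.u1_pow
  rw [← hN2] at c2
  have n2u2 : u2 ∈ Subgroup.normalizer (N2 : Set G) :=
    norm_step c2.1 n1u2 (by rw [conj_of_comm h.u1u2.symm]; exact u12)
  have n2x : x ∈ Subgroup.normalizer (N2 : Set G) :=
    norm_step c2.1 n1x (by rw [conj_of_comm h.xu1]; exact u12)
  have n2y1 : y1 ∈ Subgroup.normalizer (N2 : Set G) :=
    norm_step c2.1 n1y1 (by rw [h.y1u1]; exact N2.mul_mem u12 (h12 (N1.zpow_mem z1 _)))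
  have n2y2 : y2 ∈ Subgroup.normalizer (N2 : Set G) :=
    norm_step c2.1 n1y2 (by rw [h.y2u1]; exact N2.mul_mem u12 (h12 (N1.zpow_mem z1 _)))
  set N3 := N2 ⊔ Subgroup.zpowers u2 with hN3
  have h23 : N2 ≤ N3 := le_sup_left
  have u23 : u2 ∈ N3 := Subgroup.mem_sup_right (Subgroup.mem_zpowers u2)
  have c3 := sup_step hp c2 n2u2 h.u2_pow
  rw [← hN3] at c3
  have n3x : x ∈ Subgroup.normalizer (N3 : Set G) :=
    norm_step c3.1 n2x (by rw [conj_of_comm h.xu2]; exact u23)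
  have n3y1 : y1 ∈ Subgroup.normalizer (N3 : Set G) :=
    norm_step c3.1 n2y1 (by rw [h.y1u2]; exact N3.mul_mem u23 (h23 (h12 (N1.zpow_mem z1 _))))
  have n3y2 : y2 ∈ Subgroup.normalizer (N3 : Set G) :=
    norm_step c3.1 n2y2 (by rw [h.y2u2]; exact N3.mul_mem u23 (h23 (h12 (N1.zpow_mem z1 _))))
  set N4 := N3 ⊔ Subgroup.zpowers x with hN4
  have h34 : N3 ≤ N4 := le_sup_left
  have x4 : x ∈ N4 := Subgroup.mem_sup_right (Subgroup.mem_zpowers x)
  have c4 := sup_step hp c3 n3x h.x_pow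
  rw [← hN4] at c4
  have n4y1 : y1 ∈ Subgroup.normalizer (N4 : Set G) :=
    norm_step c4.1 n3y1 (by rw [h.y1x]; exact N4.mul_mem x4 (h34 (h23 u12)))
  have n4y2 : y2 ∈ Subgroup.normalizer (N4 : Set G) :=
    norm_step c4.1 n3y2 (by rw [h.y2x]; exact N4.mul_mem x4 (h34 u23))
  set N5 := N4 ⊔ Subgroup.zpowers y1 with hN5
  have h45 : N4 ≤ N5 := le_sup_left
  have y15 : y1 ∈ N5 := Subgroup.mem_sup_right (Subgroup.mem_zpowers y1)
  have c5 := sup_step hp c4 n4y1 h.y1_pow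
  rw [← hN5] at c5
  have n5y2 : y2 ∈ Subgroup.normalizer (N5 : Set G) :=
    norm_step c5.1 n4y2 (by rw [conj_of_comm h.y1y2.symm]; exact y15)
  have c6 := sup_step hp c5 n5y2 h.y2_pow
  have hle : Subgroup.closure {x, u1, u2, z, y1, y2} ≤ N5 ⊔ Subgroup.zpowers y2 := by
    rw [Subgroup.closure_le]
    rintro g (rfl | rfl | rfl | rfl | rfl | rfl)
    · exact Subgroup.mem_sup_left (h45 x4)
    · exact Subgroup.mem_sup_left (h45 (h34 (h23 u12)))
    · exact Subgroup.mem_sup_left (h45 (h34 u23))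
    · exact Subgroup.mem_sup_left (h45 (h34 (h23 (h12 z1))))
    · exact Subgroup.mem_sup_left y15
    · exact Subgroup.mem_sup_right (Subgroup.mem_zpowers _)
  have hf := c6.1
  refine ⟨Finite.of_injective _ (Subgroup.inclusion_injective hle), ?_⟩
  refine (Nat.card_mono (Set.toFinite _) hle).trans (c6.2.trans (le_of_eq (by ring)))

theorem RelG.card_le {x y e k a z : G} (hp : 0 < p) (h : RelG p x y e k a z) :
    Finite (Subgroup.closure {x, y, e, k, a, z}) ∧
      Nat.card (Subgroup.closure {x, y, e, k, a, z}) ≤ p ^ 6 := by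
  have c0 : Finite (⊥ : Subgroup G) ∧ Nat.card (⊥ : Subgroup G) ≤ 1 := ⟨inferInstance, by simp⟩
  set N1 := (⊥ : Subgroup G) ⊔ Subgroup.zpowers z with hN1
  have z1 : z ∈ N1 := Subgroup.mem_sup_right (Subgroup.mem_zpowers z)
  have c1 := sup_step hp c0 (mem_norm_bot z) h.z_pow
  rw [← hN1] at c1
  have n1 : ∀ g : G, g * z = z * g → g ∈ Subgroup.normalizer (N1 : Set G) := fun g hg =>
    norm_step c1.1 (mem_norm_bot g) (by rw [conj_of_comm hg]; exact z1)
  set N2 := N1 ⊔ Subgroup.zpowers a with hN2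
  have h12 : N1 ≤ N2 := le_sup_left
  have a2 : a ∈ N2 := Subgroup.mem_sup_right (Subgroup.mem_zpowers a)
  have c2 := sup_step hp c1 (n1 a h.az) h.a_pow
  rw [← hN2] at c2
  have n2k : k ∈ Subgroup.normalizer (N2 : Set G) :=
    norm_step c2.1 (n1 k h.kz) (by rw [conj_of_comm h.ka]; exact a2)
  have n2e : e ∈ Subgroup.normalizer (N2 : Set G) :=
    norm_step c2.1 (n1 e h.ez) (by rw [conj_of_comm h.ea]; exact a2)
  have n2y : y ∈ Subgroup.normalizer (N2 : Set G) :=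
    norm_step c2.1 (n1 y h.yz) (by rw [h.ya]; exact N2.mul_mem (h12 z1) a2)
  have n2x : x ∈ Subgroup.normalizer (N2 : Set G) :=
    norm_step c2.1 (n1 x h.xz) (by rw [conj_of_comm h.xa]; exact a2)
  set N3 := N2 ⊔ Subgroup.zpowers k with hN3
  have h23 : N2 ≤ N3 := le_sup_left
  have k3 : k ∈ N3 := Subgroup.mem_sup_right (Subgroup.mem_zpowers k)
  have c3 := sup_step hp c2 n2k h.k_pow
  rw [← hN3] at c3
  have n3e : e ∈ Subgroup.normalizer (N3 : Set G) :=
    norm_step c3.1 n2e (by rw [h.ek]; exact N3.mul_mem (N3.inv_mem (h23 (h12 z1))) k3)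
  have n3y : y ∈ Subgroup.normalizer (N3 : Set G) :=
    norm_step c3.1 n2y (by rw [h.yk]; exact N3.mul_mem (h23 (h12 z1)) k3)
  have n3x : x ∈ Subgroup.normalizer (N3 : Set G) :=
    norm_step c3.1 n2x (by rw [h.xk]; exact N3.mul_mem (h23 a2) k3)
  set N4 := N3 ⊔ Subgroup.zpowers e with hN4
  have h34 : N3 ≤ N4 := le_sup_left
  have e4 : e ∈ N4 := Subgroup.mem_sup_right (Subgroup.mem_zpowers e)
  have c4 := sup_step hp c3 n3e h.e_pow
  rw [← hN4] at c4
  have n4y : y ∈ Subgroup.normalizer (N4 : Set G) :=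
    norm_step c4.1 n3y (by rw [conj_of_comm h.ye]; exact e4)
  have n4x : x ∈ Subgroup.normalizer (N4 : Set G) :=
    norm_step c4.1 n3x (by rw [h.xe]; exact N4.mul_mem (h34 k3) e4)
  set N5 := N4 ⊔ Subgroup.zpowers y with hN5
  have h45 : N4 ≤ N5 := le_sup_left
  have y5 : y ∈ N5 := Subgroup.mem_sup_right (Subgroup.mem_zpowers y)
  have c5 := sup_step hp c4 n4y h.y_pow
  rw [← hN5] at c5
  have n5x : x ∈ Subgroup.normalizer (N5 : Set G) :=
    norm_step c5.1 n4x (by rw [h.xy]; exact N5.mul_mem (h45 e4) y5)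
  have c6 := sup_step hp c5 n5x h.x_pow
  have hle : Subgroup.closure {x, y, e, k, a, z} ≤ N5 ⊔ Subgroup.zpowers x := by
    rw [Subgroup.closure_le]
    rintro g (rfl | rfl | rfl | rfl | rfl | rfl)
    · exact Subgroup.mem_sup_right (Subgroup.mem_zpowers _)
    · exact Subgroup.mem_sup_left y5
    · exact Subgroup.mem_sup_left (h45 e4)
    · exact Subgroup.mem_sup_left (h45 (h34 k3))
    · exact Subgroup.mem_sup_left (h45 (h34 (h23 a2)))
    · exact Subgroup.mem_sup_left (h45 (h34 (h23 (h12 z1))))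
  have hf := c6.1
  refine ⟨Finite.of_injective _ (Subgroup.inclusion_injective hle), ?_⟩
  refine (Nat.card_mono (Set.toFinite _) hle).trans (c6.2.trans (le_of_eq (by ring)))

end

theorem Rel4.prod {G G' : Type*} [Group G] [Group G'] {p : ℕ} {f11 f12 f22 : ℤ}
    {x u1 u2 z y1 y2 : G} {x' u1' u2' z' y1' y2' : G'} (h : Rel4 p f11 f12 f22 x u1 u2 z y1 y2)
    (h' : Rel4 p f11 f12 f22 x' u1' u2' z' y1' y2') :
    Rel4 p f11 f12 f22 (x, x') (u1, u1') (u2, u2') (z, z') (y1, y1') (y2, y2') where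
  x_pow := Prod.ext h.x_pow h'.x_pow
  u1_pow := Prod.ext h.u1_pow h'.u1_pow
  u2_pow := Prod.ext h.u2_pow h'.u2_pow
  z_pow := Prod.ext h.z_pow h'.z_pow
  y1_pow := Prod.ext h.y1_pow h'.y1_pow
  y2_pow := Prod.ext h.y2_pow h'.y2_pow
  xu1 := Prod.ext h.xu1 h'.xu1
  xu2 := Prod.ext h.xu2 h'.xu2
  xz := Prod.ext h.xz h'.xz
  u1u2 := Prod.ext h.u1u2 h'.u1u2
  u1z := Prod.ext h.u1z h'.u1z
  u2z := Prod.ext h.u2z h'.u2z
  y1z := Prod.ext h.y1z h'.y1z
  y2z := Prod.ext h.y2z h'.y2z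
  y1y2 := Prod.ext h.y1y2 h'.y1y2
  y1x := Prod.ext h.y1x h'.y1x
  y2x := Prod.ext h.y2x h'.y2x
  y1u1 := Prod.ext h.y1u1 h'.y1u1
  y1u2 := Prod.ext h.y1u2 h'.y1u2
  y2u1 := Prod.ext h.y2u1 h'.y2u1
  y2u2 := Prod.ext h.y2u2 h'.y2u2

theorem RelG.prod {G G' : Type*} [Group G] [Group G'] {p : ℕ}
    {x y e k a z : G} {x' y' e' k' a' z' : G'} (h : RelG p x y e k a z)
    (h' : RelG p x' y' e' k' a' z') :
    RelG p (x, x') (y, y') (e, e') (k, k') (a, a') (z, z') where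
  x_pow := Prod.ext h.x_pow h'.x_pow
  y_pow := Prod.ext h.y_pow h'.y_pow
  e_pow := Prod.ext h.e_pow h'.e_pow
  k_pow := Prod.ext h.k_pow h'.k_pow
  a_pow := Prod.ext h.a_pow h'.a_pow
  z_pow := Prod.ext h.z_pow h'.z_pow
  xy := Prod.ext h.xy h'.xy
  xe := Prod.ext h.xe h'.xe
  xk := Prod.ext h.xk h'.xk
  xa := Prod.ext h.xa h'.xa
  xz := Prod.ext h.xz h'.xz
  yz := Prod.ext h.yz h'.yz
  ez := Prod.ext h.ez h'.ez
  kz := Prod.ext h.kz h'.kz
  az := Prod.ext h.az h'.az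
  ye := Prod.ext h.ye h'.ye
  yk := Prod.ext h.yk h'.yk
  ya := Prod.ext h.ya h'.ya
  ek := Prod.ext h.ek h'.ek
  ea := Prod.ext h.ea h'.ea
  ka := Prod.ext h.ka h'.ka

/-- If the subgroup of `Ω × G` generated by `A` is not larger than `S`, `S` is generated by the first components,
every nontrivial normal subgroup of `S` contains `z` and `(z, z') ∈ A`, `z' ≠ 1`, then `S` embeds in `G`. -/
theorem exists_hom {Ω G : Type*} [Group Ω] [Group G] {S : Subgroup Ω} [Finite S] (A : Set (Ω × G))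
    (hA1 : Subgroup.closure (Prod.fst '' A) = S) (hfin : Finite (Subgroup.closure A))
    (hcard : Nat.card (Subgroup.closure A) ≤ Nat.card S) {z : Ω} {z' : G} (hzA : (z, z') ∈ A)
    (hz' : z' ≠ 1) (hz : ∀ N : Subgroup S, N.Normal → N ≠ ⊥ → ∀ hzS : z ∈ S, (⟨z, hzS⟩ : S) ∈ N) :
    ∃ φ : S →* G, Function.Injective φ := by
  have hmem : ∀ k : Subgroup.closure A, (k : Ω × G).1 ∈ S := by
    intro k
    rw [← hA1, show Prod.fst '' A = (MonoidHom.fst Ω G) '' A from rfl, ← MonoidHom.map_closure]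
    exact ⟨k, k.2, rfl⟩
  let f : Subgroup.closure A →* S :=
    ((MonoidHom.fst Ω G).comp (Subgroup.closure A).subtype).codRestrict S hmem
  have hsurj : Function.Surjective f := by
    rintro ⟨s, hs⟩
    have hs' := hs
    rw [← hA1, show Prod.fst '' A = (MonoidHom.fst Ω G) '' A from rfl, ← MonoidHom.map_closure] at hs'
    obtain ⟨k, hk, hks⟩ := hs'
    exact ⟨⟨k, hk⟩, Subtype.ext hks⟩
  have hbij : Function.Bijective f := by
    refine (Nat.bijective_iff_surjective_and_card f).2 ⟨hsurj, le_antisymm hcard ?_⟩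
    exact Nat.card_le_card_of_surjective f hsurj
  let e := MulEquiv.ofBijective f hbij
  let φ : S →* G := ((MonoidHom.snd Ω G).comp (Subgroup.closure A).subtype).comp e.symm.toMonoidHom
  refine ⟨φ, ?_⟩
  have hzS : z ∈ S := hmem ⟨(z, z'), Subgroup.subset_closure hzA⟩
  have hφz : φ ⟨z, hzS⟩ = z' := by
    have h1 : e.symm ⟨z, hzS⟩ = ⟨(z, z'), Subgroup.subset_closure hzA⟩ := by
      rw [MulEquiv.symm_apply_eq]
      rfl
    show (((e.symm ⟨z, hzS⟩ : Subgroup.closure A) : Ω × G)).2 = z'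
    rw [h1]
  rw [← MonoidHom.ker_eq_bot_iff]
  by_contra hne
  have h1 := hz φ.ker inferInstance hne hzS
  rw [MonoidHom.mem_ker, hφz] at h1
  exact hz' h1

/-- A group of order `p ^ 6` embedded in a group of order `p ^ 6 m`, `p ∤ m`, is a Sylow `p`-subgroup. -/
theorem exists_sylow {p : ℕ} [hp : Fact p.Prime] {G S : Type*} [Group G] [Group S]
    (hS : Nat.card S = p ^ 6) {m : ℕ} (hG : Nat.card G = p ^ 6 * m) (hm : ¬ p ∣ m)
    {φ : S →* G} (hφ : Function.Injective φ) :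
    ∃ P : Sylow p G, Nonempty (S ≃* (P : Subgroup G)) := by
  have hm0 : m ≠ 0 := by
    rintro rfl
    exact hm (dvd_zero p)
  have hpos : Nat.card G ≠ 0 := by
    rw [hG]
    exact Nat.mul_ne_zero (pow_ne_zero _ hp.out.ne_zero) hm0
  have hfin : Finite G := Nat.finite_of_card_ne_zero hpos
  let e : S ≃* φ.range := MonoidHom.ofInjective hφ
  have hcard : Nat.card φ.range = p ^ (Nat.card G).factorization p := by
    rw [← Nat.card_congr e.toEquiv, hS, hG, Nat.factorization_mul (pow_ne_zero _ hp.out.ne_zero) hm0,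
      Nat.Prime.factorization_pow hp.out]
    simp [Nat.factorization_eq_zero_of_not_dvd hm]
  refine ⟨Sylow.ofCard φ.range hcard, ⟨?_⟩⟩
  exact e

end Cfsg.Agent.H764
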