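import Mathlib

set_option autoImplicit false

/-!
# Uniserial `p`-groups with operators

`X` is a finite `p`-group (the two-step centralizer `Γ₁` of a group `S` of maximal class and order
`p ^ n`), `M` a group of operators (`Aut_F(Γ₁)`), `V 1 = X > V 2 > ... > V n = 1` the chain of the
`S`-invariant normal subgroups, `s ∈ M` conjugation by an element of `S` outside `Γ₁`, `t ∈ M` an
element normalizing the Sylow `p`-subgroup `⟨Inn X, s⟩` of `M` with `t s t⁻¹ = s ^ m` modulo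
`Inn X`, `m` a primitive root modulo `p`, which acts on `V i / V (i + 1)` by `m ^ (i - n)`.
-/

namespace Cfsg.Agent.H764.MC

/-- The situation. -/
structure Chain {X M : Type*} [Group X] [Group M] [MulDistribMulAction M X] (p n m : ℕ)
    (V : ℕ → Subgroup X) (s t : M) (N : Subgroup M) : Prop where
  two_le : 2 ≤ n
  top : V 1 = ⊤
  bot : V n = ⊥
  anti : ∀ i, V (i + 1) ≤ V i
  idx : ∀ i, 1 ≤ i → i < n → (V (i + 1)).relIndex (V i) = p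
  /-- `s` acts trivially on the factors -/
  sact : ∀ i, 1 ≤ i → ∀ v ∈ V i, s • v * v⁻¹ ∈ V (i + 1)
  /-- and the action is uniserial -/
  sact' : ∀ i, 1 ≤ i → i + 1 < n → ∀ v ∈ V i, s • v * v⁻¹ ∈ V (i + 2) → v ∈ V (i + 1)
  comm : ∀ i, 1 ≤ i → ∀ v ∈ V i, ∀ x : X, x * v * x⁻¹ * v⁻¹ ∈ V (i + 1)
  /-- `t` acts on `V i / V (i + 1)` by `m ^ (i - n)` -/
  tact : ∀ i, 1 ≤ i → i < n → ∃ r : ℕ, (r : ZMod p) * (m : ZMod p) ^ (n - i) = 1 ∧
    ∀ v ∈ V i, t • v * (v ^ r)⁻¹ ∈ V (i + 1)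
  /-- the `s`-invariant normal subgroups -/
  inv : ∀ H : Subgroup X, H.Normal → (∀ x ∈ H, s • x ∈ H) → ∃ i, 1 ≤ i ∧ i ≤ n ∧ H = V i
  /-- the inner automorphisms belong to `M` -/
  inn : ∀ x : X, ∃ g ∈ N, ∀ y : X, g • y = x * y * x⁻¹
  sN : s ∈ N
  spN : ∀ g : M, g⁻¹ * s ^ p * g ∈ N
  conjN : ∀ g : M, g⁻¹ * s * g ∈ N → g ∈ N
  gen : ∀ g ∈ N, ∃ (x : X) (i j : ℕ), ∀ y : X, g • y = x * ((s ^ i * t ^ j) • y) * x⁻¹
  sp : ∃ x : X, ∀ y : X, s ^ p • y = x * y * x⁻¹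
  ts : ∃ x : X, ∀ y : X, (t * s * t⁻¹) • y = x * (s ^ m • y) * x⁻¹
  prim : ∀ j, 0 < j → j < p - 1 → ((m : ℕ) : ZMod p) ^ j ≠ 1
  ne : ((m : ℕ) : ZMod p) ≠ 0
  /-- the power structure of groups of maximal class -/
  pow : p + 2 ≤ n → ∀ i, 1 ≤ i → i + p ≤ n → ∀ v ∈ V i, v ^ p ∈ V (i + p) → v ∈ V (i + 1)
  /-- `M` has no normal Sylow `p`-subgroup, hence not all `V i` are invariant -/
  bad : ∃ i, 1 ≤ i ∧ i ≤ n ∧ ∃ g : M, ∃ x ∈ V i, g • x ∉ V i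

/-- `V i` is `M`-invariant. -/
def Inv {X : Type*} (M : Type*) [Group X] [Group M] [MulDistribMulAction M X]
    (V : ℕ → Subgroup X) (i : ℕ) : Prop := ∀ g : M, ∀ x ∈ V i, g • x ∈ V i

end Cfsg.Agent.H764.MC
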