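import Cfsg.Agent.H764.MCKey3

set_option autoImplicit false
set_option linter.unusedSectionVars false

/-!
# The dual form of the key lemma
-/

namespace Cfsg.Agent.H764.MC

open Finset Module

variable {M U : Type*} {p : ℕ} [hp : Fact p.Prime] [Group M] [Finite M] [AddCommGroup U]
  [Module (ZMod p) U] [FiniteDimensional (ZMod p) U]

variable {ρ : Representation (ZMod p) M U} {s t : M} {m : ℕ}

theorem dual_apply' (ρ : Representation (ZMod p) M U) (g : M) (φ : Dual (ZMod p) U) (x : U) :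
    ρ.dual g φ x = φ (ρ g⁻¹ x) := rfl

theorem dual_pow (ρ : Representation (ZMod p) M U) (g : M) (n : ℕ) (φ : Dual (ZMod p) U) (x : U) :
    ((ρ.dual g - 1) ^ n) φ x = φ (((ρ g⁻¹ - 1) ^ n) x) := by
  induction n generalizing φ with
  | zero => rfl
  | succ n ih =>
    rw [pow_succ, Module.End.mul_apply, ih, pow_succ', Module.End.mul_apply]
    rw [LinearMap.sub_apply, LinearMap.sub_apply, dual_apply', LinearMap.sub_apply, map_sub]
    rfl

theorem inv_sub_pow (ρ : Representation (ZMod p) M U) (s : M) (n : ℕ) :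
    (ρ s⁻¹ - 1) ^ n = (-1) ^ n * ρ s⁻¹ ^ n * (ρ s - 1) ^ n := by
  have h1 : ρ s⁻¹ - 1 = (-1) * ρ s⁻¹ * (ρ s - 1) := by
    rw [mul_assoc, mul_sub (ρ s⁻¹), inv_mul_rho]
    noncomm_ring
  have hc : Commute (ρ s⁻¹) (ρ s - 1) := by
    change ρ s⁻¹ * (ρ s - 1) = (ρ s - 1) * ρ s⁻¹
    rw [mul_sub, sub_mul, inv_mul_rho, mul_inv_rho, mul_one, one_mul]
  have hc2 : Commute ((-1 : End (ZMod p) U) * ρ s⁻¹) (ρ s - 1) :=
    (Commute.neg_one_left _).mul_left hc
  rw [h1, hc2.mul_pow, (Commute.neg_one_left (ρ s⁻¹)).mul_pow]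

theorem key_dual (h : Sit ρ s t m) (N : Subgroup M) (hsN : s ∈ N)
    (hsp : ∀ g : M, g⁻¹ * s ^ p * g ∈ N) (hN : ∀ g : M, g⁻¹ * s * g ∈ N → g ∈ N)
    (hgen : ∀ n ∈ N, ∃ i j : ℕ, ρ n = ρ s ^ i * ρ t ^ j)
    {u : U} {l : ℕ} (hb : Block (ρ s - 1) u l) (hl2 : 2 ≤ l) (hl : l + 3 ≤ p)
    (hw : ρ t (((ρ s - 1) ^ (l - 1)) u) = (m : ZMod p)⁻¹ • (((ρ s - 1) ^ (l - 1)) u))
    (simple : ∀ L : Submodule (ZMod p) U, (∀ g, ∀ x ∈ L, ρ g x ∈ L) → L = ⊥ ∨ L = ⊤) : False := by
  classical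
  set w0 := ((ρ s - 1) ^ (l - 1)) u with hw0
  -- the dual situation
  have hdmul : ∀ g g' : M, ρ.dual (g * g') = ρ.dual g * ρ.dual g' := fun g g' => map_mul _ _ _
  have hrev : ∀ g g' : M, ρ g * ρ g' = ρ (g * g') := fun g g' => (map_mul _ _ _).symm
  have hdeq : ∀ g g' : M, ρ g = ρ g' → ρ.dual g = ρ.dual g' := by
    intro g g' hgg
    have e2 : ρ g⁻¹ = ρ g'⁻¹ := by
      calc ρ g⁻¹ = ρ g⁻¹ * (ρ g' * ρ g'⁻¹) := by rw [mul_inv_rho, mul_one]
        _ = (ρ g⁻¹ * ρ g) * ρ g'⁻¹ := by rw [hgg, mul_assoc]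
        _ = _ := by rw [inv_mul_rho, one_mul]
    apply LinearMap.ext
    intro φ
    apply LinearMap.ext
    intro x
    rw [dual_apply', dual_apply', e2]
  have hD : Sit ρ.dual s t m := by
    refine ⟨?_, h.prim, h.ne, ?_⟩
    · rw [← map_mul, ← map_mul, ← map_pow]
      apply hdeq
      rw [map_mul, map_mul, map_pow]
      exact h.conj
    · rw [← map_pow, ← map_one ρ.dual]
      apply hdeq
      rw [map_pow, map_one]
      exact h.pow
  have hgenD : ∀ n ∈ N, ∃ i j : ℕ, ρ.dual n = ρ.dual s ^ i * ρ.dual t ^ j := by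
    intro n hn
    obtain ⟨i, j, hij⟩ := hgen n hn
    refine ⟨i, j, ?_⟩
    rw [← map_pow, ← map_pow, ← map_mul]
    apply hdeq
    rw [map_mul, map_pow, map_pow]
    exact hij
  have hw0ne : w0 ≠ 0 := hb.pow_ne
  have hσl := hb.pow_eq_zero
  have hw0σ : (ρ s - 1) w0 = 0 := by
    rw [hw0, ← Module.End.mul_apply, ← pow_succ', Nat.sub_add_cancel (by omega), hσl,
      LinearMap.zero_apply]
  have hw0s : ρ s w0 = w0 := by
    rw [LinearMap.sub_apply, Module.End.one_apply, sub_eq_zero] at hw0σ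
    exact hw0σ
  have hw0s' : ρ s⁻¹ w0 = w0 := by
    conv_lhs => rw [← hw0s]
    rw [← Module.End.mul_apply, inv_mul_rho, Module.End.one_apply]
  have hw0s'' : ∀ j : ℕ, (ρ s⁻¹ ^ j) w0 = w0 := by
    intro j
    induction j with
    | zero => rfl
    | succ j ih => rw [pow_succ', Module.End.mul_apply, ih, hw0s']
  obtain ⟨φ, hφ⟩ : ∃ φ : Dual (ZMod p) U, φ w0 ≠ 0 := by
    by_contra hcon
    push Not at hcon
    exact hw0ne ((Module.forall_dual_apply_eq_zero_iff (ZMod p) w0).1 hcon)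
  have hsign : ((-1 : ZMod p) ^ (l - 1)) ≠ 0 := pow_ne_zero _ (neg_ne_zero.2 one_ne_zero)
  have hbD : Block (ρ.dual s - 1) φ l := by
    refine ⟨hb.pos, ?_, ?_, ?_⟩
    · intro hz
      have h1 := LinearMap.congr_fun hz u
      rw [dual_pow, inv_sub_pow, Module.End.mul_apply, ← hw0, Module.End.mul_apply, hw0s'',
        LinearMap.zero_apply] at h1
      have h2 : ((-1 : End (ZMod p) U) ^ (l - 1)) w0 = ((-1 : ZMod p) ^ (l - 1)) • w0 := by
        have : (-1 : End (ZMod p) U) = (-1 : ZMod p) • (1 : End (ZMod p) U) := by simp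
        rw [this, smul_pow, one_pow, LinearMap.smul_apply, Module.End.one_apply]
      rw [h2, map_smul, smul_eq_mul] at h1
      exact (mul_ne_zero hsign hφ) h1
    · apply LinearMap.ext
      intro x
      rw [dual_pow, inv_sub_pow, hσl, mul_zero, LinearMap.zero_apply, map_zero,
        LinearMap.zero_apply]
    · rw [Subspace.dual_finrank_eq, hb.dim]
  -- elements vanishing at `w0` are in the range
  have hrange : ∀ θ : Dual (ZMod p) U, θ w0 = 0 → ∃ θ', θ = (ρ.dual s - 1) θ' := by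
    intro θ hθ
    have h1 := hbD.basis.sum_repr θ
    simp only [hbD.basis_apply] at h1
    obtain ⟨n, hn⟩ : ∃ n, l = n + 1 := ⟨l - 1, by omega⟩
    have hev : ∀ i : ℕ, 0 < i → ((ρ.dual s - 1) ^ i) φ w0 = 0 := by
      intro i hi
      obtain ⟨j, rfl⟩ : ∃ j, i = j + 1 := ⟨i - 1, by omega⟩
      have h5 : ((ρ s - 1) ^ (j + 1)) w0 = 0 := by
        rw [pow_succ, Module.End.mul_apply, hw0σ, map_zero]
      rw [dual_pow, inv_sub_pow, Module.End.mul_apply, h5, map_zero, map_zero]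
    have h2 : hbD.basis.repr θ ⟨0, by omega⟩ = 0 := by
      have h3 := congrArg (fun f : Dual (ZMod p) U => f w0) h1
      simp only [LinearMap.sum_apply, LinearMap.smul_apply] at h3
      rw [Finset.sum_eq_single ⟨0, by omega⟩] at h3
      · rw [hθ, pow_zero, Module.End.one_apply] at h3
        exact (smul_eq_zero.1 h3).resolve_right hφ
      · intro j _ hj
        rw [hev j ?_, smul_zero]
        rw [Nat.pos_iff_ne_zero]
        exact fun hh => hj (Fin.ext hh)
      · intro hh; exact absurd (Finset.mem_univ _) hh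
    refine ⟨∑ i : Fin l, hbD.basis.repr θ i • ((ρ.dual s - 1) ^ ((i : ℕ) - 1)) φ, ?_⟩
    conv_lhs => rw [← h1]
    rw [map_sum]
    refine Finset.sum_congr rfl (fun i _ => ?_)
    rw [map_smul, ← Module.End.mul_apply, ← pow_succ']
    rcases Nat.eq_zero_or_pos (i : ℕ) with hi | hi
    · have : i = ⟨0, by omega⟩ := Fin.ext hi
      rw [this, h2, zero_smul, zero_smul]
    · rw [Nat.sub_add_cancel hi]
  have hti : ρ t⁻¹ w0 = (m : ZMod p) • w0 := by
    have h1 := congrArg (ρ t⁻¹) hw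
    rw [← Module.End.mul_apply, inv_mul_rho, Module.End.one_apply, map_smul] at h1
    have h2 : (m : ZMod p) • w0 = (m : ZMod p) • ((m : ZMod p)⁻¹ • ρ t⁻¹ w0) := by rw [← h1]
    rw [smul_smul, mul_inv_cancel₀ h.ne, one_smul] at h2
    exact h2.symm
  have hu : ∃ u', ρ.dual t φ = (m : ZMod p) • φ + (ρ.dual s - 1) u' := by
    obtain ⟨θ', hθ'⟩ := hrange (ρ.dual t φ - (m : ZMod p) • φ) (by
      rw [LinearMap.sub_apply, dual_apply', hti, map_smul, LinearMap.smul_apply, sub_self])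
    exact ⟨θ', by rw [← hθ']; abel⟩
  have hsimple : ∀ L : Submodule (ZMod p) (Dual (ZMod p) U),
      (∀ g, ∀ x ∈ L, ρ.dual g x ∈ L) → L = ⊥ ∨ L = ⊤ := by
    intro L hL
    have h1 := simple (Submodule.dualCoannihilator L) (by
      intro g x hx
      rw [Submodule.mem_dualCoannihilator] at hx ⊢
      intro ψ hψ
      have := hx _ (hL g⁻¹ ψ hψ)
      rw [dual_apply', inv_inv] at this
      exact this)
    rcases h1 with h1 | h1
    · right
      rw [← Subspace.dualCoannihilator_dualAnnihilator_eq (W := L), h1]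
      exact Submodule.dualAnnihilator_bot
    · left
      rw [← Subspace.dualCoannihilator_dualAnnihilator_eq (W := L), h1]
      exact Submodule.dualAnnihilator_top
  exact key hD N hsN hsp hN hgenD hbD hl2 hl hu hsimple

end Cfsg.Agent.H764.MC
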