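import Cfsg.Agent.H764.MCModule

set_option autoImplicit false
set_option linter.unusedSectionVars false

/-!
# The dimensions of the chief factors
-/

namespace Cfsg.Agent.H764.MC

open Module

universe u v

variable {X : Type u} {M : Type v} [Group X] [Finite X] [Group M] [Finite M]
  [MulDistribMulAction M X]
  {p n m : ℕ} [hp : Fact p.Prime] {V : ℕ → Subgroup X} {s t : M} {N : Subgroup M}

/-- consecutive invariant members of the chain -/
structure Consec (M : Type v) [Group M] [MulDistribMulAction M X] (V : ℕ → Subgroup X) (n i j : ℕ) :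
    Prop where
  one_le : 1 ≤ i
  lt : i < j
  le : j ≤ n
  inv_i : Inv M V i
  inv_j : Inv M V j
  no : ∀ k, i < k → k < j → ¬ Inv M V k

theorem Chain.inv_one (h : Chain p n m V s t N) : Inv M V 1 := by
  intro g x _
  rw [h.top]
  exact Subgroup.mem_top _

theorem Chain.inv_n (h : Chain p n m V s t N) : Inv M V n := by
  intro g x hx
  rw [h.bot, Subgroup.mem_bot] at hx ⊢
  rw [hx, smul_one]

theorem Chain.exists_consec (h : Chain p n m V s t N) {j : ℕ} (h2 : 2 ≤ j) (hj : j ≤ n)
    (hjI : Inv M V j) : ∃ i, Consec M V n i j := by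
  classical
  have key : ∀ k : ℕ, 1 ≤ k → k < j → (∀ l, k < l → l < j → ¬ Inv M V l) →
      ∃ i, Consec M V n i j := by
    intro k
    induction k with
    | zero => intro hk; omega
    | succ k ih =>
      intro _ hk hno
      by_cases hI : Inv M V (k + 1)
      · exact ⟨k + 1, by omega, hk, hj, hI, hjI, hno⟩
      · rcases Nat.eq_zero_or_pos k with rfl | hk0
        · exact absurd h.inv_one hI
        · refine ih (by omega) (by omega) (fun l hl hl' => ?_)
          rcases Nat.lt_or_ge (k + 1) l with h3 | h3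
          · exact hno l h3 hl'
          · rw [show l = k + 1 by omega]; exact hI
  exact key (j - 1) (by omega) (by omega) (fun l hl hl' => by omega)

theorem Chain.length_le (h : Chain p n m V s t N) (hna : ∃ x y : X, x * y ≠ y * x) {i j : ℕ}
    (c : Consec M V n i j) : j - i ≤ p - 1 := by
  by_contra hcon
  push Not at hcon
  have hp0 := hp.out.pos
  have hl : i + p ≤ j := by omega
  have h1 := c.one_le
  have h2 := c.le
  obtain ⟨v, hv, hv'⟩ := h.exists_mem c.one_le (i := i) (by omega)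
  have h3 := h.pow_mem' c.one_le c.lt c.le c.inv_i c.inv_j c.no hv
  rcases Nat.lt_or_ge n (p + 2) with h4 | h4
  · have hi1 : i = 1 := by omega
    have hjn : j = n := by omega
    obtain ⟨x, y, hxy⟩ := hna
    apply hxy
    have h5 := h.comm_mem c.one_le c.lt c.le c.inv_i c.inv_j c.no
      (v := y) (by rw [hi1, h.top]; exact Subgroup.mem_top _) x
    rw [hjn, h.bot, Subgroup.mem_bot] at h5
    have h6 : x * y * x⁻¹ = y := by
      have := congrArg (fun z => z * y) h5
      simpa using this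
    exact mul_inv_eq_iff_eq_mul.1 h6
  · exact hv' (h.pow h4 i c.one_le (by omega) v hv (h.antitone hl h3))

/-- the package for a chief factor -/
theorem Chain.package (h : Chain p n m V s t N) {i j : ℕ} (c : Consec M V n i j) :
    ∃ (U : Type u) (_ : AddCommGroup U) (_ : Module (ZMod p) U)
      (_ : FiniteDimensional (ZMod p) U) (ρ : Representation (ZMod p) M U) (π : V i → U) (u : U)
      (r r' : ℕ),
      Sit ρ s t m ∧
      (∀ L : Submodule (ZMod p) U, (∀ g, ∀ x ∈ L, ρ g x ∈ L) → L = ⊥ ∨ L = ⊤) ∧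
      (∀ (g g' : M) (x : X), (∀ y : X, g • y = x * (g' • y) * x⁻¹) → ρ g = ρ g') ∧
      Block (ρ s - 1) u (j - i) ∧
      (r : ZMod p) * (m : ZMod p) ^ (n - (j - 1)) = 1 ∧
      ρ t (((ρ s - 1) ^ (j - i - 1)) u) = (r : ZMod p) • (((ρ s - 1) ^ (j - i - 1)) u) ∧
      (r' : ZMod p) * (m : ZMod p) ^ (n - i) = 1 ∧
      (∃ u', ρ t u = (r' : ZMod p) • u + (ρ s - 1) u') ∧
      (∀ (v : V i), π v = 0 ↔ (v : X) ∈ V j) ∧ Function.Surjective π ∧
      (∀ (g : M) (a : V i), π ⟨g • (a : X), c.inv_i g a a.2⟩ = ρ g (π a)) ∧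
      (∀ a b, π (a * b) = π a + π b) := by
  obtain ⟨U, i1, i2, i3, ρ, π, f, h1, -, h3, h4⟩ :=
    h.exists_fac c.one_le c.lt c.le c.inv_i c.inv_j c.no
  have hlt := c.lt
  have hle := c.le
  have hone := c.one_le
  obtain ⟨v, hv, hv'⟩ := h.exists_mem c.one_le (i := i) (by omega)
  have hb := h4 v hv hv'
  obtain ⟨r, hr, hr'⟩ := h.tact (j - 1) (by omega) (by omega)
  obtain ⟨r', hr1, hr1'⟩ := h.tact i (by omega) (by omega)
  have hc : ∀ v ∈ V i, ∀ x : X, x * v * x⁻¹ * v⁻¹ ∈ V j := fun v hv x =>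
    h.comm_mem c.one_le c.lt c.le c.inv_i c.inv_j c.no hv x
  refine ⟨U, i1, i2, i3, ρ, π, π ⟨v, hv⟩, r, r', h1, h3, fun g g' x hx => f.eq_of_inner hc hx, hb,
    hr, ?_, hr1, ?_, f.ker, f.surj, f.equiv, f.add⟩
  · rw [f.diff_iter h c.one_le]
    set y : V i := ⟨(Chain.D s)^[j - i - 1] ((⟨v, hv⟩ : V i) : X), _⟩ with hy
    have hyj : (y : X) ∈ V (j - 1) := by
      have := h.D_iter_mem c.one_le hv (j - i - 1)
      rwa [show i + (j - i - 1) = j - 1 by omega] at this
    rw [← f.equiv, ← f.pow]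
    have h5 := hr' (y : X) hyj
    rw [show j - 1 + 1 = j by omega] at h5
    have h6 : (⟨t • (y : X), c.inv_i t y y.2⟩ : V i) =
        ⟨t • (y : X) * ((y : X) ^ r)⁻¹, (V i).mul_mem (c.inv_i t y y.2)
          ((V i).inv_mem ((V i).pow_mem y.2 r))⟩ * y ^ r := by
      apply Subtype.ext
      change t • (y : X) = t • (y : X) * ((y : X) ^ r)⁻¹ * (y : X) ^ r
      rw [inv_mul_cancel_right]
    rw [h6, f.add, (f.ker _).2 h5, zero_add]
  · have h5 := hr1' v hv
    have h6 : (⟨t • v, c.inv_i t v hv⟩ : V i) =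
        ⟨t • v * (v ^ r')⁻¹, (V i).mul_mem (c.inv_i t v hv)
          ((V i).inv_mem ((V i).pow_mem hv r'))⟩ * (⟨v, hv⟩ : V i) ^ r' := by
      apply Subtype.ext
      change t • v = t • v * (v ^ r')⁻¹ * v ^ r'
      rw [inv_mul_cancel_right]
    have h7 : ∀ y : V i, (y : X) ∈ V (i + 1) → ∃ u', π y = (ρ s - 1) u' := by
      intro y hy
      have h8 := hb.basis.sum_repr (π y)
      simp only [hb.basis_apply] at h8
      have hl0 : 0 < j - i := by omega
      have h9 : hb.basis.repr (π y) ⟨0, hl0⟩ = 0 := by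
        by_contra hne
        -- apply `σ ^ (l - 1)`
        have h10 : ((ρ s - 1) ^ (j - i - 1)) (π y) = 0 := by
          rw [f.diff_iter h c.one_le, f.ker]
          have := h.D_iter_mem (i := i + 1) (by omega) hy (j - i - 1)
          rwa [show i + 1 + (j - i - 1) = j by omega] at this
        have h11 : ((ρ s - 1) ^ (j - i - 1)) (π y) =
            hb.basis.repr (π y) ⟨0, hl0⟩ • ((ρ s - 1) ^ (j - i - 1)) (π ⟨v, hv⟩) := by
          conv_lhs => rw [← h8]
          rw [map_sum, Finset.sum_eq_single ⟨0, hl0⟩]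
          · rw [map_smul, pow_zero, Module.End.one_apply]
          · intro b _ hb'
            have hb0 : 0 < (b : ℕ) := by
              rw [Nat.pos_iff_ne_zero]
              exact fun hh => hb' (Fin.ext hh)
            rw [map_smul, ← Module.End.mul_apply, ← pow_add,
              hb.pow_apply_eq_zero (by omega), smul_zero]
          · intro hh; exact absurd (Finset.mem_univ _) hh
        rw [h11] at h10
        exact (smul_ne_zero hne hb.pow_ne) h10
      refine ⟨∑ k : Fin (j - i), hb.basis.repr (π y) k • ((ρ s - 1) ^ ((k : ℕ) - 1)) (π ⟨v, hv⟩),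
        ?_⟩
      conv_lhs => rw [← h8]
      rw [map_sum]
      refine Finset.sum_congr rfl (fun k _ => ?_)
      rw [map_smul, ← Module.End.mul_apply, ← pow_succ']
      rcases Nat.eq_zero_or_pos (k : ℕ) with hk | hk
      · have : k = ⟨0, hl0⟩ := Fin.ext hk
        rw [this, h9, zero_smul, zero_smul]
      · rw [Nat.sub_add_cancel hk]
    obtain ⟨u', hu'⟩ := h7 ⟨t • v * (v ^ r')⁻¹, (V i).mul_mem (c.inv_i t v hv)
          ((V i).inv_mem ((V i).pow_mem hv r'))⟩ h5
    refine ⟨u', ?_⟩
    rw [← f.equiv, ← f.pow]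
    change π ⟨t • v, _⟩ = _
    rw [h6, f.add, hu', add_comm]

end Cfsg.Agent.H764.MC
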