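import Cfsg.Agent.H764.MCFactor

set_option autoImplicit false
set_option linter.unusedSectionVars false

/-!
# The dimensions of the chief factors, II
-/

namespace Cfsg.Agent.H764.MC

open Module

universe u v

variable {X : Type u} {M : Type v} [Group X] [Finite X] [Group M] [Finite M]
  [MulDistribMulAction M X]
  {p n m : ℕ} [hp : Fact p.Prime] {V : ℕ → Subgroup X} {s t : M} {N : Subgroup M}

theorem rho_eq {U : Type*} [AddCommGroup U] [Module (ZMod p) U]
    {ρ : Representation (ZMod p) M U}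
    (hρ : ∀ (g g' : M) (x : X), (∀ y : X, g • y = x * (g' • y) * x⁻¹) → ρ g = ρ g')
    {g : M} {x : X} {a b : ℕ} (hx : ∀ y : X, g • y = x * ((s ^ a * t ^ b) • y) * x⁻¹) :
    ρ g = ρ s ^ a * ρ t ^ b := by
  rw [← map_pow, ← map_pow, ← map_mul]
  exact hρ _ _ x hx

theorem pow_fix {U : Type*} [AddCommGroup U] [Module (ZMod p) U] {A : End (ZMod p) U} {w : U}
    {c : ZMod p} (h : A w = c • w) (a : ℕ) : (A ^ a) w = c ^ a • w := by
  induction a with
  | zero => simp
  | succ a ih => rw [pow_succ', Module.End.mul_apply, ih, map_smul, h, smul_smul, pow_succ]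

/-- a fixed line is everything -/
theorem line_top {U : Type*} [AddCommGroup U] [Module (ZMod p) U]
    {ρ : Representation (ZMod p) M U}
    (simple : ∀ L : Submodule (ZMod p) U, (∀ g, ∀ x ∈ L, ρ g x ∈ L) → L = ⊥ ∨ L = ⊤)
    {w : U} (hw : w ≠ 0) (hf : ∀ g, ∃ c : ZMod p, ρ g w = c • w) :
    finrank (ZMod p) U = 1 ∧ ∀ y : U, ∃ c : ZMod p, y = c • w := by
  have h1 := simple (Submodule.span (ZMod p) {w}) (by
    intro g x hx
    obtain ⟨a, rfl⟩ := Submodule.mem_span_singleton.1 hx
    obtain ⟨c, hc⟩ := hf g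
    rw [map_smul, hc, smul_smul]
    exact Submodule.mem_span_singleton.2 ⟨_, rfl⟩)
  rcases h1 with h1 | h1
  · exact absurd (Submodule.span_singleton_eq_bot.1 h1) hw
  · constructor
    · rw [← finrank_top, ← h1]
      exact finrank_span_singleton hw
    · intro y
      have : y ∈ (⊤ : Submodule (ZMod p) U) := Submodule.mem_top
      rw [← h1] at this
      obtain ⟨c, hc⟩ := Submodule.mem_span_singleton.1 this
      exact ⟨c, hc.symm⟩

theorem Chain.m_pow (h : Chain p n m V s t N) {k : ℕ} (hk : p - 1 ∣ k) :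
    (m : ZMod p) ^ k = 1 := by
  obtain ⟨c, rfl⟩ := hk
  rw [pow_mul, ZMod.pow_card_sub_one_eq_one h.ne, one_pow]

/-- the chief factors with trivial weight in the socle -/
theorem Chain.lemmaA (h : Chain p n m V s t N) (hna : ∃ x y : X, x * y ≠ y * x) {i j : ℕ}
    (c : Consec M V n i j) (hd : p - 1 ∣ n - (j - 1)) :
    j = i + 1 ∧ ∀ g : M, ∀ x ∈ V i, g • x * x⁻¹ ∈ V j := by
  obtain ⟨U, i1, i2, i3, ρ, π, u, r, r', sit, simple, heq, hb, hr, hr1, -, -, hker, hsurj, hequiv,
    hadd⟩ := h.package c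
  have hl := h.length_le hna c
  have hlt := c.lt
  have hr2 : (r : ZMod p) = 1 := by
    rw [h.m_pow hd, mul_one] at hr
    exact hr
  rw [hr2, one_smul] at hr1
  set w := ((ρ s - 1) ^ (j - i - 1)) u with hw
  have hws : ρ s w = w := by
    have h2 : (ρ s - 1) w = 0 := by
      rw [hw, ← Module.End.mul_apply, ← pow_succ', Nat.sub_add_cancel (by omega)]
      rw [hb.pow_eq_zero, LinearMap.zero_apply]
    rw [LinearMap.sub_apply, Module.End.one_apply, sub_eq_zero] at h2
    exact h2
  have hfix : ∀ g, ρ g w = w := by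
    apply fixed_of_killed (p := p) ρ N s h.sN h.spN h.conjN
    · have h3 : (ρ s - 1) ^ (p - 1) = (ρ s - 1) ^ (p - 1 - (j - i)) * (ρ s - 1) ^ (j - i) := by
        rw [← pow_add]; congr 1; omega
      rw [h3, hb.pow_eq_zero, mul_zero]
    · intro g hg
      obtain ⟨x, a, b, hx⟩ := h.gen g hg
      rw [rho_eq heq hx, Module.End.mul_apply,
        pow_fix (A := ρ t) (c := 1) (by rw [one_smul]; exact hr1),
        one_pow, one_smul, pow_fix (A := ρ s) (c := 1) (by rw [one_smul]; exact hws), one_pow,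
        one_smul]
  obtain ⟨h4, h5⟩ := line_top simple hb.pow_ne (fun g => ⟨1, by rw [one_smul]; exact hfix g⟩)
  refine ⟨?_, ?_⟩
  · have := hb.dim
    omega
  · intro g x hx
    have hρ : ∀ y, ρ g y = y := by
      intro y
      obtain ⟨c', rfl⟩ := h5 y
      rw [map_smul]
      congr 1
      exact hfix g
    have h6 := hequiv g ⟨x, hx⟩
    rw [hρ] at h6
    have h7 : (⟨g • x, c.inv_i g x hx⟩ : V i) =
        ⟨g • x * x⁻¹, (V i).mul_mem (c.inv_i g x hx) ((V i).inv_mem hx)⟩ * ⟨x, hx⟩ := by
      apply Subtype.ext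
      change g • x = g • x * x⁻¹ * x
      rw [inv_mul_cancel_right]
    change π ⟨g • x, _⟩ = _ at h6
    rw [h7, hadd, add_eq_right] at h6
    exact (hker _).1 h6

/-- A one-dimensional chief factor with socle weight `m⁻¹` is impossible. -/
theorem Chain.lemmaB1 (h : Chain p n m V s t N) (hna : ∃ x y : X, x * y ≠ y * x) {i j : ℕ}
    (c : Consec M V n i j) (hd : p - 1 ∣ n - j) : j ≠ i + 1 := by
  intro hji
  obtain ⟨U, i1, i2, i3, ρ, π, u, r, r', sit, simple, heq, hb, hr, hr1, -⟩ := h.package c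
  have hle := c.le
  have hlt := c.lt
  have hl1 : j - i = 1 := by omega
  rw [hl1] at hb
  have hρs : ρ s = 1 := by
    have := hb.pow_eq_zero
    rwa [pow_one, sub_eq_zero] at this
  have hdim : finrank (ZMod p) U = 1 := hb.dim
  have hr2 : (r : ZMod p) * (m : ZMod p) = 1 := by
    rw [show n - (j - 1) = (n - j) + 1 by omega, pow_succ, h.m_pow hd, one_mul] at hr
    exact hr
  have hρt : ρ t = (r : ZMod p) • 1 := by
    rw [show j - i - 1 = 0 by omega, pow_zero, Module.End.one_apply] at hr1
    apply LinearMap.ext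
    intro y
    have h1 := hb.basis.sum_repr y
    simp only [hb.basis_apply] at h1
    rw [Fin.sum_univ_one] at h1
    have h2 : ((0 : Fin 1) : ℕ) = 0 := rfl
    rw [h2, pow_zero, Module.End.one_apply] at h1
    rw [← h1, map_smul, hr1, LinearMap.smul_apply, Module.End.one_apply, smul_smul, smul_smul,
      mul_comm]
  let μ : M →* (ZMod p)ˣ := MonoidHom.toHomUnits (LinearMap.det.comp ρ)
  have hμ : ∀ g, ((μ g : (ZMod p)ˣ) : ZMod p) = LinearMap.det (ρ g) := fun g => rfl
  have hμs : μ s = 1 := by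
    apply Units.ext
    rw [hμ, hρs, map_one, Units.val_one]
  have hμt : ((μ t : (ZMod p)ˣ) : ZMod p) = r := by
    rw [hμ, hρt, LinearMap.det_smul, hdim, pow_one, map_one, mul_one]
  -- all the members of the chain are invariant
  have step : ∀ i' j' : ℕ, Consec M V n i' j' → j' = i' + 1 := by
    intro i' j' c'
    obtain ⟨U', k1, k2, k3, ρ', π', u', q, q', sit', simple', heq', hb', hq, hq1, -⟩ :=
      h.package c'
    have hl := h.length_le hna c'
    have hlt' := c'.lt
    set w := ((ρ' s - 1) ^ (j' - i' - 1)) u' with hw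
    have hws : ρ' s w = w := by
      have h2 : (ρ' s - 1) w = 0 := by
        rw [hw, ← Module.End.mul_apply, ← pow_succ', Nat.sub_add_cancel (by omega)]
        rw [hb'.pow_eq_zero, LinearMap.zero_apply]
      rw [LinearMap.sub_apply, Module.End.one_apply, sub_eq_zero] at h2
      exact h2
    set k := n - (j' - 1) with hk
    have hqr : (q : ZMod p) = (r : ZMod p) ^ k := by
      calc (q : ZMod p) = q * ((r : ZMod p) * m) ^ k := by rw [hr2, one_pow, mul_one]
        _ = (q * (m : ZMod p) ^ k) * (r : ZMod p) ^ k := by rw [mul_pow]; ring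
        _ = _ := by rw [hq, one_mul]
    have hfix : ∀ g, ρ' g w = ((μ ^ k) g : ZMod p) • w := by
      apply eigen_of_killed (p := p) ρ' N s h.sN h.spN h.conjN
      · have h3 : (ρ' s - 1) ^ (p - 1) =
            (ρ' s - 1) ^ (p - 1 - (j' - i')) * (ρ' s - 1) ^ (j' - i') := by
          rw [← pow_add]; congr 1; omega
        rw [h3, hb'.pow_eq_zero, mul_zero]
      · rw [MonoidHom.pow_apply, hμs, one_pow]
      · intro g hg
        obtain ⟨x, a, b, hx⟩ := h.gen g hg
        have h1 : ((μ g : (ZMod p)ˣ) : ZMod p) = (r : ZMod p) ^ b := by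
          rw [hμ, rho_eq heq hx, map_mul, map_pow, map_pow, ← hμ s, hμs, Units.val_one, one_pow,
            one_mul, ← hμ t, hμt]
        rw [rho_eq heq' hx, Module.End.mul_apply, pow_fix hq1, map_smul,
          pow_fix (c := 1) (by rw [one_smul]; exact hws), one_pow, one_smul, MonoidHom.pow_apply,
          Units.val_pow_eq_pow_val, h1, hqr]
        congr 1
        rw [← pow_mul, ← pow_mul, mul_comm]
    obtain ⟨h4, -⟩ := line_top simple' hb'.pow_ne (fun g => ⟨_, hfix g⟩)
    have := hb'.dim
    omega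
  have hn2 := h.two_le
  have hall : ∀ k, k < n → Inv M V (n - k) := by
    intro k
    induction k with
    | zero => intro _; exact h.inv_n
    | succ k ih =>
      intro hk
      obtain ⟨i', c'⟩ := h.exists_consec (j := n - k) (by omega) (by omega) (ih (by omega))
      have h6 := step _ _ c'
      have h7 : n - (k + 1) = i' := by omega
      rw [h7]
      exact c'.inv_i
  obtain ⟨i', hi1, hi2, g, x, hx, hx'⟩ := h.bad
  apply hx'
  have := hall (n - i') (by omega)
  rw [Nat.sub_sub_self hi2] at this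
  exact this g x hx

/-- A chief factor of dimension `p - 1` with socle weight `m⁻¹` is impossible. -/
theorem Chain.lemmaB2 (h : Chain p n m V s t N) (hp3 : 3 ≤ p) {i j : ℕ}
    (c : Consec M V n i j) (hd : p - 1 ∣ n - j) : j - i ≠ p - 1 := by
  intro hji
  obtain ⟨U, i1, i2, i3, ρ, π, u, r, r', sit, simple, heq, hb, -, -, hr, ⟨u', hr1⟩, -⟩ :=
    h.package c
  have hle := c.le
  have hlt := c.lt
  have hr2 : (r' : ZMod p) = 1 := by
    have h1 : p - 1 ∣ n - i := by
      have : n - i = (n - j) + (p - 1) := by omega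
      rw [this]
      exact dvd_add hd dvd_rfl
    rw [h.m_pow h1, mul_one] at hr
    exact hr
  rw [hr2, one_smul] at hr1
  have hl0 : 0 < j - i := by omega
  let φ : Dual (ZMod p) U := hb.basis.coord ⟨0, hl0⟩
  have hφu : φ u = 1 := by
    have h1 : hb.basis ⟨0, hl0⟩ = u := by rw [hb.basis_apply, pow_zero, Module.End.one_apply]
    have h2 : hb.basis.coord ⟨0, hl0⟩ (hb.basis ⟨0, hl0⟩) = 1 := by
      rw [Module.Basis.coord_apply, Module.Basis.repr_self, Finsupp.single_eq_same]
    rw [← h2]
    exact congrArg _ h1.symm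
  have hφσ : ∀ y, φ ((ρ s - 1) y) = 0 := by
    have h2 : φ ∘ₗ (ρ s - 1) = 0 := by
      apply hb.basis.ext
      intro k
      rw [hb.basis_apply, LinearMap.comp_apply, ← Module.End.mul_apply, ← pow_succ',
        LinearMap.zero_apply]
      by_cases hk : (k : ℕ) + 1 < j - i
      · have h3 : ((ρ s - 1) ^ ((k : ℕ) + 1)) u = hb.basis ⟨(k : ℕ) + 1, hk⟩ := by
          rw [hb.basis_apply]
        rw [h3]
        change hb.basis.coord ⟨0, hl0⟩ _ = 0
        rw [Module.Basis.coord_apply, Module.Basis.repr_self, Finsupp.single_eq_of_ne]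
        intro hh
        have := congrArg Fin.val hh
        simp at this
      · rw [hb.pow_apply_eq_zero (by omega), map_zero]
    intro y
    exact LinearMap.congr_fun h2 y
  have hφs : ∀ y, φ (ρ s y) = φ y := by
    intro y
    have := hφσ y
    rw [LinearMap.sub_apply, Module.End.one_apply, map_sub, sub_eq_zero] at this
    exact this
  have hφsn : ∀ (a : ℕ) (y : U), φ ((ρ s ^ a) y) = φ y := by
    intro a
    induction a with
    | zero => intro y; rfl
    | succ a ih => intro y; rw [pow_succ, Module.End.mul_apply, ih, hφs]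
  have hφt : ∀ y, φ (ρ t y) = φ y := by
    have h2 : φ ∘ₗ (ρ t) = φ := by
      apply hb.basis.ext
      intro k
      rw [LinearMap.comp_apply, hb.basis_apply]
      rcases Nat.eq_zero_or_pos (k : ℕ) with hk | hk
      · rw [hk, pow_zero, Module.End.one_apply, hr1, map_add, hφσ, add_zero]
      · obtain ⟨k', hk'⟩ : ∃ k', (k : ℕ) = k' + 1 := ⟨(k : ℕ) - 1, by omega⟩
        rw [hk', pow_succ', Module.End.mul_apply]
        set y := ((ρ s - 1) ^ k') u with hy
        have h3 : ρ t ((ρ s - 1) y) = (ρ s ^ m) (ρ t y) - ρ t y := by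
          have h4 := LinearMap.congr_fun sit.conj (ρ t y)
          rw [Module.End.mul_apply, Module.End.mul_apply, ← Module.End.mul_apply (ρ t⁻¹) (ρ t),
            inv_mul_rho, Module.End.one_apply] at h4
          rw [LinearMap.sub_apply, Module.End.one_apply, map_sub, h4]
        rw [h3, map_sub, hφsn, sub_self, hφσ]
    intro y
    exact LinearMap.congr_fun h2 y
  have hφtn : ∀ (a : ℕ) (y : U), φ ((ρ t ^ a) y) = φ y := by
    intro a
    induction a with
    | zero => intro y; rfl
    | succ a ih => intro y; rw [pow_succ, Module.End.mul_apply, ih, hφt]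
  have hfix : ∀ g, ρ.dual g φ = φ := by
    apply fixed_of_killed (p := p) ρ.dual N s h.sN h.spN h.conjN
    · apply LinearMap.ext
      intro ψ
      apply LinearMap.ext
      intro x
      have h3 : (ρ s - 1) ^ (p - 1) = (ρ s - 1) ^ (p - 1 - (j - i)) * (ρ s - 1) ^ (j - i) := by
        rw [← pow_add]; congr 1; omega
      rw [dual_pow, inv_sub_pow, h3, hb.pow_eq_zero, mul_zero, mul_zero, LinearMap.zero_apply,
        map_zero, LinearMap.zero_apply, LinearMap.zero_apply]
    · intro g hg
      obtain ⟨x, a, b, hx⟩ := h.gen g⁻¹ (N.inv_mem hg)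
      apply LinearMap.ext
      intro y
      rw [dual_apply', rho_eq heq hx, Module.End.mul_apply, hφsn, hφtn]
  have h4 := simple (LinearMap.ker φ) (by
    intro g x hx
    rw [LinearMap.mem_ker] at hx ⊢
    have := LinearMap.congr_fun (hfix g⁻¹) x
    rw [dual_apply', inv_inv] at this
    rw [this, hx])
  rcases h4 with h4 | h4
  · have h5 : finrank (ZMod p) U ≤ finrank (ZMod p) (ZMod p) :=
      LinearMap.finrank_le_finrank_of_injective (LinearMap.ker_eq_bot.1 h4)
    rw [finrank_self, hb.dim] at h5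
    omega
  · have h5 : u ∈ LinearMap.ker φ := by rw [h4]; exact Submodule.mem_top
    rw [LinearMap.mem_ker, hφu] at h5
    exact one_ne_zero h5

/-- the chief factors with socle weight `m⁻¹` -/
theorem Chain.lemmaC (h : Chain p n m V s t N) (hp3 : 3 ≤ p) (hna : ∃ x y : X, x * y ≠ y * x)
    {i j : ℕ} (c : Consec M V n i j) (hd : p - 1 ∣ n - j) : j - i = p - 2 ∧ 5 ≤ p := by
  have h1 := h.lemmaB1 hna c hd
  have h2 := h.lemmaB2 hp3 c hd
  have h3 := h.length_le hna c
  have hle := c.le
  have hlt := c.lt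
  have h4 : ¬ (2 ≤ j - i ∧ j - i + 3 ≤ p) := by
    rintro ⟨hl2, hl3⟩
    obtain ⟨U, i1, i2, i3, ρ, π, u, r, r', sit, simple, heq, hb, hr, hr1, -⟩ := h.package c
    have hr2 : (r : ZMod p) = (m : ZMod p)⁻¹ := by
      rw [show n - (j - 1) = (n - j) + 1 by omega, pow_succ, h.m_pow hd, one_mul] at hr
      exact eq_inv_of_mul_eq_one_left hr
    rw [hr2] at hr1
    refine key_dual sit N h.sN h.spN h.conjN ?_ hb hl2 hl3 hr1 simple
    intro g hg
    obtain ⟨x, a, b, hx⟩ := h.gen g hg
    exact ⟨a, b, rho_eq heq hx⟩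
  have h5 : p ≠ 4 := by
    rintro rfl
    exact absurd hp.out (by norm_num)
  constructor
  · omega
  · omega

end Cfsg.Agent.H764.MC
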