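import Cfsg.Agent.H771.MCTop

set_option autoImplicit false

/-!
# The normalizer of `Aut_S(P)` in `Aut_F(P)`, `P` normal in `S` of index `p`
-/

namespace Cfsg.Agent.H764.MC

open Cfsg Cfsg.FusionSystem Cfsg.Agent.H802 Cfsg.Agent.H771.MCP

variable {Ω : Type*} [Group Ω] {S : Subgroup Ω}

/-- The facts on the normalizer `N` of `Aut_S(P)`; adapted from `H771.MCP.fix_gen`. -/
theorem normalizer_facts {p : ℕ} [hp : Fact p.Prime] [Finite S] (hS : IsPGroup p S)
    {F : FusionSystem S} (hF : F.IsSaturated p) {P : Subgroup Ω} (hPS : P ≤ S)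
    (hPn : ∀ g ∈ S, ∀ x ∈ P, g * x * g⁻¹ ∈ P)
    {x : Ω} (hx : x ∈ S) (hxp : x ^ p ∈ P) (hgen : ∀ g ∈ S, ∃ k : ℤ, (x ^ k)⁻¹ * g ∈ P) :
    ∃ (N : Subgroup (F.autGroup P)) (s : F.autGroup P),
      (∀ v : P, (((s : MulAut P) v : P) : Ω) = x * v * x⁻¹) ∧ s ∈ N ∧
      (∀ g : F.autGroup P, g⁻¹ * s ^ p * g ∈ N) ∧
      (∀ g : F.autGroup P, g⁻¹ * s * g ∈ N → g ∈ N) ∧
      (∀ e : P, ∃ c ∈ N, (c : MulAut P) = MulAut.conj e) ∧
      (∀ g ∈ N, ∃ β ∈ F.autGroup S, ∀ v : P,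
        (β (Subgroup.inclusion hPS v) : S) = Subgroup.inclusion hPS ((g : MulAut P) v)) := by
  have hfP : Finite P := finite_of_le hPS
  have hnorm : ∀ g ∈ S, g ∈ Subgroup.normalizer (P : Set Ω) := by
    intro g hg
    rw [Subgroup.mem_normalizer_iff]
    intro y
    refine ⟨fun hy => hPn g hg y hy, fun hy => ?_⟩
    have h1 := hPn g⁻¹ (S.inv_mem hg) _ hy
    have h2 : g⁻¹ * (g * y * g⁻¹) * g⁻¹⁻¹ = y := by group
    rwa [h2] at h1
  have hfn := isFullyNormalized_of_normal F hPS hPn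
  have hrec := isReceptive_of_isFullyNormalized hS hF hfn
  have hfa := (isFullyAutomized_of_isFullyNormalized hS hF hfn).2
  set A := F.autGroup P with hA
  set T := autInducedBy S P with hT
  obtain ⟨R, hR⟩ := hfa
  have hTA : T ≤ A := autInducedBy_le_autGroup F hPS
  obtain ⟨s, hs⟩ := exists_conjAut (hnorm x hx)
  have hsT : s ∈ T := (mem_autInducedBy_iff S P s).2 ⟨x, hx, hs⟩
  -- powers of `s`
  have hspow : ∀ (k : ℤ) (v : P), ((((s ^ k : MulAut P)) v : P) : Ω) = x ^ k * v * (x ^ k)⁻¹ := by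
    have hnat : ∀ (k : ℕ) (v : P), ((((s ^ k : MulAut P)) v : P) : Ω) = x ^ k * v * (x ^ k)⁻¹ := by
      intro k
      induction k with
      | zero => intro v; simp
      | succ k ih =>
        intro v
        rw [pow_succ', MulAut.mul_apply, hs, ih, pow_succ']
        group
    intro k v
    obtain ⟨m, rfl | rfl⟩ := Int.eq_nat_or_neg k
    · rw [zpow_natCast, zpow_natCast]
      exact hnat m v
    · rw [zpow_neg, zpow_neg, zpow_natCast, zpow_natCast]
      have h1 := hnat m ((s ^ m)⁻¹ v)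
      rw [MulAut.apply_inv_self] at h1
      rw [h1]
      group
  -- conjugates of inner automorphisms
  have hinn : ∀ (g : MulAut P) (e : P), g * MulAut.conj e * g⁻¹ = MulAut.conj (g e) := by
    intro g e
    ext v
    simp
  have hinnT : ∀ e : P, MulAut.conj e ∈ T := fun e =>
    (mem_autInducedBy_iff S P _).2 ⟨e, hPS e.2, fun v => rfl⟩
  let N : Subgroup A := Subgroup.normalizer ((R : Subgroup A) : Set A)
  have hmemR : ∀ a : A, a ∈ (R : Subgroup A) ↔ (a : MulAut P) ∈ T := by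
    intro a
    rw [hR, Subgroup.mem_subgroupOf]
  have hRN : (R : Subgroup A) ≤ N := Subgroup.le_normalizer
  refine ⟨N, ⟨s, hTA hsT⟩, hs, hRN ((hmemR _).2 hsT), ?_, ?_, ?_, ?_⟩
  · intro g
    apply hRN
    rw [hmemR]
    have h1 : s ^ p = MulAut.conj (⟨x ^ p, hxp⟩ : P) := by
      ext v
      have := hspow (p : ℤ) v
      rw [zpow_natCast, zpow_natCast] at this
      rw [this]
      rfl
    have h2 : (((g⁻¹ * (⟨s, hTA hsT⟩ : A) ^ p * g : A)) : MulAut P) =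
        (g : MulAut P)⁻¹ * MulAut.conj (⟨x ^ p, hxp⟩ : P) * (g : MulAut P)⁻¹⁻¹ := by
      rw [← h1, inv_inv]
      rfl
    rw [h2, hinn]
    exact hinnT _
  · intro g hg
    -- the conjugate of `s` is a `p`-element of `N`, hence in `R`
    have h1 : IsPGroup p (Subgroup.zpowers (g⁻¹ * (⟨s, hTA hsT⟩ : A) * g)) := by
      have h2 : (⟨s, hTA hsT⟩ : A) ∈ (R : Subgroup A) := (hmemR _).2 hsT
      have h3 : IsPGroup p (Subgroup.zpowers (⟨s, hTA hsT⟩ : A)) :=
        R.isPGroup'.to_le ((Subgroup.zpowers_le).2 h2)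
      have h4 := h3.map (MulAut.conj g⁻¹).toMonoidHom
      rw [MonoidHom.map_zpowers] at h4
      have h5 : (MulAut.conj g⁻¹).toMonoidHom (⟨s, hTA hsT⟩ : A) = g⁻¹ * (⟨s, hTA hsT⟩ : A) * g := by
        show g⁻¹ * (⟨s, hTA hsT⟩ : A) * g⁻¹⁻¹ = _
        rw [inv_inv]
      rwa [h5] at h4
    have h2 : g⁻¹ * (⟨s, hTA hsT⟩ : A) * g ∈ (R : Subgroup A) := by
      have h3 := h1.inf_normalizer_sylow R
      exact (h3.le ⟨Subgroup.mem_zpowers _, hg⟩).2
    have h3 : ∀ u ∈ (R : Subgroup A), g⁻¹ * u * g⁻¹⁻¹ ∈ (R : Subgroup A) := by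
      intro u hu
      rw [hmemR] at hu
      obtain ⟨w, hw, hwe⟩ := (mem_autInducedBy_iff S P _).1 hu
      obtain ⟨k, hk⟩ := hgen w hw
      have e1 : u = (⟨s, hTA hsT⟩ : A) ^ k * ⟨MulAut.conj (⟨_, hk⟩ : P), hTA (hinnT _)⟩ := by
        apply Subtype.ext
        rw [Subgroup.coe_mul, Subgroup.coe_zpow]
        ext v
        rw [MulAut.mul_apply, hspow, hwe]
        show w * (v : Ω) * w⁻¹ = x ^ k * ((x ^ k)⁻¹ * w * v * ((x ^ k)⁻¹ * w)⁻¹) * (x ^ k)⁻¹
        group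
      have e2 : g⁻¹ * u * g⁻¹⁻¹ = (g⁻¹ * (⟨s, hTA hsT⟩ : A) * g) ^ k *
          (g⁻¹ * ⟨MulAut.conj (⟨_, hk⟩ : P), hTA (hinnT _)⟩ * g) := by
        have e3 : (g⁻¹ * (⟨s, hTA hsT⟩ : A) * g) ^ k = g⁻¹ * (⟨s, hTA hsT⟩ : A) ^ k * g := by
          have := conj_zpow (a := g⁻¹) (b := (⟨s, hTA hsT⟩ : A)) (i := k)
          rw [inv_inv] at this
          exact this
        rw [e3, e1]
        group
      rw [e2]
      refine mul_mem (zpow_mem h2 k) ?_
      rw [hmemR]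
      have e4 : (((g⁻¹ * ⟨MulAut.conj (⟨_, hk⟩ : P), hTA (hinnT _)⟩ * g : A)) : MulAut P) =
          (g : MulAut P)⁻¹ * MulAut.conj (⟨_, hk⟩ : P) * (g : MulAut P)⁻¹⁻¹ := by
        rw [inv_inv]
        rfl
      rw [e4, hinn]
      exact hinnT _
    have h4 : g⁻¹ ∈ Subgroup.normalizer ((R : Subgroup A) : Set A) := by
      have hle : ((R : Subgroup A)).map (MulAut.conj g⁻¹).toMonoidHom ≤ (R : Subgroup A) := by
        rintro _ ⟨u, hu, rfl⟩
        exact h3 u hu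
      have heq : ((R : Subgroup A)).map (MulAut.conj g⁻¹).toMonoidHom = (R : Subgroup A) :=
        Subgroup.eq_of_le_of_card_ge hle (Nat.card_congr
          ((R : Subgroup A).equivMapOfInjective _ (MulAut.conj g⁻¹).injective).toEquiv).le
      rw [Subgroup.mem_normalizer_iff]
      intro u
      refine ⟨fun hu => h3 u hu, fun hu => ?_⟩
      have hu' : g⁻¹ * u * g⁻¹⁻¹ ∈ ((R : Subgroup A)).map (MulAut.conj g⁻¹).toMonoidHom := by
        rw [heq]; exact hu
      obtain ⟨v, hv, hve⟩ := hu'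
      have : v = u := (MulAut.conj g⁻¹).injective hve
      rw [← this]
      exact hv
    have h5 := inv_mem h4
    rwa [inv_inv] at h5
  · intro e
    exact ⟨⟨MulAut.conj e, hTA (hinnT e)⟩, hRN ((hmemR _).2 (hinnT e)), rfl⟩
  · rintro ⟨α, hα⟩ hn
    obtain ⟨β, hβ, hβe⟩ := exists_extension_top hrec hPn hα (fun u hu => by
      have h1 := (Subgroup.mem_normalizer_iff.1 hn ⟨u, hTA hu⟩).1 ((hmemR _).2 hu)
      rw [hmemR] at h1
      exact h1)
    refine ⟨β, hβ, fun v => ?_⟩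
    exact Subtype.ext (hβe v v.2 (hPS v.2))

/-- Restriction of automorphisms of `S`. -/
theorem exists_restrict [Finite S] {F : FusionSystem S} {P : Subgroup Ω} (hPS : P ≤ S) {σ : MulAut S}
    (hσ : σ ∈ F.autGroup S) (hinv : ∀ x : S, (x : Ω) ∈ P → ((σ x : S) : Ω) ∈ P) :
    ∃ t ∈ F.autGroup P, ∀ v : P,
      Subgroup.inclusion hPS ((t : MulAut P) v) = σ (Subgroup.inclusion hPS v) := by
  have hfP : Finite P := finite_of_le hPS
  have h1 := (mem_autGroup_iff F le_rfl σ).1 hσ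
  have h2 := restrict_mem h1 hPS
  have hr : ((S.subtype.comp σ.toMonoidHom).comp (Subgroup.inclusion hPS)).range = P := by
    refine range_eq_of_mapsTo h2 (fun v => ?_)
    exact hinv _ v.2
  obtain ⟨β, hβ, hβe⟩ := exists_aut h2 hr
  refine ⟨β, hβ, fun v => Subtype.ext ?_⟩
  exact hβe v

end Cfsg.Agent.H764.MC
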