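import Cfsg.Agent.H764.MCPos
import Cfsg.Agent.H764.MCNormal
import Cfsg.Agent.H764.MCBad
import Cfsg.Agent.H771.MCPearl
import Cfsg.Agent.H771.MCNormal
import Cfsg.Agent.H467.MaxClassPower2

set_option autoImplicit false
set_option linter.unusedSectionVars false

/-!
# The chain of `Γ₁` with its operators, from an abelian pearl
-/

namespace Cfsg.Agent.H764.MC

open Cfsg Cfsg.FusionSystem Cfsg.Agent.H802 Cfsg.Agent.H766 Cfsg.Agent.H467.MaxClass
open Cfsg.Agent.H797.MaxParity Cfsg.Agent.H771.MCP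
open scoped commutatorElement

variable {Ω : Type*} [Group Ω] {S : Subgroup Ω}

section

variable {p n : ℕ} [hp : Fact p.Prime] [Finite S]

/-- An automorphism acting trivially on `W 0 / W 1` is inner. -/
theorem mem_inn_of_eig (hp3 : 3 ≤ p) (hS : IsPGroup p S) {F : FusionSystem S} (hF : F.IsSaturated p)
    (h : MC S p n (chain S)) (hK : h.Ksub (n - 2) = chain S 1)
    (hna : ∃ a ∈ chain S 1, ∃ b ∈ chain S 1, a * b ≠ b * a) {τ : MulAut S}
    (hτ : τ ∈ F.autGroup S) (h1 : Eig (chain S) τ 0 1) : τ ∈ Inn S := by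
  have h4 := h.four_le
  have hsurj : Function.Surjective (τ.toMonoidHom) := τ.surjective
  obtain ⟨c, hc⟩ := eig_exists h (σ := τ.toMonoidHom) hsurj (i := 1) (by omega)
  obtain ⟨k, hk⟩ := eig_exists h (σ := τ.toMonoidHom) hsurj (i := n - 1) (by omega)
  obtain ⟨M, hM⟩ := exists_exponent h hp3 hK hna
  have h1' : Eig (chain S) τ.toMonoidHom 0 1 := h1
  have e1 := hM τ.toMonoidHom hsurj 1 k h1' hk
  rw [Int.cast_one, one_pow] at e1
  have hall := eig_all h hp3 hK hsurj h1' hc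
  have e2 := hall (n - 2) (by omega)
  rw [show n - 2 + 1 = n - 1 by omega, one_pow, mul_one] at e2
  have e3 := eig_unique h (by omega) hk e2
  rw [e1] at e3
  have hone : ∀ i, i < n → Eig (chain S) τ.toMonoidHom i 1 := by
    intro i hi
    rcases Nat.eq_zero_or_pos i with h0 | h0
    · rw [h0]; exact h1'
    · have e4 := hall (i - 1) (by omega)
      rw [Nat.sub_add_cancel h0, one_pow, mul_one] at e4
      exact eig_congr h hi (by rw [Int.cast_one]; exact e3.symm) e4
  obtain ⟨k', hk'⟩ := Cfsg.Agent.H759.exists_pow_eq_one_of_chain hS τ n (chain S) h.zero h.bot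
    (fun i _ x hx => chain_map_mem τ i x hx) (fun i hi x hx => by
      have := hone i hi x hx
      rwa [zpow_one] at this)
  exact mem_inn_of_pow hS hF hτ hk'

/-- a generator of the units -/
theorem exists_prim (p : ℕ) [hp : Fact p.Prime] : ∃ g : (ZMod p)ˣ, ∀ u : (ZMod p)ˣ, ∃ j : ℕ, g ^ j = u := by
  obtain ⟨g, hg⟩ := IsCyclic.exists_generator (α := (ZMod p)ˣ)
  refine ⟨g, fun u => ?_⟩
  have := hg u
  rw [← mem_powers_iff_mem_zpowers] at this
  exact this

theorem prim_ne {g : (ZMod p)ˣ} (hg : ∀ u : (ZMod p)ˣ, ∃ j : ℕ, g ^ j = u) (j : ℕ) (hj : 0 < j)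
    (hj' : j < p - 1) : g ^ j ≠ 1 := by
  intro h1
  have h2 : orderOf g = p - 1 := by
    rw [← ZMod.card_units p, ← Nat.card_eq_fintype_card]
    apply orderOf_eq_card_of_forall_mem_zpowers
    intro u
    obtain ⟨k, rfl⟩ := hg u
    exact Subgroup.pow_mem _ (Subgroup.mem_zpowers g) k
  have h3 := orderOf_dvd_of_pow_eq_one h1
  rw [h2] at h3
  exact absurd (Nat.le_of_dvd hj h3) (by omega)

/-- weights of powers on `W 0 / W 1` -/
theorem pow_eig (h : MC S p n (chain S)) {σ : MulAut S} {m : ℕ}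
    (hσ : Eig (chain S) σ 0 (m : ℤ)) (j : ℕ) (x : S) :
    (x ^ (m ^ j))⁻¹ * (σ ^ j) x ∈ chain S 1 := by
  have hn1 := h.normal 1
  have hc : ∀ a b : S, a⁻¹ * b ∈ chain S 1 ↔ (a : S ⧸ chain S 1) = b := by
    intro a b
    rw [QuotientGroup.eq]
  induction j generalizing x with
  | zero => simp
  | succ j ih =>
    rw [hc]
    have h1 := ih (σ x)
    rw [hc] at h1
    have h2 := hσ x (by rw [h.zero]; exact Subgroup.mem_top _)
    rw [zero_add, hc, zpow_natCast] at h2
    rw [pow_succ σ, MulAut.mul_apply, ← h1, QuotientGroup.mk_pow, QuotientGroup.mk_pow, ← h2,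
      QuotientGroup.mk_pow, ← pow_mul, pow_succ' m j]

/-- **The chain of `Γ₁`.** -/
theorem exists_chain (hp3 : 3 ≤ p) (hS : IsPGroup p S) {F : FusionSystem S} (hF : F.IsSaturated p)
    (h : MC S p n (chain S)) (hcard : Nat.card S = p ^ n) (hK : h.Ksub (n - 2) = chain S 1)
    (hna : ∃ a ∈ chain S 1, ∃ b ∈ chain S 1, a * b ≠ b * a) {E : Subgroup Ω} (hE : IsPearl F p E)
    (hE2 : Nat.card E = p ^ 2) {P : Subgroup Ω} (hPS : P ≤ S)
    (hP : ∀ x : S, (x : Ω) ∈ P ↔ x ∈ chain S 1) (hess : F.IsEssential p P) :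
    ∃ (m : ℕ) (s t : F.autGroup P) (N : Subgroup (F.autGroup P)),
      Chain p n m (fun i => (chain S i).comap (Subgroup.inclusion hPS)) s t N := by
  have h4 := h.four_le
  have hn1 := h.normal 1
  have hfP : Finite P := finite_of_le hPS
  have hPn : ∀ g ∈ S, ∀ x ∈ P, g * x * g⁻¹ ∈ P := by
    intro g hg x hx
    have h1 := (hP ⟨x, hPS hx⟩).1 hx
    have h2 := hn1.conj_mem _ h1 ⟨g, hg⟩
    exact (hP _).2 h2
  set ι : P →* S := Subgroup.inclusion hPS with hι
  have hιinj : Function.Injective ι := Subgroup.inclusion_injective hPS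
  have hι1 : ∀ v : P, ι v ∈ chain S 1 := fun v => (hP (ι v)).1 v.2
  have hrange : ∀ w ∈ chain S 1, ∃ v : P, ι v = w := fun w hw =>
    ⟨⟨(w : Ω), (hP w).2 hw⟩, rfl⟩
  have hrange' : ι.range = chain S 1 := by
    ext w
    constructor
    · rintro ⟨v, rfl⟩; exact hι1 v
    · intro hw; exact hrange w hw
  -- the pearl
  obtain ⟨x, y, e, hfr⟩ := exists_frame hS hF hE.ess (pearl_frattini_index hS hE)
  obtain ⟨m', hm', hΦ, hx, hx', hy1, hyK⟩ := pearl_position hS hE h4 hcard hfr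
  have hm'n : m' = n - 1 := by
    rcases hm' with ⟨-, h1⟩ | ⟨h1, -⟩
    · exact h1
    · exfalso
      rw [hE2] at h1
      have := Nat.pow_right_injective hp.out.two_le h1
      omega
  subst hm'n
  have hΦb := ess_frattini_eq_bot_of_card_sq hS hE.ess hE2
  obtain ⟨g, hg⟩ := exists_prim p
  obtain ⟨σ, hσ, δ, hδ, hσδ, -, ⟨z, hz, hzy⟩, hwt⟩ :=
    pearl_sigma hS hF hE h4 hcard hfr (by omega) hΦ hx hx' (Or.inr hΦb) g⁻¹
  rw [inv_inv] at hzy
  set m : ℕ := ((g : ZMod p)).val with hm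
  have hmg : (m : ZMod p) = g := by rw [hm, ZMod.natCast_zmod_val]
  set yS : S := Subgroup.inclusion (ess_le hE.ess) y with hyS
  have hy1' : yS ∉ chain S 1 := hy1
  have hyKall : ∀ i, 1 ≤ i → i ≤ n - 2 → yS ∉ h.Ksub i := h.notMem_Ksub hp3 hy1 hyK
  -- the weights of `σ`
  have hsurj : Function.Surjective (σ.toMonoidHom) := σ.surjective
  have hσ0 : Eig (chain S) σ.toMonoidHom 0 (m : ℤ) := by
    apply eig_of_mem h hsurj (by omega) (x := yS) (by rw [h.zero]; trivial) hy1'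
    have e1 : σ.toMonoidHom yS = yS ^ m * z := hzy
    rw [e1, zpow_natCast, inv_mul_cancel_left, zero_add]
    exact h.antitone (by omega) hz
  obtain ⟨c, hc⟩ := eig_exists h (σ := σ.toMonoidHom) hsurj (i := 1) (by omega)
  have hall := eig_all h hp3 hK hsurj hσ0 hc
  have hcm : (c : ZMod p) * (m : ZMod p) ^ (n - 1) = 1 := by
    have e2 := hall (n - 2) (by omega)
    rw [show n - 2 + 1 = n - 1 by omega] at e2
    have e3 : Eig (chain S) σ.toMonoidHom (n - 1)
        ((((g⁻¹ : (ZMod p)ˣ) : ZMod p).val : ℕ) : ℤ) := by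
      intro w hw
      rw [zpow_natCast]
      exact hwt w hw
    have e4 := eig_unique h (by omega) e2 e3
    rw [cast_val] at e4
    push_cast at e4
    rw [show n - 1 = n - 2 + 1 by omega, pow_succ, ← mul_assoc, e4, hmg,
      inv_mul_cancel₀ (Units.ne_zero g)]
  -- generators
  have hgenZ : ∀ w ∈ S, ∃ k : ℤ, ((yS : Ω) ^ k)⁻¹ * w ∈ P := by
    intro w hw
    obtain ⟨k, hk⟩ := h.exists_zpow (i := 0) (by omega) (a := yS) (b := ⟨w, hw⟩)
      (by rw [h.zero]; trivial) hy1' (by rw [h.zero]; trivial)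
    exact ⟨k, (hP _).2 hk⟩
  have hyp : yS ^ p ∈ chain S 1 := h.pow_index_mem yS
  obtain ⟨N, s, hs, hsN, hspN, hconjN, hinnN, hextN⟩ := normalizer_facts hS hF hPS hPn
    (x := (yS : Ω)) yS.2 ((hP _).2 hyp) hgenZ
  obtain ⟨t₀, ht₀, ht⟩ := exists_restrict hPS hσ (fun w hw =>
    (hP _).2 (chain_map_mem σ 1 w ((hP w).1 hw)))
  set t : F.autGroup P := ⟨t₀, ht₀⟩ with htdef
  have hsι : ∀ v : P, ι (s • v) = yS * ι v * yS⁻¹ := fun v => Subtype.ext (hs v)
  have htι : ∀ v : P, ι (t • v) = σ (ι v) := ht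
  have hspow : ∀ (k : ℕ) (v : P), ι (s ^ k • v) = yS ^ k * ι v * (yS ^ k)⁻¹ := by
    intro k
    induction k with
    | zero => intro v; simp
    | succ k ih =>
      intro v
      rw [pow_succ, mul_smul, ih, hsι, pow_succ]
      group
  have htpow : ∀ (k : ℕ) (v : P), ι (t ^ k • v) = (σ ^ k) (ι v) := by
    intro k
    induction k with
    | zero => intro v; simp
    | succ k ih =>
      intro v
      rw [pow_succ, mul_smul, ih, htι, pow_succ, MulAut.mul_apply]
  have hzc : ∀ w : S, z * w = w * z := fun w => (h.center_le hz w).eq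
  have hσy : σ yS = yS ^ m * z := hzy
  set W : ℕ → Subgroup P := fun i => (chain S i).comap ι with hW
  have hmem : ∀ (i : ℕ) (v : P), v ∈ W i ↔ ι v ∈ chain S i := fun i v => Iff.rfl
  -- the fields
  have f_top : W 1 = ⊤ := by
    rw [eq_top_iff]
    intro v _
    exact hι1 v
  have f_bot : W n = ⊥ := by
    rw [eq_bot_iff]
    intro v hv
    rw [hmem, h.bot, Subgroup.mem_bot] at hv
    rw [Subgroup.mem_bot]
    exact hιinj (by rw [hv, map_one])
  have f_anti : ∀ i, W (i + 1) ≤ W i := fun i => Subgroup.comap_mono (h.le_succ i)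
  have f_idx : ∀ i, 1 ≤ i → i < n → (W (i + 1)).relIndex (W i) = p := by
    intro i h1 hi
    rw [hW]
    change ((chain S (i + 1)).comap ι).relIndex ((chain S i).comap ι) = p
    rw [Subgroup.relIndex_comap, Subgroup.map_comap_eq_self (by
      rw [hrange']
      exact h.antitone h1)]
    exact h.relIndex i hi
  have f_comm : ∀ i, 1 ≤ i → ∀ v ∈ W i, ∀ x : P, x * v * x⁻¹ * v⁻¹ ∈ W (i + 1) := by
    intro i _ v hv x
    rw [hmem]
    have h1 := h.comm_mem' (x := ι x) ((hmem i v).1 hv)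
    rw [commutatorElement_def] at h1
    simpa using h1
  have hstab : ∃ i, 1 ≤ i ∧ i ≤ n ∧ ∃ g : F.autGroup P, ∃ x ∈ W i, g • x ∉ W i :=
    exists_not_inv hS hess (by omega) W f_top f_bot f_anti f_idx f_comm
  refine ⟨m, s, t, N, ⟨by omega, f_top, f_bot, f_anti, f_idx, ?_, ?_, f_comm, ?_, ?_, ?_, hsN,
    hspN, hconjN, ?_, ?_, ?_, ?_, ?_, ?_, hstab⟩⟩
  · -- sact
    intro i _ v hv
    rw [hmem, map_mul, map_inv, hsι]
    have h1 := h.comm_mem' (x := yS) ((hmem i v).1 hv)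
    rwa [commutatorElement_def] at h1
  · -- sact'
    intro i h1 hi v hv hv'
    by_contra hcon
    have h2 : ⁅ι v, yS⁆ ∈ chain S (i + 2) := by
      rw [← commutatorElement_inv]
      apply Subgroup.inv_mem
      rw [hmem, map_mul, map_inv, hsι] at hv'
      rw [commutatorElement_def]
      exact hv'
    exact hyKall i h1 (by omega) ((h.mem_K_iff (by omega) ((hmem i v).1 hv)
      (fun hh => hcon ((hmem (i + 1) v).2 hh)) yS).2 h2)
  · -- tact
    intro i h1 hi
    have e1 := hall (i - 1) (by omega)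
    rw [Nat.sub_add_cancel h1] at e1
    have e2 : Eig (chain S) σ.toMonoidHom i
        ((((c : ZMod p) * (m : ZMod p) ^ (i - 1)).val : ℕ) : ℤ) := by
      refine eig_congr h hi ?_ e1
      rw [cast_val]
      push_cast
      rfl
    refine ⟨((c : ZMod p) * (m : ZMod p) ^ (i - 1)).val, ?_, ?_⟩
    · rw [ZMod.natCast_zmod_val, mul_assoc, ← pow_add, show i - 1 + (n - i) = n - 1 by omega]
      exact hcm
    · intro v hv
      set r := ((c : ZMod p) * (m : ZMod p) ^ (i - 1)).val with hr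
      have h2 := e2 (ι v) ((hmem i v).1 hv)
      rw [zpow_natCast] at h2
      rw [hmem, map_mul, map_inv, htι, map_pow]
      have hni := h.normal (i + 1)
      have h3 := hni.conj_mem _ h2 ((ι v) ^ r)
      have h4 : (ι v) ^ r * (((ι v) ^ r)⁻¹ * σ.toMonoidHom (ι v)) * ((ι v) ^ r)⁻¹ =
          σ (ι v) * ((ι v) ^ r)⁻¹ := by
        rw [mul_inv_cancel_left]
        rfl
      rw [h4] at h3
      exact h3
  · -- inv
    intro H hH hHs
    have hHs' : ∀ k : ℕ, ∀ v ∈ H, s ^ k • v ∈ H := by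
      intro k
      induction k with
      | zero => intro v hv; simpa using hv
      | succ k ih => intro v hv; rw [pow_succ, mul_smul]; exact ih _ (hHs v hv)
    have hnorm : ∀ (k : ℤ) (v : P), v ∈ H → yS ^ k * ι v * (yS ^ k)⁻¹ ∈ H.map ι := by
      intro k v hv
      have hfin : Finite S := inferInstance
      obtain ⟨k', hk'⟩ : ∃ k' : ℕ, yS ^ k' = yS ^ k := by
        have : yS ^ k ∈ Submonoid.powers yS := by
          rw [mem_powers_iff_mem_zpowers]
          exact ⟨k, rfl⟩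
        exact this
      rw [← hk', ← hspow]
      exact ⟨_, hHs' k' v hv, rfl⟩
    have hN : (H.map ι).Normal := by
      refine ⟨?_⟩
      rintro _ ⟨v, hv, rfl⟩ g
      obtain ⟨k, hk⟩ := hgenZ g g.2
      obtain ⟨w, hw⟩ := hrange ((yS ^ k)⁻¹ * g) ((hP _).1 hk)
      have e1 : g * ι v * g⁻¹ = yS ^ k * ι (w * v * w⁻¹) * (yS ^ k)⁻¹ := by
        rw [map_mul, map_mul, map_inv, hw]
        group
      rw [e1]
      exact hnorm k _ (hH.conj_mem v hv w)
    obtain ⟨i, hi1, hi2, hi⟩ := normal_eq h hN (by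
      rintro _ ⟨v, -, rfl⟩
      exact hι1 v)
    refine ⟨i, hi1, hi2, ?_⟩
    rw [hW]
    change H = (chain S i).comap ι
    rw [← hi, Subgroup.comap_map_eq_self_of_injective hιinj]
  · -- inn
    intro e
    obtain ⟨c', hc', hce⟩ := hinnN e
    refine ⟨c', hc', fun v => ?_⟩
    change (c' : MulAut P) v = _
    rw [hce]
    rfl
  · -- gen
    intro γ hγ
    obtain ⟨β, hβ, hβe⟩ := hextN γ hγ
    -- the weight of `β`
    have hβsurj : Function.Surjective (β.toMonoidHom) := β.surjective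
    obtain ⟨l, hl⟩ := eig_exists h (σ := β.toMonoidHom) hβsurj (i := 0) (by omega)
    have hl0 := eig_ne_zero h (σ := β.toMonoidHom) hβsurj (by omega) hl
    obtain ⟨j, hj⟩ := hg (Units.mk0 _ hl0)
    have hj' : ((m ^ j : ℕ) : ZMod p) = ((l : ℤ) : ZMod p) := by
      have := congrArg (fun u : (ZMod p)ˣ => (u : ZMod p)) hj
      rw [Nat.cast_pow, hmg]
      simpa using this
    have hτ : β * (σ ^ j)⁻¹ ∈ F.autGroup S :=
      (F.autGroup S).mul_mem hβ ((F.autGroup S).inv_mem ((F.autGroup S).pow_mem hσ j))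
    have hτ1 : Eig (chain S) (β * (σ ^ j)⁻¹ : MulAut S) 0 1 := by
      intro w _
      obtain ⟨w', rfl⟩ := (σ ^ j).surjective w
      rw [zpow_one, zero_add]
      have e0 : (β * (σ ^ j)⁻¹ : MulAut S) ((σ ^ j) w') = β w' := by
        rw [MulAut.mul_apply, MulAut.inv_apply_self]
      rw [e0, ← QuotientGroup.eq]
      have e1 := pow_eig h (σ := σ) hσ0 j w'
      have e2 := hl w' (by rw [h.zero]; exact Subgroup.mem_top _)
      rw [zero_add] at e2
      rw [← QuotientGroup.eq] at e1 e2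
      change ((w' ^ l : S) : S ⧸ chain S 1) = ((β w' : S) : S ⧸ chain S 1) at e2
      rw [← e1, ← e2, QuotientGroup.eq]
      have e3 : (p : ℤ) ∣ l - ((m ^ j : ℕ) : ℤ) := by
        rw [← ZMod.intCast_zmod_eq_zero_iff_dvd]
        push_cast at hj' ⊢
        rw [hj', sub_self]
      obtain ⟨q, hq⟩ := e3
      have e4 : (w' ^ (m ^ j))⁻¹ * w' ^ l = (w' ^ p) ^ q := by
        rw [← zpow_natCast w' (m ^ j), ← zpow_neg, ← zpow_add, ← zpow_natCast w' p, ← zpow_mul]
        congr 1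
        linarith
      rw [e4]
      exact zpow_mem (h.pow_index_mem w') q
    obtain ⟨w, hw⟩ := mem_inn_of_eig hp3 hS hF h hK hna hτ hτ1
    have hβw : ∀ u : S, β u = w * (σ ^ j) u * w⁻¹ := by
      intro u
      have e1 : β * (σ ^ j)⁻¹ * (σ ^ j) = β := by rw [inv_mul_cancel_right]
      rw [← e1, MulAut.mul_apply, ← hw]
      rfl
    -- `w = y ^ k w'`
    obtain ⟨k, hk⟩ := hgenZ w w.2
    obtain ⟨i, hi⟩ : ∃ i : ℕ, yS ^ i = yS ^ k := by
      have : yS ^ k ∈ Submonoid.powers yS := by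
        rw [mem_powers_iff_mem_zpowers]
        exact ⟨k, rfl⟩
      exact this
    have hk' : (yS ^ i)⁻¹ * w ∈ chain S 1 := by
      rw [hi]
      exact (hP _).1 hk
    have hk'' : w * (yS ^ i)⁻¹ ∈ chain S 1 := by
      have := hn1.conj_mem _ hk' (yS ^ i)
      rwa [mul_inv_cancel_left] at this
    obtain ⟨x₁, hx₁⟩ := hrange _ hk''
    refine ⟨x₁, i, j, fun v => ?_⟩
    apply hιinj
    rw [map_mul, map_mul, map_inv, mul_smul, hspow, htpow, hx₁]
    have e1 : ι (γ • v) = β (ι v) := (hβe v).symm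
    rw [e1, hβw]
    group
  · -- sp
    obtain ⟨x₁, hx₁⟩ := hrange _ hyp
    refine ⟨x₁, fun v => ?_⟩
    apply hιinj
    rw [map_mul, map_mul, map_inv, hspow, hx₁]
  · -- ts
    refine ⟨1, fun v => ?_⟩
    rw [one_mul, inv_one, mul_one]
    apply hιinj
    obtain ⟨v', rfl⟩ : ∃ v' : P, v = t • v' := ⟨t⁻¹ • v, (smul_inv_smul t v).symm⟩
    rw [mul_smul, mul_smul, inv_smul_smul, htι, hsι, map_mul, map_mul, map_inv, hσy, hspow, htι,
      mul_inv_rev]
    have e1 : z * σ (ι v') * z⁻¹ = σ (ι v') := by rw [hzc, mul_inv_cancel_right]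
    calc yS ^ m * z * σ (ι v') * (z⁻¹ * (yS ^ m)⁻¹) = yS ^ m * (z * σ (ι v') * z⁻¹) * (yS ^ m)⁻¹ := by
          group
      _ = _ := by rw [e1]
  · -- prim
    intro j hj hj' hcon
    apply prim_ne hg j hj hj'
    apply Units.ext
    rw [Units.val_pow_eq_pow_val, ← hmg, Units.val_one]
    exact hcon
  · -- ne
    rw [hmg]
    exact Units.ne_zero g
  · -- pow
    intro hpn i h1 hi v hv hv'
    by_contra hcon
    refine h.pow_notMem_one hp3 hpn h1 hi ((hmem i v).1 hv)
      (fun hh => hcon ((hmem (i + 1) v).2 hh)) ?_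
    have := (hmem (i + p) _).1 hv'
    rwa [map_pow] at this

end

end Cfsg.Agent.H764.MC
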