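import Cfsg.Agent.H764.MCNorm

set_option autoImplicit false
set_option linter.unusedSectionVars false

/-!
# The key lemma on simple modules with a single Jordan block
-/

namespace Cfsg.Agent.H764.MC

open Finset Module

section block

variable {k U : Type*} [Field k] [AddCommGroup U] [Module k U] [FiniteDimensional k U]

/-- A nilpotent operator with a cyclic vector. -/
structure Block (σ : End k U) (u : U) (l : ℕ) : Prop where
  pos : 1 ≤ l
  pow_ne : (σ ^ (l - 1)) u ≠ 0
  pow_eq : (σ ^ l) u = 0
  dim : finrank k U = l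

variable {σ : End k U} {u : U} {l : ℕ}

theorem Block.li (h : Block σ u l) : LinearIndependent k (fun i : Fin l => (σ ^ (i : ℕ)) u) := by
  rw [Fintype.linearIndependent_iff]
  intro g hg
  have hbig : ∀ j, l ≤ j → (σ ^ j) u = 0 := by
    intro j hj
    obtain ⟨c, rfl⟩ := Nat.exists_eq_add_of_le hj
    rw [add_comm, pow_add, Module.End.mul_apply, h.pow_eq, map_zero]
  have key : ∀ n : ℕ, ∀ i : Fin l, (i : ℕ) < n → g i = 0 := by
    intro n
    induction n with
    | zero => intro i hi; omega
    | succ n ih =>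
      intro i hi
      rcases Nat.lt_succ_iff_lt_or_eq.1 hi with h1 | h1
      · exact ih i h1
      · have h2 := congrArg (fun x => (σ ^ (l - 1 - i)) x) hg
        simp only [map_sum, map_smul, map_zero, ← Module.End.mul_apply, ← pow_add] at h2
        rw [Finset.sum_eq_single i] at h2
        · have h3 : l - 1 - (i : ℕ) + i = l - 1 := by have := i.2; omega
          rw [h3] at h2
          exact (smul_eq_zero.1 h2).resolve_right h.pow_ne
        · intro j _ hj
          rcases lt_or_gt_of_ne (fun hh => hj (Fin.ext hh) : (j : ℕ) ≠ i) with h4 | h4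
          · rw [ih j (by omega), zero_smul]
          · rw [hbig _ (by have := i.2; omega), smul_zero]
        · intro hh; exact absurd (Finset.mem_univ i) hh
  intro i
  exact key (i + 1) i (Nat.lt_succ_self _)

/-- The basis given by the block. -/
noncomputable def Block.basis (h : Block σ u l) : Basis (Fin l) k U :=
  haveI : Nonempty (Fin l) := ⟨⟨0, h.pos⟩⟩
  basisOfLinearIndependentOfCardEqFinrank h.li (by rw [Fintype.card_fin, h.dim])

theorem Block.basis_apply (h : Block σ u l) (i : Fin l) : h.basis i = (σ ^ (i : ℕ)) u := by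
  have : Nonempty (Fin l) := ⟨⟨0, h.pos⟩⟩
  simp [Block.basis]

theorem Block.pow_apply_eq_zero (h : Block σ u l) {j : ℕ} (hj : l ≤ j) : (σ ^ j) u = 0 := by
  obtain ⟨c, rfl⟩ := Nat.exists_eq_add_of_le hj
  rw [add_comm, pow_add, Module.End.mul_apply, h.pow_eq, map_zero]

theorem Block.ext (h : Block σ u l) {W : Type*} [AddCommGroup W] [Module k W] {f g : U →ₗ[k] W}
    (hfg : ∀ i : ℕ, i < l → f ((σ ^ i) u) = g ((σ ^ i) u)) : f = g := by
  apply h.basis.ext
  intro i
  rw [h.basis_apply]
  exact hfg i i.2

theorem Block.pow_eq_zero (h : Block σ u l) : σ ^ l = 0 := by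
  apply h.ext
  intro i hi
  rw [← Module.End.mul_apply, ← pow_add, LinearMap.zero_apply]
  exact h.pow_apply_eq_zero (by omega)

/-- the kernel of a block is the line of the last vector -/
theorem Block.ker (h : Block σ u l) {y : U} (hy : σ y = 0) : ∃ c : k, y = c • (σ ^ (l - 1)) u := by
  have h1 := h.basis.sum_repr y
  simp only [h.basis_apply] at h1
  have h2 : ∀ i : Fin l, (i : ℕ) + 1 < l → h.basis.repr y i = 0 := by
    have h3 : ∑ i : Fin l, h.basis.repr y i • (σ ^ ((i : ℕ) + 1)) u = 0 := by
      have := congrArg σ h1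
      rw [hy, map_sum] at this
      rw [← this]
      refine Finset.sum_congr rfl (fun i _ => ?_)
      rw [map_smul, pow_succ', Module.End.mul_apply]
    -- use independence through the reindexed family
    have hli := h.li
    rw [Fintype.linearIndependent_iff] at hli
    have h4 : ∑ j : Fin l, (if hj : 0 < (j : ℕ) then h.basis.repr y ⟨j - 1, by omega⟩ else 0) •
        (σ ^ (j : ℕ)) u = 0 := by
      rw [← h3]
      obtain ⟨n, rfl⟩ : ∃ n, l = n + 1 := ⟨l - 1, by have := h.pos; omega⟩
      rw [Fin.sum_univ_succ, Fin.sum_univ_castSucc]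
      simp only [Fin.val_zero, lt_self_iff_false, ↓reduceDIte, zero_smul, zero_add, Fin.val_succ,
        Nat.zero_lt_succ, Fin.val_castSucc, Nat.add_sub_cancel, Fin.val_last]
      rw [h.pow_apply_eq_zero le_rfl, smul_zero, add_zero]
      rfl
    intro i hi
    have h5 := hli _ h4 ⟨i + 1, hi⟩
    simpa using h5
  refine ⟨h.basis.repr y ⟨l - 1, by have := h.pos; omega⟩, ?_⟩
  conv_lhs => rw [← h1]
  rw [Finset.sum_eq_single ⟨l - 1, by have := h.pos; omega⟩]
  · intro j _ hj
    rw [h2 j ?_, zero_smul]
    have : (j : ℕ) ≠ l - 1 := fun hh => hj (Fin.ext hh)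
    have := j.2
    omega
  · intro hh; exact absurd (Finset.mem_univ _) hh

/-- the lowering operator -/
noncomputable def Block.low (h : Block σ u l) : End k U :=
  h.basis.constr k (fun i : Fin l => (((i : ℕ) : k) * ((l : k) - ((i : ℕ) : k))) • (σ ^ ((i : ℕ) - 1)) u)

theorem Block.low_apply (h : Block σ u l) (i : ℕ) :
    h.low ((σ ^ i) u) = ((i : k) * ((l : k) - (i : k))) • (σ ^ (i - 1)) u := by
  rcases lt_trichotomy i l with hi | hi | hi
  · have h1 := h.basis_apply ⟨i, hi⟩
    simp only at h1
    rw [← h1, Block.low, Basis.constr_basis]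
  · subst hi
    rw [h.pow_eq, map_zero, sub_self, mul_zero, zero_smul]
  · rw [h.pow_apply_eq_zero hi.le, h.pow_apply_eq_zero (by omega), map_zero, smul_zero]

/-- `[σ, low] = H`. -/
noncomputable def Block.H (h : Block σ u l) : End k U := σ * h.low - h.low * σ

theorem Block.H_apply (h : Block σ u l) (i : ℕ) :
    h.H ((σ ^ i) u) = (2 * (i : k) + 1 - (l : k)) • (σ ^ i) u := by
  rw [Block.H, LinearMap.sub_apply, Module.End.mul_apply, Module.End.mul_apply, h.low_apply,
    ← Module.End.mul_apply σ, ← pow_succ', h.low_apply, map_smul, ← Module.End.mul_apply σ,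
    ← pow_succ', Nat.add_sub_cancel]
  rcases Nat.eq_zero_or_pos i with rfl | hi
  · simp only [Nat.cast_zero, zero_mul, zero_smul, zero_sub, Nat.cast_one, zero_add, one_mul,
      mul_zero, pow_zero, Module.End.one_apply]
    rw [← neg_smul]
    congr 1
    ring
  · rw [Nat.sub_add_cancel hi, ← sub_smul]
    congr 1
    push_cast
    ring

theorem Block.comm_H (h : Block σ u l) : σ * h.H - h.H * σ = (-2 : k) • σ := by
  apply h.ext
  intro i _
  rw [LinearMap.sub_apply, Module.End.mul_apply, Module.End.mul_apply, h.H_apply,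
    ← Module.End.mul_apply σ, ← pow_succ', h.H_apply, map_smul, ← Module.End.mul_apply σ,
    ← pow_succ', LinearMap.smul_apply, ← Module.End.mul_apply σ, ← pow_succ', ← sub_smul]
  congr 1
  push_cast
  ring

theorem Block.trace_eq (h : Block σ u l) (X : End k U) :
    LinearMap.trace k U X = ∑ i : Fin l, h.basis.repr (X ((σ ^ (i : ℕ)) u)) i := by
  rw [LinearMap.trace_eq_matrix_trace k h.basis, Matrix.trace]
  refine Finset.sum_congr rfl (fun i _ => ?_)
  rw [Matrix.diag_apply, LinearMap.toMatrix_apply, h.basis_apply]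

theorem Block.repr_pow (h : Block σ u l) (j : ℕ) (i : Fin l) :
    h.basis.repr ((σ ^ j) u) i = if j = i then 1 else 0 := by
  by_cases hj : j < l
  · have h1 := h.basis_apply ⟨j, hj⟩
    simp only at h1
    rw [← h1, Basis.repr_self, Finsupp.single_apply]
    simp only [Fin.ext_iff]
  · rw [h.pow_apply_eq_zero (by omega), map_zero, Finsupp.zero_apply, if_neg]
    intro hh
    exact hj (hh ▸ i.2)

/-- `tr (low σ ^ j) = 0` unless `j = 1` -/
theorem Block.trace_low_pow (h : Block σ u l) {j : ℕ} (hj : j ≠ 1) :
    LinearMap.trace k U (h.low * σ ^ j) = 0 := by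
  rw [h.trace_eq]
  apply Finset.sum_eq_zero
  intro i _
  rw [Module.End.mul_apply, ← Module.End.mul_apply (σ ^ j), ← pow_add, h.low_apply, map_smul,
    Finsupp.smul_apply, h.repr_pow]
  by_cases hz : j + (i : ℕ) = 0
  · rw [hz, Nat.cast_zero, zero_mul, zero_smul]
  · rw [if_neg (by omega), smul_zero]

theorem sum_closed (R : Type*) [CommRing R] (n : ℕ) (c : R) :
    6 * ∑ i ∈ range n, (((i : R) + 1) * (c - ((i : R) + 1))) =
      3 * c * n * (n + 1) - n * (n + 1) * (2 * n + 1) := by
  induction n with
  | zero => simp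
  | succ n ih =>
    rw [Finset.sum_range_succ, mul_add, ih]
    push_cast
    ring

theorem Block.trace_low (h : Block σ u l) :
    6 * LinearMap.trace k U (h.low * σ) = (l : k) * ((l : k) ^ 2 - 1) := by
  have h1 : LinearMap.trace k U (h.low * σ) =
      ∑ i ∈ range l, (((i : k) + 1) * ((l : k) - ((i : k) + 1))) := by
    rw [h.trace_eq, Finset.sum_range]
    refine Finset.sum_congr rfl (fun i _ => ?_)
    rw [Module.End.mul_apply, ← Module.End.mul_apply σ, ← pow_succ', h.low_apply, map_smul,
      Finsupp.smul_apply, h.repr_pow, if_pos (by omega), smul_eq_mul, mul_one]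
    push_cast
    ring
  rw [h1, sum_closed]
  ring

theorem trace_ad (σ a Y : End k U) :
    LinearMap.trace k U (a * (σ * Y - Y * σ)) = - LinearMap.trace k U ((σ * a - a * σ) * Y) := by
  rw [mul_sub, sub_mul, map_sub, map_sub]
  have h1 : LinearMap.trace k U (a * (Y * σ)) = LinearMap.trace k U (σ * a * Y) := by
    rw [← mul_assoc, LinearMap.trace_mul_comm, mul_assoc]
  rw [h1, ← mul_assoc]
  ring

end block

end Cfsg.Agent.H764.MC
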