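import Cfsg.Agent.H764.MCKey

set_option autoImplicit false
set_option linter.unusedSectionVars false

/-!
# The key lemma on simple modules with a single Jordan block, II
-/

namespace Cfsg.Agent.H764.MC

open Finset Module

section xi

variable {k M U : Type*} [Field k] [Group M] [AddCommGroup U] [Module k U] [FiniteDimensional k U]

/-- the adjoint action -/
def ad (σ : End k U) : End k (End k U) := LinearMap.mulLeft k σ - LinearMap.mulRight k σ

theorem ad_apply (σ Y : End k U) : ad σ Y = σ * Y - Y * σ := rfl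

theorem ad_mul_left {σ B : End k U} (hB : Commute σ B) (n : ℕ) (Y : End k U) :
    (ad σ ^ n) (B * Y) = B * (ad σ ^ n) Y := by
  induction n with
  | zero => rfl
  | succ n ih =>
    rw [pow_succ', Module.End.mul_apply, ih, ad_apply, Module.End.mul_apply, ad_apply]
    have : σ * (B * (ad σ ^ n) Y) = B * (σ * (ad σ ^ n) Y) := by
      rw [← mul_assoc, hB.eq, mul_assoc]
    rw [this, mul_sub]
    simp only [mul_assoc]

/-- the representation on `Hom (U, End U)` -/
noncomputable def R2 (ρ : Representation k M U) : Representation k M (U →ₗ[k] End k U) :=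
  Representation.linHom ρ (Representation.linHom ρ ρ)

theorem R2_apply (ρ : Representation k M U) (g : M) (h : U →ₗ[k] End k U) (w : U) :
    R2 ρ g h w = ρ g * h (ρ g⁻¹ w) * ρ g⁻¹ := by
  rw [R2, Representation.linHom_apply, LinearMap.comp_apply, LinearMap.comp_apply,
    Representation.linHom_apply]
  rfl

theorem xi_zero (ρ : Representation k M U) (s : M) : ∀ (n : ℕ) (c : End k U) (w : U) (a b : ℕ),
    a + b ≤ n + 1 → ((ad (ρ s - 1)) ^ a) c = 0 → ((ρ s - 1) ^ b) w = 0 →
    ∀ h : U →ₗ[k] End k U, LinearMap.trace k U (c * (((R2 ρ s - 1) ^ n) h w)) = 0 := by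
  have hA : ρ s⁻¹ * ρ s = 1 := by rw [← map_mul, inv_mul_cancel, map_one]
  have hA' : ρ s * ρ s⁻¹ = 1 := by rw [← map_mul, mul_inv_cancel, map_one]
  have hcomm : Commute (ρ s - 1) (ρ s⁻¹) := by
    change (ρ s - 1) * ρ s⁻¹ = ρ s⁻¹ * (ρ s - 1)
    rw [sub_mul, mul_sub, hA, hA', one_mul, mul_one]
  intro n
  induction n with
  | zero =>
    intro c w a b hab hc hw h
    rcases Nat.eq_zero_or_pos a with rfl | ha
    · have : c = 0 := hc
      rw [this, zero_mul, map_zero]
    · have : b = 0 := by omega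
      subst this
      have hw0 : w = 0 := hw
      rw [hw0, map_zero, mul_zero, map_zero]
  | succ n ih =>
    intro c w a b hab hc hw h
    rcases Nat.eq_zero_or_pos a with rfl | ha
    · have : c = 0 := hc
      rw [this, zero_mul, map_zero]
    rcases Nat.eq_zero_or_pos b with rfl | hb
    · have hw0 : w = 0 := hw
      rw [hw0, map_zero, mul_zero, map_zero]
    set h' := ((R2 ρ s - 1) ^ n) h with hh'
    rw [pow_succ', Module.End.mul_apply, ← hh', LinearMap.sub_apply, Module.End.one_apply,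
      LinearMap.sub_apply, R2_apply]
    set w' := ρ s⁻¹ w with hw'
    set c' := ρ s⁻¹ * c * ρ s with hc'
    have e1 : LinearMap.trace k U (c * (ρ s * h' w' * ρ s⁻¹)) =
        LinearMap.trace k U (c' * h' w') := by
      rw [← mul_assoc, LinearMap.trace_mul_comm, ← mul_assoc, ← mul_assoc, hc']
    have e2 : c * (ρ s * h' w' * ρ s⁻¹ - h' w) =
        c * (ρ s * h' w' * ρ s⁻¹) - c * h' w := mul_sub _ _ _
    rw [e2, map_sub, e1]
    have e3 : c' * h' w' = (c' - c) * h' w' + c * h' w' := by rw [sub_mul]; abel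
    have e4 : c * h' w' = c * h' (w' - w) + c * h' w := by
      rw [map_sub, mul_sub]; abel
    rw [e3, e4, map_add, map_add]
    have e5 : LinearMap.trace k U ((c' - c) * h' w') = 0 := by
      apply ih (c' - c) w' (a - 1) b (by omega)
      · have e6 : c' - c = (-(ρ s⁻¹)) * (ad (ρ s - 1) c) := by
          rw [hc', ad_apply]
          have : (-(ρ s⁻¹)) * ((ρ s - 1) * c - c * (ρ s - 1)) =
              ρ s⁻¹ * c * ρ s - ρ s⁻¹ * ρ s * c := by noncomm_ring
          rw [this, hA, one_mul]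
        rw [e6, ad_mul_left (hcomm.neg_right), ← Module.End.mul_apply, ← pow_succ,
          Nat.sub_add_cancel ha, hc, mul_zero]
      · rw [hw', ← Module.End.mul_apply, (hcomm.pow_left b).eq, Module.End.mul_apply, hw, map_zero]
    have e7 : LinearMap.trace k U (c * h' (w' - w)) = 0 := by
      apply ih c (w' - w) a (b - 1) (by omega) hc
      have e8 : w' - w = (-(ρ s⁻¹)) ((ρ s - 1) w) := by
        rw [LinearMap.neg_apply, LinearMap.sub_apply, map_sub, ← Module.End.mul_apply, hA, hw']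
        simp
      have e9 : ((ρ s - 1) ^ (b - 1)) ((ρ s - 1) w) = 0 := by
        rw [← Module.End.mul_apply, ← pow_succ, Nat.sub_add_cancel hb, hw]
      rw [e8, ← Module.End.mul_apply, ((hcomm.neg_right).pow_left (b - 1)).eq,
        Module.End.mul_apply, e9, map_zero]
    rw [e5, e7]
    ring

end xi

section key

variable {M U : Type*} {p : ℕ} [hp : Fact p.Prime] [Group M] [Finite M] [AddCommGroup U]
  [Module (ZMod p) U] [FiniteDimensional (ZMod p) U]

/-- The situation: `A` unipotent, `T A T⁻¹ = A ^ m` with `m` a primitive root. -/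
structure Sit (ρ : Representation (ZMod p) M U) (s t : M) (m : ℕ) : Prop where
  conj : ρ t * ρ s * ρ t⁻¹ = ρ s ^ m
  prim : ∀ j, 0 < j → j < p - 1 → ((m : ℕ) : ZMod p) ^ j ≠ 1
  ne : ((m : ℕ) : ZMod p) ≠ 0
  pow : ρ s ^ p = 1

variable {ρ : Representation (ZMod p) M U} {s t : M} {m : ℕ}

theorem inv_mul_rho (ρ : Representation (ZMod p) M U) (g : M) : ρ g⁻¹ * ρ g = 1 := by
  rw [← map_mul, inv_mul_cancel, map_one]

theorem mul_inv_rho (ρ : Representation (ZMod p) M U) (g : M) : ρ g * ρ g⁻¹ = 1 := by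
  rw [← map_mul, mul_inv_cancel, map_one]

theorem Sit.conj_pow (h : Sit ρ s t m) (n : ℕ) : ρ t * ρ s ^ n * ρ t⁻¹ = ρ s ^ (m * n) := by
  induction n with
  | zero => rw [pow_zero, mul_one, mul_inv_rho, mul_zero, pow_zero]
  | succ n ih =>
    have : ρ t * ρ s ^ (n + 1) * ρ t⁻¹ = (ρ t * ρ s ^ n * ρ t⁻¹) * (ρ t * ρ s * ρ t⁻¹) := by
      rw [pow_succ]
      have h1 := inv_mul_rho ρ t
      calc ρ t * (ρ s ^ n * ρ s) * ρ t⁻¹ = ρ t * ρ s ^ n * 1 * (ρ s * ρ t⁻¹) := by
            simp only [mul_assoc, one_mul]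
        _ = ρ t * ρ s ^ n * (ρ t⁻¹ * ρ t) * (ρ s * ρ t⁻¹) := by rw [h1]
        _ = _ := by simp only [mul_assoc]
    rw [this, ih, h.conj, ← pow_add, mul_add, mul_one]

/-- the element of weight one -/
noncomputable def eOp (ρ : Representation (ZMod p) M U) (s : M) : End (ZMod p) U :=
  -∑ b : (ZMod p)ˣ, ((b⁻¹ : (ZMod p)ˣ) : ZMod p) • ρ s ^ ((b : ZMod p).val)

theorem Sit.pow_mod (h : Sit ρ s t m) {a b : ℕ} (hab : (a : ZMod p) = (b : ZMod p)) :
    ρ s ^ a = ρ s ^ b := by
  rw [ZMod.natCast_eq_natCast_iff'] at hab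
  rw [pow_eq_pow_mod a h.pow, pow_eq_pow_mod b h.pow, hab]

theorem Sit.conj_eOp (h : Sit ρ s t m) : ρ t * eOp ρ s * ρ t⁻¹ = ((m : ℕ) : ZMod p) • eOp ρ s := by
  rw [eOp, mul_neg, neg_mul, smul_neg, Finset.mul_sum, Finset.sum_mul, Finset.smul_sum]
  congr 1
  set a : (ZMod p)ˣ := Units.mk0 _ h.ne with ha
  conv_rhs => rw [← Equiv.sum_comp (Equiv.mulLeft a)]
  refine Finset.sum_congr rfl (fun b _ => ?_)
  rw [Algebra.mul_smul_comm, Algebra.smul_mul_assoc, h.conj_pow, smul_smul]
  have e1 : (m : ZMod p) * (((Equiv.mulLeft a) b)⁻¹ : (ZMod p)ˣ) = ((b⁻¹ : (ZMod p)ˣ) : ZMod p) := by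
    rw [Equiv.coe_mulLeft, mul_inv, Units.val_mul]
    have : (m : ZMod p) = (a : ZMod p) := rfl
    rw [this, ← mul_assoc, ← Units.val_mul, mul_inv_cancel, Units.val_one, one_mul]
  rw [e1]
  congr 1
  apply h.pow_mod
  rw [Equiv.coe_mulLeft, Units.val_mul]
  push_cast
  rw [ZMod.natCast_val, ZMod.cast_id', id_eq, ZMod.natCast_val, ZMod.cast_id', id_eq]
  rfl

theorem commute_eOp (ρ : Representation (ZMod p) M U) (s : M) : Commute (ρ s) (eOp ρ s) := by
  rw [eOp]
  apply Commute.neg_right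
  apply Commute.sum_right
  intro b _
  exact ((Commute.refl (ρ s)).pow_right _).smul_right _

theorem Block.trace_low_add_pow {k U : Type*} [Field k] [AddCommGroup U] [Module k U]
    [FiniteDimensional k U] {σ : End k U} {u : U} {l : ℕ} (h : Block σ u l) (n : ℕ) :
    LinearMap.trace k U (h.low * (σ + 1) ^ n) = (n : k) * LinearMap.trace k U (h.low * σ) := by
  rw [(Commute.one_right σ).add_pow n, Finset.mul_sum, map_sum]
  have h1 : ∀ j ∈ range (n + 1), LinearMap.trace k U
      (h.low * (σ ^ j * 1 ^ (n - j) * (n.choose j : End k U))) =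
      if j = 1 then (n : k) * LinearMap.trace k U (h.low * σ) else 0 := by
    intro j _
    have e1 : h.low * (σ ^ j * 1 ^ (n - j) * (n.choose j : End k U)) =
        (n.choose j : k) • (h.low * σ ^ j) := by
      rw [one_pow, mul_one, ← nsmul_eq_mul', mul_smul_comm, Nat.cast_smul_eq_nsmul]
    rw [e1, map_smul]
    split_ifs with hj
    · subst hj
      rw [Nat.choose_one_right, pow_one, smul_eq_mul]
    · rw [h.trace_low_pow hj, smul_zero]
  rw [Finset.sum_congr rfl h1]
  rw [Finset.sum_ite_eq' (range (n + 1)) 1]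
  split_ifs with h2
  · rfl
  · have : n = 0 := by
      rw [Finset.mem_range] at h2; omega
    rw [this, Nat.cast_zero, zero_mul]

theorem trace_low_eOp {u : U} {l : ℕ} (h : Block (ρ s - 1) u l) :
    LinearMap.trace (ZMod p) U (h.low * eOp ρ s) = LinearMap.trace (ZMod p) U (h.low * (ρ s - 1)) := by
  rw [eOp, mul_neg, Finset.mul_sum, map_neg, map_sum]
  have h1 : ∀ b : (ZMod p)ˣ, LinearMap.trace (ZMod p) U
      (h.low * (((b⁻¹ : (ZMod p)ˣ) : ZMod p) • ρ s ^ ((b : ZMod p).val))) =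
      LinearMap.trace (ZMod p) U (h.low * (ρ s - 1)) := by
    intro b
    rw [mul_smul_comm, map_smul]
    have e1 : ρ s = (ρ s - 1) + 1 := (sub_add_cancel _ _).symm
    have e2 := h.trace_low_add_pow ((b : ZMod p).val)
    rw [← e1] at e2
    rw [e2, ZMod.natCast_val, ZMod.cast_id', id_eq, smul_eq_mul, ← mul_assoc, ← Units.val_mul,
      inv_mul_cancel, Units.val_one, one_mul]
  simp_rw [h1]
  rw [Finset.sum_const, Finset.card_univ, ZMod.card_units, nsmul_eq_mul]
  have : ((p - 1 : ℕ) : ZMod p) = -1 := by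
    rw [Nat.cast_sub hp.out.one_le, ZMod.natCast_self]
    simp
  rw [this]
  ring

theorem trace_low_ne {u : U} {l : ℕ} (h : Block (ρ s - 1) u l) (hl2 : 2 ≤ l) (hl : l + 3 ≤ p) :
    LinearMap.trace (ZMod p) U (h.low * (ρ s - 1)) ≠ 0 := by
  intro h0
  have h1 := h.trace_low
  rw [h0, mul_zero] at h1
  have h2 : ((l * ((l - 1) * (l + 1)) : ℕ) : ZMod p) = 0 := by
    push_cast
    rw [Nat.cast_sub (by omega)]
    rw [Nat.cast_one]
    linear_combination -h1
  rw [ZMod.natCast_eq_zero_iff] at h2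
  rcases hp.out.dvd_mul.1 h2 with h3 | h3
  · have := Nat.le_of_dvd (by omega) h3
    omega
  · rcases hp.out.dvd_mul.1 h3 with h4 | h4
    · have := Nat.le_of_dvd (by omega) h4
      omega
    · have := Nat.le_of_dvd (by omega) h4
      omega

theorem Sit.sub_mul (h : Sit ρ s t m) : ∃ g : End (ZMod p) U, Commute g (ρ s) ∧
    ρ t * (ρ s - 1) = (ρ s - 1) * g * ρ t ∧ ∀ y, ρ s y = y → g y = (m : ZMod p) • y := by
  refine ⟨∑ i ∈ range m, ρ s ^ i, ?_, ?_, ?_⟩
  · exact (Commute.sum_right _ _ _ (fun i _ => (Commute.refl (ρ s)).pow_right i)).symm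
  · rw [mul_geom_sum, ← h.conj, mul_sub, _root_.sub_mul]
    have : ρ t * ρ s * ρ t⁻¹ * ρ t = ρ t * ρ s := by
      rw [mul_assoc, inv_mul_rho, mul_one]
    rw [this, mul_one, one_mul]
  · intro y hy
    rw [LinearMap.sum_apply]
    have : ∀ i : ℕ, (ρ s ^ i) y = y := by
      intro i
      induction i with
      | zero => rfl
      | succ i ih => rw [pow_succ', Module.End.mul_apply, ih, hy]
    simp_rw [this]
    rw [Finset.sum_const, Finset.card_range, Nat.cast_smul_eq_nsmul]

end key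

end Cfsg.Agent.H764.MC
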