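import Cfsg.Agent.H764.MCKey2

set_option autoImplicit false
set_option linter.unusedSectionVars false

/-!
# The key lemma on simple modules with a single Jordan block, III
-/

namespace Cfsg.Agent.H764.MC

open Finset Module

variable {M U : Type*} {p : ℕ} [hp : Fact p.Prime] [Group M] [Finite M] [AddCommGroup U]
  [Module (ZMod p) U] [FiniteDimensional (ZMod p) U]

variable {ρ : Representation (ZMod p) M U} {s t : M} {m : ℕ}

theorem commute_sub_one {E : Type*} [Ring E] {A B : E} (h : Commute A B) : Commute (A - 1) B :=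
  h.sub_left (Commute.one_left B)

theorem Sit.pow_conj (h : Sit ρ s t m) : ∃ g : End (ZMod p) U, Commute g (ρ s) ∧
    (∀ j : ℕ, ρ t * (ρ s - 1) ^ j = (ρ s - 1) ^ j * g ^ j * ρ t) ∧
    ∀ (j : ℕ) (y : U), ρ s y = y → (g ^ j) y = (m : ZMod p) ^ j • y := by
  obtain ⟨g, h1, h2, h3⟩ := h.sub_mul
  refine ⟨g, h1, ?_, ?_⟩
  · intro j
    induction j with
    | zero => simp
    | succ j ih =>
      have hc : Commute (g ^ j) (ρ s - 1) := ((commute_sub_one h1.symm).symm).pow_left j
      rw [pow_succ, ← mul_assoc, ih, mul_assoc, h2, pow_succ]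
      calc (ρ s - 1) ^ j * g ^ j * ((ρ s - 1) * g * ρ t)
          = (ρ s - 1) ^ j * (g ^ j * (ρ s - 1)) * g * ρ t := by simp only [mul_assoc]
        _ = (ρ s - 1) ^ j * ((ρ s - 1) * g ^ j) * g * ρ t := by rw [hc.eq]
        _ = _ := by simp only [mul_assoc]
  · intro j y hy
    induction j with
    | zero => simp
    | succ j ih =>
      rw [pow_succ, Module.End.mul_apply, h3 y hy, map_smul, ih, smul_smul, pow_succ, mul_comm]

theorem Sit.eigen (h : Sit ρ s t m) {u : U}
    (hu : ∃ u', ρ t u = (m : ZMod p) • u + (ρ s - 1) u') (Y : End (ZMod p) U)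
    (hY : Commute Y (ρ s)) (d : ZMod p) (hd : ρ t * Y = d • (Y * ρ t)) (j : ℕ)
    (hj : (ρ s - 1) ^ (j + 1) * Y = 0) :
    ρ t (((ρ s - 1) ^ j * Y) u) = (d * (m : ZMod p) ^ (j + 1)) • ((ρ s - 1) ^ j * Y) u := by
  obtain ⟨u', hu'⟩ := hu
  obtain ⟨g, h1, h2, h3⟩ := h.pow_conj
  set σ := ρ s - 1 with hσ
  have hYσ : Commute Y σ := (commute_sub_one hY.symm).symm
  have hgσ : Commute g σ := (commute_sub_one h1.symm).symm
  have e0 : σ ^ j * g ^ j = g ^ j * σ ^ j := ((hgσ.pow_pow j j).eq).symm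
  have e1 : ρ t (((σ ^ j) * Y) u) = d • (g ^ j) ((σ ^ j * Y) (ρ t u)) := by
    rw [← Module.End.mul_apply (ρ t), ← mul_assoc, h2, mul_assoc, hd, mul_smul_comm,
      LinearMap.smul_apply, e0, mul_assoc, ← mul_assoc (σ ^ j), Module.End.mul_apply,
      Module.End.mul_apply (σ ^ j * Y)]
  have e2 : (σ ^ j * Y) (σ u') = 0 := by
    have : σ ^ j * Y * σ = σ ^ (j + 1) * Y := by
      rw [mul_assoc, hYσ.eq, ← mul_assoc, ← pow_succ]
    rw [← Module.End.mul_apply, this, hj, LinearMap.zero_apply]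
  have e3 : ρ s ((σ ^ j * Y) u) = (σ ^ j * Y) u := by
    have : σ ((σ ^ j * Y) u) = 0 := by
      rw [← Module.End.mul_apply, ← mul_assoc, ← pow_succ', hj, LinearMap.zero_apply]
    rw [hσ, LinearMap.sub_apply, Module.End.one_apply, sub_eq_zero] at this
    exact this
  rw [e1, hu', map_add, e2, add_zero, map_smul, map_smul, h3 j _ e3, smul_smul, smul_smul]
  congr 1
  rw [pow_succ]
  ring

theorem ad_cube {u : U} {l : ℕ} (hb : Block (ρ s - 1) u l) : ((ad (ρ s - 1)) ^ 3) hb.low = 0 := by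
  rw [pow_succ', pow_succ', pow_succ', pow_zero, mul_one, Module.End.mul_apply,
    Module.End.mul_apply, ad_apply _ hb.low]
  change ad _ (ad _ hb.H) = 0
  rw [ad_apply _ hb.H, hb.comm_H, map_smul, ad_apply, sub_self, smul_zero]

/-- **Key lemma.** A simple module on which `s` acts as a single block of size `2 ≤ l ≤ p - 3`
cannot have top weight one. -/
theorem key (h : Sit ρ s t m) (N : Subgroup M) (hsN : s ∈ N)
    (hsp : ∀ g : M, g⁻¹ * s ^ p * g ∈ N) (hN : ∀ g : M, g⁻¹ * s * g ∈ N → g ∈ N)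
    (hgen : ∀ n ∈ N, ∃ i j : ℕ, ρ n = ρ s ^ i * ρ t ^ j)
    {u : U} {l : ℕ} (hb : Block (ρ s - 1) u l) (hl2 : 2 ≤ l) (hl : l + 3 ≤ p)
    (hu : ∃ u', ρ t u = (m : ZMod p) • u + (ρ s - 1) u')
    (simple : ∀ L : Submodule (ZMod p) U, (∀ g, ∀ x ∈ L, ρ g x ∈ L) → L = ⊥ ∨ L = ⊤) : False := by
  classical
  set σ := ρ s - 1 with hσ
  have hρs : ρ s = σ + 1 := (sub_add_cancel _ _).symm
  have hb0 : 0 < l := by omega
  set lam : U →ₗ[ZMod p] ZMod p := hb.basis.coord ⟨0, hb0⟩ with hlam
  have hlam_pow : ∀ i : ℕ, lam ((σ ^ i) u) = if i = 0 then 1 else 0 := by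
    intro i
    rw [hlam, Basis.coord_apply, hb.repr_pow]
  have hlamσ : ∀ y, lam (σ y) = 0 := by
    intro y
    have : lam ∘ₗ σ = 0 := by
      apply hb.ext
      intro i _
      rw [LinearMap.comp_apply, ← Module.End.mul_apply σ, ← pow_succ', hlam_pow,
        if_neg (Nat.succ_ne_zero i), LinearMap.zero_apply]
    exact congrArg (fun f => f y) this
  have hlamu : lam u = 1 := by simpa using hlam_pow 0
  have hlams : ∀ y, lam (ρ s y) = lam y := by
    intro y
    rw [hρs, LinearMap.add_apply, map_add, hlamσ, zero_add, Module.End.one_apply]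
  obtain ⟨g, -, hg2, -⟩ := h.sub_mul
  have hlamt : ∀ y, lam (ρ t y) = (m : ZMod p) * lam y := by
    intro y
    have : lam ∘ₗ ρ t = (m : ZMod p) • lam := by
      apply hb.ext
      intro i _
      rw [LinearMap.comp_apply, LinearMap.smul_apply]
      rcases Nat.eq_zero_or_pos i with rfl | hi
      · obtain ⟨u', hu'⟩ := hu
        rw [pow_zero, Module.End.one_apply, hu', map_add, map_smul, hlamσ, add_zero]
      · obtain ⟨i, rfl⟩ : ∃ j, i = j + 1 := ⟨i - 1, by omega⟩
        rw [hlam_pow, if_neg (Nat.succ_ne_zero i), smul_zero, pow_succ', Module.End.mul_apply,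
          ← Module.End.mul_apply (ρ t), hσ, hg2, ← hσ, mul_assoc, Module.End.mul_apply, hlamσ]
    exact congrArg (fun f => f y) this
  have hsi : ∀ y, ρ s (ρ s⁻¹ y) = y := fun y => by
    rw [← Module.End.mul_apply, mul_inv_rho, Module.End.one_apply]
  have hti : ∀ y, ρ t (ρ t⁻¹ y) = y := fun y => by
    rw [← Module.End.mul_apply, mul_inv_rho, Module.End.one_apply]
  have hlams' : ∀ y, lam (ρ s⁻¹ y) = lam y := by
    intro y
    rw [← hlams (ρ s⁻¹ y), hsi]
  have hlamt' : ∀ y, lam (ρ t⁻¹ y) = (m : ZMod p)⁻¹ * lam y := by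
    intro y
    have := hlamt (ρ t⁻¹ y)
    rw [hti] at this
    rw [this, ← mul_assoc, inv_mul_cancel₀ h.ne, one_mul]
  set e := eOp ρ s with he
  set v : U →ₗ[ZMod p] End (ZMod p) U := lam.smulRight e with hv
  have hvs : R2 ρ s v = v := by
    apply LinearMap.ext
    intro w
    rw [R2_apply, hv, LinearMap.smulRight_apply, LinearMap.smulRight_apply, hlams',
      Algebra.mul_smul_comm, Algebra.smul_mul_assoc, he, (commute_eOp ρ s).eq, mul_assoc,
      mul_inv_rho, mul_one]
  have hvt : R2 ρ t v = v := by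
    apply LinearMap.ext
    intro w
    rw [R2_apply, hv, LinearMap.smulRight_apply, LinearMap.smulRight_apply, hlamt',
      Algebra.mul_smul_comm, Algebra.smul_mul_assoc, he, h.conj_eOp, smul_smul]
    congr 1
    field_simp [h.ne]
  have hpow : ∀ (x : M), R2 ρ x v = v → ∀ i : ℕ, R2 ρ (x ^ i) v = v := by
    intro x hx i
    induction i with
    | zero => rw [pow_zero, map_one, Module.End.one_apply]
    | succ i ih => rw [pow_succ, map_mul, Module.End.mul_apply, hx, ih]
  have hvN : ∀ n ∈ N, R2 ρ n v = v := by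
    intro n hn
    obtain ⟨i, j, hij⟩ := hgen n hn
    have e1 : ρ n = ρ (s ^ i * t ^ j) := by rw [hij, map_mul, map_pow, map_pow]
    have e2 : ρ n⁻¹ = ρ (s ^ i * t ^ j)⁻¹ := by
      calc ρ n⁻¹ = ρ n⁻¹ * (ρ (s ^ i * t ^ j) * ρ (s ^ i * t ^ j)⁻¹) := by
            rw [mul_inv_rho, mul_one]
        _ = (ρ n⁻¹ * ρ n) * ρ (s ^ i * t ^ j)⁻¹ := by rw [← e1, mul_assoc]
        _ = _ := by rw [inv_mul_rho, one_mul]
    have e3 : R2 ρ n v = R2 ρ (s ^ i * t ^ j) v := by
      apply LinearMap.ext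
      intro w
      rw [R2_apply, R2_apply, e1, e2]
    rw [e3, map_mul, Module.End.mul_apply, hpow t hvt, hpow s hvs]
  obtain ⟨F, h0, hF1, hF2⟩ := trace_lemma (p := p) (R2 ρ) N s hsN hsp hN v hvN
  rw [sum_rho_eq] at hF2
  -- equivariance of `F`
  have hFeq : ∀ (x : M) (w : U), F (ρ x w) = ρ x * F w * ρ x⁻¹ := by
    intro x w
    have := LinearMap.congr_fun (hF1 x) (ρ x w)
    rw [R2_apply, ← Module.End.mul_apply, inv_mul_rho, Module.End.one_apply] at this
    exact this.symm
  -- `F = 0`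
  have hσl : σ ^ l = 0 := hb.pow_eq_zero
  set w0 := (σ ^ (l - 1)) u with hw0
  have hw0s : ρ s w0 = w0 := by
    have : σ w0 = 0 := by
      rw [hw0, ← Module.End.mul_apply, ← pow_succ', Nat.sub_add_cancel (by omega), hσl,
        LinearMap.zero_apply]
    rw [hρs, LinearMap.add_apply, this, zero_add, Module.End.one_apply]
  have hw0t : ρ t w0 = ((m : ZMod p) ^ l) • w0 := by
    have := h.eigen hu 1 (Commute.one_left _) 1 (by rw [mul_one, one_mul, one_smul]) (l - 1)
      (by rw [Nat.sub_add_cancel (by omega), ← hσ, hσl, zero_mul])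
    rw [mul_one, one_mul, Nat.sub_add_cancel (by omega)] at this
    exact this
  set X := F w0 with hX
  have hXs : Commute X (ρ s) := by
    have h1 := hFeq s w0
    rw [hw0s, ← hX] at h1
    have h2 : X * ρ s = ρ s * X := by
      conv_lhs => rw [h1]
      rw [mul_assoc, inv_mul_rho, mul_one]
    exact h2
  have hXt : ρ t * X = ((m : ZMod p) ^ l) • (X * ρ t) := by
    have h1 := hFeq t w0
    rw [hw0t, map_smul, ← hX] at h1
    rw [← smul_mul_assoc, h1, mul_assoc, inv_mul_rho, mul_one]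
  have hX0 : X = 0 := by
    by_contra hne
    have hXσ : Commute X σ := (commute_sub_one hXs.symm).symm
    have hex : ∃ j : ℕ, (σ ^ j * X) u = 0 := ⟨l, by rw [hσl, zero_mul, LinearMap.zero_apply]⟩
    have hzero : ∀ j : ℕ, (σ ^ j * X) u = 0 → σ ^ j * X = 0 := by
      intro j hj
      apply hb.ext
      intro i _
      have : σ ^ j * X * σ ^ i = σ ^ i * (σ ^ j * X) := by
        rw [mul_assoc, (hXσ.pow_right i).eq, ← mul_assoc, ← pow_add, add_comm, pow_add, mul_assoc]
      rw [← Module.End.mul_apply, this, Module.End.mul_apply, hj, map_zero, LinearMap.zero_apply]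
    set j0 := Nat.find hex with hj0
    have hj0pos : 0 < j0 := by
      rw [Nat.pos_iff_ne_zero]
      intro hz
      have h1 := Nat.find_spec hex
      rw [← hj0, hz] at h1
      apply hne
      have h2 := hzero 0 h1
      rwa [pow_zero, one_mul] at h2
    have hj0le : j0 ≤ l := Nat.find_min' hex (by rw [hσl, zero_mul, LinearMap.zero_apply])
    obtain ⟨j, hj⟩ : ∃ j, j0 = j + 1 := ⟨j0 - 1, by omega⟩
    have hy1 : σ ^ (j + 1) * X = 0 := by
      rw [← hj]
      exact hzero _ (Nat.find_spec hex)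
    have hy2 : (σ ^ j * X) u ≠ 0 := Nat.find_min hex (by omega)
    have hy3 := h.eigen hu X hXs _ hXt j hy1
    rw [← hσ] at hy3
    have hy4 : σ ((σ ^ j * X) u) = 0 := by
      rw [← Module.End.mul_apply, ← mul_assoc, ← pow_succ', hy1, LinearMap.zero_apply]
    obtain ⟨c, hc⟩ := hb.ker hy4
    rw [← hw0] at hc
    have hy5 : ρ t ((σ ^ j * X) u) = ((m : ZMod p) ^ l) • (σ ^ j * X) u := by
      rw [hc, map_smul, hw0t, smul_comm]
    rw [hy5] at hy3
    have hy6 : (m : ZMod p) ^ l = (m : ZMod p) ^ l * (m : ZMod p) ^ (j + 1) := by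
      by_contra hcon
      apply hy2
      have : ((m : ZMod p) ^ l - (m : ZMod p) ^ l * (m : ZMod p) ^ (j + 1)) • (σ ^ j * X) u = 0 := by
        rw [sub_smul, sub_eq_zero]
        exact hy3
      exact (smul_eq_zero.1 this).resolve_left (sub_ne_zero.2 hcon)
    have hy7 : (m : ZMod p) ^ (j + 1) = 1 := by
      have h1 : (m : ZMod p) ^ l ≠ 0 := pow_ne_zero _ h.ne
      apply mul_left_cancel₀ h1
      rw [mul_one]
      exact hy6.symm
    exact h.prim (j + 1) (by omega) (by omega) hy7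
  have hF0 : F = 0 := by
    have hker := simple (LinearMap.ker F) (by
      intro x y hy
      rw [LinearMap.mem_ker] at hy ⊢
      rw [hFeq, hy, mul_zero, zero_mul])
    rcases hker with hk | hk
    · exfalso
      have : w0 ∈ LinearMap.ker F := by rw [LinearMap.mem_ker, ← hX, hX0]
      rw [hk, Submodule.mem_bot] at this
      exact hb.pow_ne this
    · exact LinearMap.ker_eq_top.1 hk
  -- contradiction
  have hfin := xi_zero ρ s (p - 1) hb.low u 3 l (by omega) (ad_cube hb) hb.pow_eq h0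
  have h1 : ((R2 ρ s - 1) ^ (p - 1)) h0 = -v := by
    rw [hF0] at hF2
    exact (neg_eq_of_add_eq_zero_right hF2.symm).symm
  rw [h1, LinearMap.neg_apply, hv, LinearMap.smulRight_apply, hlamu, one_smul, mul_neg, map_neg,
    neg_eq_zero, he, trace_low_eOp hb] at hfin
  exact trace_low_ne hb hl2 hl hfin

end Cfsg.Agent.H764.MC
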