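import Cfsg.Agent.H764.MCFus
import Cfsg.Agent.H750.MC.Final
import Cfsg.Agent.H797.MaxOmega

set_option autoImplicit false
set_option linter.unusedSectionVars false

/-!
# `Aut_F(Γ₁)` acts trivially on `Γ₁ / [S, S]`
-/

namespace Cfsg.Agent.H764.MC

open Cfsg Cfsg.FusionSystem Cfsg.Agent.H802 Cfsg.Agent.H766 Cfsg.Agent.H467.MaxClass
open Cfsg.Agent.H797.MaxOmega
open scoped commutatorElement

variable {Ω : Type*} [Group Ω] {S : Subgroup Ω}

section

variable {p n : ℕ} [hp : Fact p.Prime] [Finite S]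

/-- If there is an abelian pearl and `Γ₁` is essential then `Aut_F(Γ₁)` acts trivially on
`Γ₁ / [S, S]`. -/
theorem gamma_triv (hp3 : 3 ≤ p) (hS : IsPGroup p S) {F : FusionSystem S} (hF : F.IsSaturated p)
    (h : MC S p n (chain S)) (hcard : Nat.card S = p ^ n) (hK : h.Ksub (n - 2) = chain S 1)
    (hna : ∃ a ∈ chain S 1, ∃ b ∈ chain S 1, a * b ≠ b * a) {E : Subgroup Ω} (hE : IsPearl F p E)
    (hE2 : Nat.card E = p ^ 2) (hess : F.IsEssential p (V (chain S) 1)) :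
    ∀ α ∈ F.autGroup (V (chain S) 1), ∀ x : V (chain S) 1,
      ((α x * x⁻¹ : V (chain S) 1) : Ω) ∈ V (chain S) 2 := by
  have hPS : V (chain S) 1 ≤ S := V_le 1
  have hfP : Finite (V (chain S) 1) := finite_of_le hPS
  obtain ⟨m, s, t, N, hC⟩ := exists_chain hp3 hS hF h hcard hK hna hE hE2 hPS
    (fun x => ⟨fun hx => by
      obtain ⟨h1, h2⟩ := mem_V.1 hx
      exact h2, fun hx => ⟨x, hx, rfl⟩⟩) hess
  have hna' : ∃ x y : V (chain S) 1, x * y ≠ y * x := by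
    obtain ⟨a, ha, b, hb, hab⟩ := hna
    refine ⟨⟨a, ⟨a, ha, rfl⟩⟩, ⟨b, ⟨b, hb, rfl⟩⟩, fun hcon => hab ?_⟩
    exact Subtype.ext (congrArg (fun z : V (chain S) 1 => (z : Ω)) hcon)
  rcases hC.dichotomy hp3 hna' with h1 | ⟨hd, hp5, hpos⟩
  · intro α hα x
    have h2 := h1 ⟨α, hα⟩ x
    exact ⟨_, h2, rfl⟩
  · exact (Cfsg.Agent.H750.MC.step_comm hC hp5 hd hpos hna').elim

end

end Cfsg.Agent.H764.MC
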