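import Cfsg.Agent.H764.MCStep

set_option autoImplicit false
set_option linter.unusedSectionVars false

/-!
# The module of a chief factor
-/

namespace Cfsg.Agent.H764.MC

open Module

universe u v

variable {X : Type u} {M : Type v} [Group X] [Finite X] [Group M] [MulDistribMulAction M X]
  {p n m : ℕ} [hp : Fact p.Prime] {V : ℕ → Subgroup X} {s t : M} {N : Subgroup M}

/-- the module of the chief factor `V i / V j` -/
structure Fac (M : Type v) [Group M] [MulDistribMulAction M X] (V : ℕ → Subgroup X) (i j : ℕ)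
    (hi : Inv M V i) (U : Type u) [AddCommGroup U] [Module (ZMod p) U]
    (ρ : Representation (ZMod p) M U) (π : V i → U) : Prop where
  add : ∀ a b, π (a * b) = π a + π b
  surj : Function.Surjective π
  ker : ∀ a : V i, π a = 0 ↔ (a : X) ∈ V j
  equiv : ∀ (g : M) (a : V i), π ⟨g • (a : X), hi g a a.2⟩ = ρ g (π a)

namespace Fac

variable {i j : ℕ} {hi : Inv M V i} {U : Type u} [AddCommGroup U] [Module (ZMod p) U]
  {ρ : Representation (ZMod p) M U} {π : V i → U}

theorem one (f : Fac (p := p) M V i j hi U ρ π) : π 1 = 0 := by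
  have := f.add 1 1
  rw [mul_one] at this
  simpa using this

theorem inv' (f : Fac (p := p) M V i j hi U ρ π) (a : V i) : π a⁻¹ = - π a := by
  have := f.add a a⁻¹
  rw [mul_inv_cancel, f.one] at this
  exact (neg_eq_of_add_eq_zero_right this.symm).symm

theorem pow (f : Fac (p := p) M V i j hi U ρ π) (a : V i) (r : ℕ) :
    π (a ^ r) = (r : ZMod p) • π a := by
  induction r with
  | zero => simp [f.one]
  | succ r ih => rw [pow_succ, f.add, ih]; push_cast; rw [add_smul, one_smul]

theorem diff (f : Fac (p := p) M V i j hi U ρ π) (s : M) (a : V i) :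
    (ρ s - 1) (π a) = π ⟨Chain.D s (a : X), (V i).mul_mem (hi s a a.2) ((V i).inv_mem a.2)⟩ := by
  have h1 : (⟨Chain.D s (a : X), (V i).mul_mem (hi s a a.2) ((V i).inv_mem a.2)⟩ : V i) =
      ⟨s • (a : X), hi s a a.2⟩ * a⁻¹ := Subtype.ext rfl
  rw [h1, f.add, f.inv', f.equiv, LinearMap.sub_apply, Module.End.one_apply, sub_eq_add_neg]

theorem diff_iter (f : Fac (p := p) M V i j hi U ρ π) (h : Chain p n m V s t N) (h1 : 1 ≤ i)
    (a : V i) (k : ℕ) :
    ((ρ s - 1) ^ k) (π a) = π ⟨(Chain.D s)^[k] (a : X),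
      h.antitone (Nat.le_add_right i k) (h.D_iter_mem h1 a.2 k)⟩ := by
  induction k with
  | zero => rfl
  | succ k ih =>
    rw [pow_succ', Module.End.mul_apply, ih, f.diff]
    congr 1
    apply Subtype.ext
    simp only [Function.iterate_succ_apply']

theorem eq_of_inner (f : Fac (p := p) M V i j hi U ρ π)
    (hc : ∀ v ∈ V i, ∀ x : X, x * v * x⁻¹ * v⁻¹ ∈ V j) {g g' : M} {x : X}
    (hg : ∀ y : X, g • y = x * (g' • y) * x⁻¹) : ρ g = ρ g' := by
  apply LinearMap.ext
  intro w
  obtain ⟨a, rfl⟩ := f.surj w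
  rw [← f.equiv, ← f.equiv]
  have h1 := hc (g' • (a : X)) (hi g' a a.2) x
  have h2 : (⟨g • (a : X), hi g a a.2⟩ : V i) =
      ⟨x * (g' • (a : X)) * x⁻¹ * (g' • (a : X))⁻¹, by
        have := hi g a a.2
        rw [hg] at this
        exact (V i).mul_mem this ((V i).inv_mem (hi g' a a.2))⟩ *
        ⟨g' • (a : X), hi g' a a.2⟩ := by
    apply Subtype.ext
    change g • (a : X) = x * (g' • (a : X)) * x⁻¹ * (g' • (a : X))⁻¹ * (g' • (a : X))
    rw [hg, inv_mul_cancel_right]
  rw [h2, f.add, (f.ker _).2 h1, zero_add]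

end Fac

/-- The module of a chief factor exists. -/
theorem Chain.exists_fac (h : Chain p n m V s t N) {i j : ℕ} (h1 : 1 ≤ i) (hij : i < j)
    (hj : j ≤ n) (hi : Inv M V i) (hj' : Inv M V j) (hno : ∀ k, i < k → k < j → ¬ Inv M V k) :
    ∃ (U : Type u) (_ : AddCommGroup U) (_ : Module (ZMod p) U)
      (_ : FiniteDimensional (ZMod p) U) (ρ : Representation (ZMod p) M U) (π : V i → U),
      Fac (p := p) M V i j hi U ρ π ∧ Sit ρ s t m ∧
      (∀ g ∈ N, ∃ a b : ℕ, ρ g = ρ s ^ a * ρ t ^ b) ∧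
      (∀ L : Submodule (ZMod p) U, (∀ g, ∀ x ∈ L, ρ g x ∈ L) → L = ⊥ ∨ L = ⊤) ∧
      ∀ (v : X) (hv : v ∈ V i), v ∉ V (i + 1) → Block (ρ s - 1) (π ⟨v, hv⟩) (j - i) := by
  have hc : ∀ v ∈ V i, ∀ x : X, x * v * x⁻¹ * v⁻¹ ∈ V j := fun v hv x =>
    h.comm_mem h1 hij hj hi hj' hno hv x
  have hle : V j ≤ V i := h.antitone hij.le
  obtain ⟨U, i1, i2, ρ, π, f1, f2, f3, f4⟩ := exists_section (p := p) (V i) (V j) hi hj'
    (fun a _ b hb => hc b hb a)
    (fun a _ b hb => by
      have h2 := hc b (hle hb) a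
      have h3 := (V j).mul_mem h2 hb
      simpa using h3)
    (fun a ha => h.pow_mem' h1 hij hj hi hj' hno ha)
  have f : Fac (p := p) M V i j hi U ρ π := ⟨f1, f2, f3, f4⟩
  have i4 : Finite U := Finite.of_surjective π f2
  have i3 : FiniteDimensional (ZMod p) U := inferInstance
  -- simplicity
  have hsimple : ∀ L : Submodule (ZMod p) U, (∀ g, ∀ x ∈ L, ρ g x ∈ L) → L = ⊥ ∨ L = ⊤ := by
    intro L hL
    let H : Subgroup X :=
      { carrier := {x | ∃ hx : x ∈ V i, π ⟨x, hx⟩ ∈ L}
        one_mem' := ⟨(V i).one_mem, by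
          have := f.one
          change π 1 ∈ L
          rw [this]; exact L.zero_mem⟩
        mul_mem' := by
          rintro a b ⟨ha, ha'⟩ ⟨hb, hb'⟩
          refine ⟨(V i).mul_mem ha hb, ?_⟩
          have : π ⟨a * b, (V i).mul_mem ha hb⟩ = π ⟨a, ha⟩ + π ⟨b, hb⟩ := f.add ⟨a, ha⟩ ⟨b, hb⟩
          rw [this]; exact L.add_mem ha' hb'
        inv_mem' := by
          rintro a ⟨ha, ha'⟩
          refine ⟨(V i).inv_mem ha, ?_⟩
          have : π ⟨a⁻¹, (V i).inv_mem ha⟩ = - π ⟨a, ha⟩ := f.inv' ⟨a, ha⟩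
          rw [this]; exact L.neg_mem ha' }
    have hHle : H ≤ V i := fun x hx => hx.1
    have hHinv : ∀ g : M, ∀ x ∈ H, g • x ∈ H := by
      rintro g x ⟨hx, hx'⟩
      refine ⟨hi g x hx, ?_⟩
      have : π ⟨g • x, hi g x hx⟩ = ρ g (π ⟨x, hx⟩) := f.equiv g ⟨x, hx⟩
      rw [this]; exact hL g _ hx'
    have hHge : V j ≤ H := by
      intro x hx
      refine ⟨hle hx, ?_⟩
      rw [(f.ker ⟨x, hle hx⟩).2 hx]
      exact L.zero_mem
    by_cases hH : H ≤ V (i + 1)
    · left
      have h2 := h.eq_of_le h1 hij hj hno H hHinv hH hHge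
      rw [eq_bot_iff]
      intro w hw
      obtain ⟨a, rfl⟩ := f.surj w
      have h3 : (a : X) ∈ H := ⟨a.2, hw⟩
      rw [h2] at h3
      rw [Submodule.mem_bot]
      exact (f.ker a).2 h3
    · right
      have hnorm : H.Normal := by
        refine ⟨fun x hx g => ?_⟩
        obtain ⟨γ, -, hγ⟩ := h.inn g
        rw [← hγ]
        exact hHinv γ x hx
      obtain ⟨k, hk1, hk2, hk3⟩ := h.inv H hnorm (hHinv s)
      have h2 : i ≤ k := (h.le_iff hk1 hk2 (by omega)).1 (hk3 ▸ hHle)
      have h3 : k = i := by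
        by_contra hne
        exact hH (hk3 ▸ h.antitone (by omega))
      rw [h3] at hk3
      rw [eq_top_iff]
      intro w _
      obtain ⟨a, rfl⟩ := f.surj w
      have h4 : (a : X) ∈ H := by rw [hk3]; exact a.2
      exact h4.2
  have hsit : Sit ρ s t m := by
    refine ⟨?_, h.prim, h.ne, ?_⟩
    · obtain ⟨x, hx⟩ := h.ts
      rw [← map_mul, ← map_mul, ← map_pow]
      exact f.eq_of_inner hc hx
    · obtain ⟨x, hx⟩ := h.sp
      rw [← map_pow, ← map_one ρ]
      exact f.eq_of_inner hc (g' := 1) (x := x) (fun y => by rw [hx, one_smul])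
  refine ⟨U, i1, i2, i3, ρ, π, f, hsit, ?_, hsimple, ?_⟩
  · intro g hg
    obtain ⟨x, a, b, hx⟩ := h.gen g hg
    refine ⟨a, b, ?_⟩
    rw [← map_pow, ← map_pow, ← map_mul]
    exact f.eq_of_inner hc hx
  · intro v hv hv'
    refine ⟨by omega, ?_, ?_, ?_⟩
    · rw [f.diff_iter h h1, Ne, f.ker]
      have h2 := h.D_iter_notMem h1 hv hv' (j - i - 1) (by omega)
      rwa [show i + (j - i - 1) + 1 = j by omega] at h2
    · rw [f.diff_iter h h1, f.ker]
      have h2 := h.D_iter_mem h1 hv (j - i)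
      rwa [show i + (j - i) = j by omega] at h2
    · -- count
      have h2 : Nat.card U = p ^ (finrank (ZMod p) U) := by
        rw [Module.natCard_eq_pow_finrank (K := ZMod p) (V := U), Nat.card_zmod]
      have h3 : Nat.card U = p ^ (j - i) := by
        let φ : V i →* Multiplicative U :=
          { toFun := fun a => Multiplicative.ofAdd (π a)
            map_one' := by rw [f.one]; rfl
            map_mul' := fun a b => by rw [f.add]; rfl }
        have h4 : φ.ker = (V j).subgroupOf (V i) := by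
          ext a
          rw [MonoidHom.mem_ker, Subgroup.mem_subgroupOf, ← f.ker a]
          exact Iff.rfl
        have h5 := Nat.card_congr (QuotientGroup.quotientKerEquivOfSurjective φ (fun w => by
          obtain ⟨a, ha⟩ := f.surj (Multiplicative.toAdd w)
          exact ⟨a, congrArg Multiplicative.ofAdd ha⟩)).toEquiv
        have h6 : Nat.card (V i ⧸ φ.ker) = (V j).relIndex (V i) := by rw [h4]; rfl
        have h7 := Subgroup.relIndex_mul_relIndex ⊥ (V j) (V i) bot_le hle
        rw [Subgroup.relIndex_bot_left, Subgroup.relIndex_bot_left, h.card' (by omega) hj,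
          h.card' h1 (by omega)] at h7
        have h8 : (V j).relIndex (V i) = p ^ (j - i) := by
          have h9 : p ^ (n - i) = p ^ (n - j) * p ^ (j - i) := by
            rw [← pow_add]; congr 1; omega
          rw [h9] at h7
          exact Nat.eq_of_mul_eq_mul_left (pow_pos hp.out.pos _) h7
        rw [← h8, ← h6, h5]
        rfl
      rw [h2] at h3
      exact Nat.pow_right_injective hp.out.two_le h3

end Cfsg.Agent.H764.MC
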