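import Cfsg.Agent.H764.MCTrace

set_option autoImplicit false

/-!
# Norms of unipotent operators
-/

namespace Cfsg.Agent.H764.MC

open Finset

theorem geom_char {R : Type*} [CommRing R] [IsDomain R] {p : ℕ} [hp : Fact p.Prime] [CharP R p] :
    ∑ i ∈ range p, (Polynomial.X : Polynomial R) ^ i = (Polynomial.X - 1) ^ (p - 1) := by
  have h1 : (Polynomial.X - 1 : Polynomial R) ≠ 0 := Polynomial.X_sub_C_ne_zero (1 : R)
  apply mul_left_cancel₀ h1
  rw [mul_geom_sum, ← pow_succ', Nat.sub_add_cancel hp.out.one_le]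
  rw [sub_pow_char, one_pow]

set_option linter.unusedSectionVars false

variable {k : Type*} [Field k] {p : ℕ} [hp : Fact p.Prime] [CharP k p]

theorem sum_pow_eq {E : Type*} [Ring E] [Algebra k E] (A : E) :
    ∑ i ∈ range p, A ^ i = (A - 1) ^ (p - 1) := by
  have h := congrArg (Polynomial.aeval A) (geom_char (R := k) (p := p))
  simpa using h

variable {M V : Type*} [Group M] [Finite M] [AddCommGroup V] [Module k V]

theorem sum_rho_eq (ρ : Representation k M V) (s : M) (h : V) :
    ∑ i ∈ range p, ρ (s ^ i) h = ((ρ s - 1) ^ (p - 1)) h := by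
  rw [← sum_pow_eq (k := k) (ρ s), LinearMap.sum_apply]
  refine Finset.sum_congr rfl (fun i _ => ?_)
  rw [map_pow]

/-- If the norm of `s` is zero then `N`-fixed vectors are fixed. -/
theorem fixed_of_killed (ρ : Representation k M V) (N : Subgroup M) (s : M) (hsN : s ∈ N)
    (hsp : ∀ g : M, g⁻¹ * s ^ p * g ∈ N) (hN : ∀ g : M, g⁻¹ * s * g ∈ N → g ∈ N)
    (hk : (ρ s - 1) ^ (p - 1) = 0) (v : V) (hv : ∀ n ∈ N, ρ n v = v) (g : M) : ρ g v = v := by
  obtain ⟨F, h, h1, h2⟩ := trace_lemma (p := p) ρ N s hsN hsp hN v hv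
  rw [sum_rho_eq, hk, LinearMap.zero_apply, add_zero] at h2
  rw [← h2]
  exact h1 g

/-- The twist of a representation by a linear character. -/
def twist (ρ : Representation k M V) (μ : M →* kˣ) : Representation k M V where
  toFun g := ((μ g : kˣ) : k)⁻¹ • ρ g
  map_one' := by simp
  map_mul' g h := by
    ext v
    simp only [map_mul, Units.val_mul, mul_inv, LinearMap.smul_apply, Module.End.mul_apply,
      map_smul, smul_smul]
    rw [mul_comm ((μ g : kˣ) : k)⁻¹]

theorem twist_apply (ρ : Representation k M V) (μ : M →* kˣ) (g : M) (v : V) :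
    twist ρ μ g v = ((μ g : kˣ) : k)⁻¹ • ρ g v := rfl

/-- The same with a linear character. -/
theorem eigen_of_killed (ρ : Representation k M V) (N : Subgroup M) (s : M) (hsN : s ∈ N)
    (hsp : ∀ g : M, g⁻¹ * s ^ p * g ∈ N) (hN : ∀ g : M, g⁻¹ * s * g ∈ N → g ∈ N)
    (hk : (ρ s - 1) ^ (p - 1) = 0) (μ : M →* kˣ) (hμ : μ s = 1) (v : V)
    (hv : ∀ n ∈ N, ρ n v = (μ n : k) • v) (g : M) : ρ g v = (μ g : k) • v := by
  have h1 : twist ρ μ s = ρ s := by
    ext w
    rw [twist_apply, hμ]
    simp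
  have h2 := fixed_of_killed (p := p) (twist ρ μ) N s hsN hsp hN (by rw [h1]; exact hk) v
    (fun n hn => by
      rw [twist_apply, hv n hn, smul_smul, inv_mul_cancel₀ (Units.ne_zero _), one_smul]) g
  rw [twist_apply] at h2
  have h3 := congrArg (fun w => (μ g : k) • w) h2
  simp only [smul_smul] at h3
  rw [mul_inv_cancel₀ (Units.ne_zero _), one_smul] at h3
  exact h3

end Cfsg.Agent.H764.MC
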