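import Cfsg.Agent.H764.MCFactor2

set_option autoImplicit false
set_option linter.unusedSectionVars false

/-!
# The positions of the invariant members of the chain
-/

namespace Cfsg.Agent.H764.MC

open Module

universe u v

variable {X : Type u} {M : Type v} [Group X] [Finite X] [Group M] [Finite M]
  [MulDistribMulAction M X]
  {p n m : ℕ} [hp : Fact p.Prime] {V : ℕ → Subgroup X} {s t : M} {N : Subgroup M}

/-- the prime is at least `5` -/
theorem Chain.five_le (h : Chain p n m V s t N) (hp3 : 3 ≤ p) (hna : ∃ x y : X, x * y ≠ y * x) :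
    5 ≤ p := by
  obtain ⟨i, c⟩ := h.exists_consec h.two_le le_rfl h.inv_n
  exact (h.lemmaC hp3 hna c (by simp)).2

theorem Chain.inv_mul (h : Chain p n m V s t N) (hp3 : 3 ≤ p) (hna : ∃ x y : X, x * y ≠ y * x)
    (k : ℕ) (hk : k * (p - 1) < n) : Inv M V (n - k * (p - 1)) := by
  have hp5 := h.five_le hp3 hna
  induction k with
  | zero => rw [zero_mul, Nat.sub_zero]; exact h.inv_n
  | succ k ih =>
    have h1 : (k + 1) * (p - 1) = k * (p - 1) + (p - 1) := by ring
    rw [h1] at hk ⊢
    obtain ⟨i, c⟩ := h.exists_consec (j := n - k * (p - 1)) (by omega) (by omega)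
      (ih (by omega))
    have h2 := (h.lemmaC hp3 hna c (by rw [Nat.sub_sub_self (by omega)]; exact dvd_mul_left _ _)).1
    have hlt := c.lt
    obtain ⟨i', c'⟩ := h.exists_consec (j := i) (by omega) (by have := c.le; omega) c.inv_i
    have h3 := (h.lemmaA hna c' (by
      have : n - (i - 1) = (k + 1) * (p - 1) := by rw [h1]; omega
      rw [this]
      exact dvd_mul_left _ _)).1
    have h4 : n - (k * (p - 1) + (p - 1)) = i' := by omega
    rw [h4]
    exact c'.inv_i

theorem Chain.inv_iff (h : Chain p n m V s t N) (hp3 : 3 ≤ p) (hna : ∃ x y : X, x * y ≠ y * x)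
    (j : ℕ) (h1 : 1 ≤ j) (hj : j ≤ n) : Inv M V j ↔ (p - 1 ∣ n - j ∨ p - 1 ∣ n - j + 1) := by
  have hp5 := h.five_le hp3 hna
  obtain ⟨k, e, he, hde⟩ : ∃ k e, e < p - 1 ∧ n - j = k * (p - 1) + e :=
    ⟨(n - j) / (p - 1), (n - j) % (p - 1), Nat.mod_lt _ (by omega), by
      rw [mul_comm, Nat.div_add_mod]⟩
  have hk := h.inv_mul hp3 hna k (by omega)
  rcases Nat.eq_zero_or_pos e with he0 | he0
  · rw [he0, add_zero] at hde
    constructor
    · intro _
      left
      rw [hde]
      exact dvd_mul_left _ _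
    · intro _
      rw [← hde, Nat.sub_sub_self hj] at hk
      exact hk
  · obtain ⟨i, c⟩ := h.exists_consec (j := n - k * (p - 1)) (by omega) (by omega) hk
    have h2 := (h.lemmaC hp3 hna c (by rw [Nat.sub_sub_self (by omega)]; exact dvd_mul_left _ _)).1
    have hlt := c.lt
    constructor
    · intro hI
      right
      have h3 : ¬ (i < j) := fun hij => c.no j hij (by omega) hI
      have h4 : n - j + 1 = (k + 1) * (p - 1) := by rw [add_mul]; omega
      rw [h4]
      exact dvd_mul_left _ _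
    · intro hdiv
      have h3 : e + 1 = p - 1 := by
        rcases hdiv with hdiv | hdiv
        · rw [hde] at hdiv
          have h5 : p - 1 ∣ e := (Nat.dvd_add_right (dvd_mul_left _ _)).1 hdiv
          have := Nat.le_of_dvd he0 h5
          omega
        · rw [hde, add_assoc] at hdiv
          have h5 : p - 1 ∣ e + 1 := (Nat.dvd_add_right (dvd_mul_left _ _)).1 hdiv
          have := Nat.le_of_dvd (by omega) h5
          omega
      have h4 : j = i := by omega
      rw [h4]
      exact c.inv_i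

/-- Either `M` acts trivially on `X / V 2`, or the positions are known. -/
theorem Chain.dichotomy (h : Chain p n m V s t N) (hp3 : 3 ≤ p)
    (hna : ∃ x y : X, x * y ≠ y * x) :
    (∀ (g : M) (x : X), g • x * x⁻¹ ∈ V 2) ∨ (p - 1 ∣ n ∧ 5 ≤ p ∧
      ∀ j, 1 ≤ j → j ≤ n → (Inv M V j ↔ (p - 1 ∣ j ∨ p - 1 ∣ j - 1))) := by
  have hp5 := h.five_le hp3 hna
  have hn2 := h.two_le
  have h1 := (h.inv_iff hp3 hna 1 le_rfl (by omega)).1 h.inv_one
  rcases h1 with h1 | h1
  · left
    have h2 : Inv M V 2 := by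
      rw [h.inv_iff hp3 hna 2 (by omega) hn2]
      right
      rwa [show n - 2 + 1 = n - 1 by omega]
    obtain ⟨i, c⟩ := h.exists_consec (j := 2) le_rfl hn2 h2
    have hi : i = 1 := by
      have := c.lt
      have := c.one_le
      omega
    subst hi
    have h3 := (h.lemmaA hna c h1).2
    intro g x
    exact h3 g x (by rw [h.top]; exact Subgroup.mem_top _)
  · right
    have hd : p - 1 ∣ n := by rwa [show n - 1 + 1 = n by omega] at h1
    refine ⟨hd, hp5, ?_⟩
    intro j hj1 hj2
    rw [h.inv_iff hp3 hna j hj1 hj2]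
    have e1 : p - 1 ∣ n - j ↔ p - 1 ∣ j := (Nat.dvd_sub_iff_right hj2 hd)
    have e2 : p - 1 ∣ n - j + 1 ↔ p - 1 ∣ j - 1 := by
      rw [show n - j + 1 = n - (j - 1) by omega]
      exact (Nat.dvd_sub_iff_right (by omega) hd)
    rw [e1, e2]

end Cfsg.Agent.H764.MC
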