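import Cfsg.Agent.H764.MCChain

set_option autoImplicit false

/-!
# Sections as modules
-/

namespace Cfsg.Agent.H764.MC

open Module

universe u v

theorem exists_rep_aux {G : Type u} {M : Type v} [CommGroup G] [Group M] {p : ℕ}
    [Module (ZMod p) (Additive G)] (q : M → G →* G) (h1 : ∀ x, q 1 x = x)
    (hmul : ∀ g h x, q (g * h) x = q g (q h x)) :
    ∃ ρ : Representation (ZMod p) M (Additive G),
      ∀ (g : M) (a : G), Additive.ofMul (q g a) = ρ g (Additive.ofMul a) := by
  refine ⟨
    { toFun := fun g => ((MonoidHom.toAdditive (q g)).toZModLinearMap p :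
        Additive G →ₗ[ZMod p] Additive G)
      map_one' := ?_
      map_mul' := ?_ }, fun g a => rfl⟩
  · apply LinearMap.ext
    intro x
    exact congrArg Additive.ofMul (h1 x.toMul)
  · intro g h
    apply LinearMap.ext
    intro x
    exact congrArg Additive.ofMul (hmul g h x.toMul)

/-- Operators on an elementary abelian group as a representation. -/
theorem exists_rep {G : Type u} {M : Type v} [CommGroup G] [Group M] {p : ℕ}
    (hpow : ∀ x : G, x ^ p = 1) (q : M → G →* G) (h1 : ∀ x, q 1 x = x)
    (hmul : ∀ g h x, q (g * h) x = q g (q h x)) :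
    ∃ (U : Type u) (_ : AddCommGroup U) (_ : Module (ZMod p) U) (ρ : Representation (ZMod p) M U)
      (π : G → U), (∀ a b, π (a * b) = π a + π b) ∧ Function.Bijective π ∧
      (∀ (g : M) (a : G), π (q g a) = ρ g (π a)) := by
  have hpow' : ∀ x : Additive G, p • x = 0 := fun x => congrArg Additive.ofMul (hpow x.toMul)
  obtain ⟨ρ, hρ⟩ := @exists_rep_aux G M _ _ p (AddCommGroup.zmodModule hpow') q h1 hmul
  exact ⟨Additive G, inferInstance, AddCommGroup.zmodModule hpow', ρ, fun a => Additive.ofMul a,
    fun a b => rfl, Additive.ofMul.bijective, hρ⟩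

/-- An invariant elementary abelian section as a representation. -/
theorem exists_section {X : Type u} {M : Type v} [Group X] [Group M] [MulDistribMulAction M X]
    {p : ℕ} [hp : Fact p.Prime] (A B : Subgroup X) (hA : ∀ g : M, ∀ x ∈ A, g • x ∈ A)
    (hB : ∀ g : M, ∀ x ∈ B, g • x ∈ B) (hc : ∀ a ∈ A, ∀ b ∈ A, a * b * a⁻¹ * b⁻¹ ∈ B)
    (hcB : ∀ a ∈ A, ∀ b ∈ B, a * b * a⁻¹ ∈ B)
    (hpow : ∀ a ∈ A, a ^ p ∈ B) :
    ∃ (U : Type u) (_ : AddCommGroup U) (_ : Module (ZMod p) U) (ρ : Representation (ZMod p) M U)
      (π : A → U), (∀ a b, π (a * b) = π a + π b) ∧ Function.Surjective π ∧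
      (∀ a : A, π a = 0 ↔ (a : X) ∈ B) ∧
      (∀ (g : M) (a : A), π ⟨g • (a : X), hA g a a.2⟩ = ρ g (π a)) := by
  have hn : (B.subgroupOf A).Normal := by
    refine ⟨fun b hb a => ?_⟩
    rw [Subgroup.mem_subgroupOf] at hb ⊢
    exact hcB a a.2 b hb
  have hcomm : ∀ x y : A ⧸ B.subgroupOf A, x * y = y * x := by
    intro x y
    induction x using QuotientGroup.induction_on with
    | _ a =>
      induction y using QuotientGroup.induction_on with
      | _ b =>
        rw [← QuotientGroup.mk_mul, ← QuotientGroup.mk_mul, QuotientGroup.eq,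
          Subgroup.mem_subgroupOf]
        have h1 := hc b⁻¹ (A.inv_mem b.2) a⁻¹ (A.inv_mem a.2)
        push_cast
        simpa [mul_assoc] using h1
  let cg : CommGroup (A ⧸ B.subgroupOf A) := { (inferInstance : Group _) with mul_comm := hcomm }
  have hpow' : ∀ x : A ⧸ B.subgroupOf A, x ^ p = 1 := by
    intro x
    induction x using QuotientGroup.induction_on with
    | _ a =>
      rw [← QuotientGroup.mk_pow, QuotientGroup.eq_one_iff, Subgroup.mem_subgroupOf]
      exact hpow a a.2
  let act : M → A →* A := fun g =>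
    { toFun := fun a => ⟨g • (a : X), hA g a a.2⟩
      map_one' := Subtype.ext (smul_one g)
      map_mul' := fun a b => Subtype.ext (smul_mul' g (a : X) (b : X)) }
  have hact : ∀ g, B.subgroupOf A ≤ (B.subgroupOf A).comap (act g) := by
    intro g a ha
    rw [Subgroup.mem_comap, Subgroup.mem_subgroupOf]
    rw [Subgroup.mem_subgroupOf] at ha
    exact hB g a ha
  have key := @exists_rep (A ⧸ B.subgroupOf A) M cg _ p hpow'
    (fun g => QuotientGroup.map _ _ (act g) (hact g))
    (by
      intro x
      induction x using QuotientGroup.induction_on with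
      | _ a =>
        have : act 1 a = a := Subtype.ext (one_smul M (a : X))
        exact congrArg QuotientGroup.mk this)
    (by
      intro g h x
      induction x using QuotientGroup.induction_on with
      | _ a =>
        have : act (g * h) a = act g (act h a) := Subtype.ext (mul_smul g h (a : X))
        exact congrArg QuotientGroup.mk this)
  obtain ⟨U, i1, i2, ρ, π, h1, h2, h3⟩ := key
  refine ⟨U, i1, i2, ρ, fun a => π (QuotientGroup.mk a), ?_, ?_, ?_, ?_⟩
  · intro a b
    exact h1 (QuotientGroup.mk a) (QuotientGroup.mk b)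
  · exact h2.surjective.comp QuotientGroup.mk_surjective
  · intro a
    have h4 : π 1 = 0 := by
      have := h1 1 1
      rw [mul_one] at this
      simpa using this
    rw [← h4]
    constructor
    · intro h5
      have h6 := h2.injective h5
      have h7 : (a : A ⧸ B.subgroupOf A) = 1 := h6
      rw [QuotientGroup.eq_one_iff, Subgroup.mem_subgroupOf] at h7
      exact h7
    · intro h5
      have h7 : (a : A ⧸ B.subgroupOf A) = 1 := by
        rw [QuotientGroup.eq_one_iff, Subgroup.mem_subgroupOf]; exact h5
      exact congrArg π h7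
  · intro g a
    exact h3 g (QuotientGroup.mk a)

end Cfsg.Agent.H764.MC
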