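import Cfsg.Agent.H764.MCSection
import Cfsg.Agent.H764.MCDual

set_option autoImplicit false
set_option linter.unusedSectionVars false

/-!
# Chief factors of a uniserial group with operators
-/

namespace Cfsg.Agent.H764.MC

open Module

universe u v

variable {X : Type u} {M : Type v} [Group X] [Finite X] [Group M] [MulDistribMulAction M X]
  {p n m : ℕ} [hp : Fact p.Prime] {V : ℕ → Subgroup X} {s t : M} {N : Subgroup M}

namespace Chain

theorem antitone (h : Chain p n m V s t N) : Antitone V :=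
  antitone_nat_of_succ_le h.anti

theorem bot_of_le (h : Chain p n m V s t N) {i : ℕ} (hi : n ≤ i) : V i = ⊥ := by
  rw [eq_bot_iff, ← h.bot]
  exact h.antitone hi

theorem not_le_succ (h : Chain p n m V s t N) {i : ℕ} (h1 : 1 ≤ i) (hi : i < n) :
    ¬ V i ≤ V (i + 1) := by
  intro hle
  have h2 := h.idx i h1 hi
  rw [Subgroup.relIndex_eq_one.2 hle] at h2
  exact hp.out.one_lt.ne h2

theorem le_iff (h : Chain p n m V s t N) {i j : ℕ} (h1 : 1 ≤ i) (hi : i ≤ n)
    (hj : j ≤ n) : V i ≤ V j ↔ j ≤ i := by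
  constructor
  · intro hle
    by_contra hcon
    push Not at hcon
    exact h.not_le_succ h1 (by omega) (hle.trans (h.antitone (by omega)))
  · intro hji
    exact h.antitone hji

theorem exists_mem (h : Chain p n m V s t N) {i : ℕ} (h1 : 1 ≤ i) (hi : i < n) :
    ∃ v ∈ V i, v ∉ V (i + 1) := by
  by_contra hcon
  push Not at hcon
  exact h.not_le_succ h1 hi hcon

theorem card (h : Chain p n m V s t N) : ∀ k : ℕ, k < n → Nat.card (V (n - k)) = p ^ k := by
  intro k
  induction k with
  | zero => intro _; rw [Nat.sub_zero, h.bot, pow_zero]; exact Subgroup.card_bot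
  | succ k ih =>
    intro hk
    have h1 := h.idx (n - (k + 1)) (by omega) (by omega)
    have h2 : n - (k + 1) + 1 = n - k := by omega
    rw [h2] at h1
    have h3 : V (n - k) ≤ V (n - (k + 1)) := by rw [← h2]; exact h.anti _
    have h4 := Subgroup.relIndex_mul_relIndex ⊥ (V (n - k)) (V (n - (k + 1))) bot_le h3
    rw [Subgroup.relIndex_bot_left, Subgroup.relIndex_bot_left, ih (by omega), h1] at h4
    rw [← h4, pow_succ]

theorem card' (h : Chain p n m V s t N) {i : ℕ} (h1 : 1 ≤ i) (hi : i ≤ n) :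
    Nat.card (V i) = p ^ (n - i) := by
  have := h.card (n - i) (by omega)
  rwa [Nat.sub_sub_self hi] at this

/-- An invariant subgroup between `V j` and `V (i + 1)` is `V j` if no `V k`, `i < k < j`, is
invariant. -/
theorem eq_of_le (h : Chain p n m V s t N) {i j : ℕ} (h1 : 1 ≤ i) (hij : i < j) (hj : j ≤ n)
    (hno : ∀ k, i < k → k < j → ¬ Inv M V k) (H : Subgroup X) (hH : ∀ g : M, ∀ x ∈ H, g • x ∈ H)
    (hle : H ≤ V (i + 1)) (hle' : V j ≤ H) : H = V j := by
  have hnorm : H.Normal := by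
    refine ⟨fun x hx g => ?_⟩
    obtain ⟨γ, -, hγ⟩ := h.inn g
    rw [← hγ]
    exact hH γ x hx
  obtain ⟨k, hk1, hk2, rfl⟩ := h.inv H hnorm (hH s)
  have h2 := (h.le_iff hk1 hk2 (by omega : i + 1 ≤ n)).1 hle
  have h3 := (h.le_iff (by omega) hj hk2).1 hle'
  rcases Nat.lt_or_ge k j with h4 | h4
  · exact absurd hH (hno k (by omega) h4)
  · rw [le_antisymm h3 h4]

theorem pow_mem (h : Chain p n m V s t N) {i : ℕ} (h1 : 1 ≤ i) (hi : i < n) {v : X}
    (hv : v ∈ V i) : v ^ p ∈ V (i + 1) := by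
  have hn : ((V (i + 1)).subgroupOf (V i)).Normal := by
    refine ⟨fun b hb a => ?_⟩
    rw [Subgroup.mem_subgroupOf] at hb ⊢
    have h2 := h.comm (i + 1) (by omega) b hb a
    have h3 := (V (i + 1)).mul_mem (h.anti _ h2) hb
    simpa using h3
  have h2 := h.idx i h1 hi
  have h3 : ((V (i + 1)).subgroupOf (V i)).index = p := h2
  have h4 := Subgroup.pow_index_mem ((V (i + 1)).subgroupOf (V i)) (⟨v, hv⟩ : V i)
  rw [h3, Subgroup.mem_subgroupOf] at h4
  exact h4

/-- commutators with `V i`, for a chief factor `V i / V j` -/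
theorem comm_mem (h : Chain p n m V s t N) {i j : ℕ} (h1 : 1 ≤ i) (hij : i < j) (hj : j ≤ n)
    (hi' : Inv M V i) (hj' : Inv M V j) (hno : ∀ k, i < k → k < j → ¬ Inv M V k) {v : X}
    (hv : v ∈ V i) (x : X) : x * v * x⁻¹ * v⁻¹ ∈ V j := by
  have key := h.eq_of_le h1 hij hj hno
    (Subgroup.closure {y | ∃ x v, v ∈ V i ∧ y = x * v * x⁻¹ * v⁻¹} ⊔ V j)
    (by
      intro g y hy
      have h2 : (Subgroup.closure {y | ∃ x v, v ∈ V i ∧ y = x * v * x⁻¹ * v⁻¹} ⊔ V j) ≤
          (Subgroup.closure {y | ∃ x v, v ∈ V i ∧ y = x * v * x⁻¹ * v⁻¹} ⊔ V j).comap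
            (MulDistribMulAction.toMonoidHom X g) := by
        rw [sup_le_iff, Subgroup.closure_le]
        constructor
        · rintro y ⟨x, v, hv, rfl⟩
          refine Subgroup.mem_sup_left (Subgroup.subset_closure ⟨g • x, g • v, hi' g v hv, ?_⟩)
          simp [smul_mul', smul_inv']
        · intro y hy
          exact Subgroup.mem_sup_right (hj' g y hy)
      exact h2 hy)
    (by
      rw [sup_le_iff, Subgroup.closure_le]
      refine ⟨?_, h.antitone (by omega)⟩
      rintro y ⟨x, v, hv, rfl⟩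
      exact h.comm i h1 v hv x)
    le_sup_right
  rw [← key]
  exact Subgroup.mem_sup_left (Subgroup.subset_closure ⟨x, v, hv, rfl⟩)

/-- `p`-th powers in a chief factor -/
theorem pow_mem' (h : Chain p n m V s t N) {i j : ℕ} (h1 : 1 ≤ i) (hij : i < j) (hj : j ≤ n)
    (hi' : Inv M V i) (hj' : Inv M V j) (hno : ∀ k, i < k → k < j → ¬ Inv M V k) {v : X}
    (hv : v ∈ V i) : v ^ p ∈ V j := by
  have key := h.eq_of_le h1 hij hj hno
    (Subgroup.closure {y | ∃ v, v ∈ V i ∧ y = v ^ p} ⊔ V j)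
    (by
      intro g y hy
      have h2 : (Subgroup.closure {y | ∃ v, v ∈ V i ∧ y = v ^ p} ⊔ V j) ≤
          (Subgroup.closure {y | ∃ v, v ∈ V i ∧ y = v ^ p} ⊔ V j).comap
            (MulDistribMulAction.toMonoidHom X g) := by
        rw [sup_le_iff, Subgroup.closure_le]
        constructor
        · rintro y ⟨v, hv, rfl⟩
          refine Subgroup.mem_sup_left (Subgroup.subset_closure ⟨g • v, hi' g v hv, ?_⟩)
          simp [smul_pow']
        · intro y hy
          exact Subgroup.mem_sup_right (hj' g y hy)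
      exact h2 hy)
    (by
      rw [sup_le_iff, Subgroup.closure_le]
      refine ⟨?_, h.antitone (by omega)⟩
      rintro y ⟨v, hv, rfl⟩
      exact h.pow_mem h1 (by omega) hv)
    le_sup_right
  rw [← key]
  exact Subgroup.mem_sup_left (Subgroup.subset_closure ⟨v, hv, rfl⟩)

/-- the difference operator -/
def D (s : M) (x : X) : X := s • x * x⁻¹

theorem D_iter_mem (h : Chain p n m V s t N) {i : ℕ} (h1 : 1 ≤ i) {v : X} (hv : v ∈ V i) (k : ℕ) :
    (D s)^[k] v ∈ V (i + k) := by
  induction k with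
  | zero => exact hv
  | succ k ih =>
    rw [Function.iterate_succ_apply']
    exact h.sact (i + k) (by omega) _ ih

theorem D_iter_notMem (h : Chain p n m V s t N) {i : ℕ} (h1 : 1 ≤ i) {v : X} (hv : v ∈ V i)
    (hv' : v ∉ V (i + 1)) (k : ℕ) (hk : i + k < n) : (D s)^[k] v ∉ V (i + k + 1) := by
  induction k with
  | zero => exact hv'
  | succ k ih =>
    rw [Function.iterate_succ_apply']
    intro hcon
    exact ih (by omega) (h.sact' (i + k) (by omega) (by omega) _ (h.D_iter_mem h1 hv k) hcon)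

end Chain

end Cfsg.Agent.H764.MC
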