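import Mathlib

set_option autoImplicit false

/-!
# The relative trace from the normalizer of a subgroup of order `p`
-/

namespace Cfsg.Agent.H764.MC

open Finset

universe u

/-- A sum over a set with a fixed point free permutation of prime order is a norm. -/
theorem exists_norm {X V : Type*} [DecidableEq X] [AddCommMonoid V] {p : ℕ} [hp : Fact p.Prime]
    (π : X → X) (A : V →+ V) (φ : X → V) (hφ : ∀ x, φ (π x) = A (φ x)) :
    ∀ (n : ℕ) (Y : Finset X), Y.card ≤ n → (∀ y ∈ Y, π y ∈ Y) → (∀ y ∈ Y, π^[p] y = y) →
      (∀ y ∈ Y, π y ≠ y) → ∃ h : V, ∑ y ∈ Y, φ y = ∑ i ∈ range p, A^[i] h := by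
  intro n
  induction n with
  | zero =>
    intro Y hY _ _ _
    have : Y = ∅ := by
      apply Finset.card_eq_zero.1; omega
    refine ⟨0, ?_⟩
    subst this
    simp
  | succ n ih =>
    intro Y hY h1 h2 h3
    by_cases hne : Y = ∅
    · refine ⟨0, ?_⟩
      subst hne
      simp
    · obtain ⟨y, hy⟩ := Finset.nonempty_iff_ne_empty.2 hne
      have hmem : ∀ i : ℕ, π^[i] y ∈ Y := by
        intro i
        induction i with
        | zero => exact hy
        | succ i ih2 => rw [Function.iterate_succ_apply']; exact h1 _ ih2
      have hper : Function.minimalPeriod π y = p :=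
        Function.minimalPeriod_eq_prime (h2 y hy) (h3 y hy)
      have hinj : Set.InjOn (fun i => π^[i] y) (range p : Set ℕ) := by
        intro i hi j hj hij
        simp only [coe_range, Set.mem_Iio] at hi hj
        exact Function.iterate_injOn_Iio_minimalPeriod (by rw [hper]; exact hi)
          (by rw [hper]; exact hj) hij
      set O : Finset X := (range p).image (fun i => π^[i] y) with hO
      have hOY : O ⊆ Y := by
        intro x hx
        obtain ⟨i, -, rfl⟩ := Finset.mem_image.1 hx
        exact hmem i
      have hAφ : ∀ i, φ (π^[i] y) = A^[i] (φ y) := by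
        intro i
        induction i with
        | zero => rfl
        | succ i ih2 => rw [Function.iterate_succ_apply', Function.iterate_succ_apply', hφ, ih2]
      have hOsum : ∑ x ∈ O, φ x = ∑ i ∈ range p, A^[i] (φ y) := by
        rw [hO, Finset.sum_image (fun i hi j hj hij => hinj hi hj hij)]
        exact Finset.sum_congr rfl (fun i _ => hAφ i)
      have hmod : ∀ i : ℕ, π^[i] y ∈ O := by
        intro i
        have h9 : π^[i] y = π^[i % p] y := by
          have h10 := Function.iterate_mod_minimalPeriod_eq (f := π) (x := y) (n := i)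
          rw [hper] at h10
          exact h10.symm
        rw [h9]
        exact Finset.mem_image.2 ⟨i % p, Finset.mem_range.2 (Nat.mod_lt _ hp.out.pos), rfl⟩
      have hcard : (Y \ O).card ≤ n := by
        have h4 : y ∈ O := hmod 0
        have h5 : (Y \ O).card < Y.card := by
          apply Finset.card_lt_card
          refine ⟨Finset.sdiff_subset, fun hh => ?_⟩
          have := hh hy
          rw [Finset.mem_sdiff] at this
          exact this.2 h4
        omega
      have hcl : ∀ x ∈ Y \ O, π x ∈ Y \ O := by
        intro x hx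
        rw [Finset.mem_sdiff] at hx ⊢
        refine ⟨h1 x hx.1, fun hh => hx.2 ?_⟩
        obtain ⟨i, -, hi⟩ := Finset.mem_image.1 hh
        have h6 : x = π^[p - 1] (π x) := by
          rw [← Function.iterate_succ_apply]
          have : (p - 1).succ = p := by have := hp.out.pos; omega
          rw [this, h2 x hx.1]
        rw [h6, ← hi]
        have h7 : π^[p - 1] (π^[i] y) = π^[p - 1 + i] y := by
          rw [Function.iterate_add_apply]
        simp only [h7]
        exact hmod _
      obtain ⟨h, hh⟩ := ih (Y \ O) hcard hcl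
        (fun x hx => h2 x (Finset.mem_sdiff.1 hx).1) (fun x hx => h3 x (Finset.mem_sdiff.1 hx).1)
      refine ⟨h + φ y, ?_⟩
      rw [← Finset.sum_sdiff hOY, hh, hOsum, ← Finset.sum_add_distrib]
      refine Finset.sum_congr rfl (fun i _ => ?_)
      have hadd : ∀ i (a b : V), A^[i] (a + b) = A^[i] a + A^[i] b := by
        intro i
        induction i with
        | zero => intro a b; rfl
        | succ i ih2 =>
          intro a b
          rw [Function.iterate_succ_apply', Function.iterate_succ_apply',
            Function.iterate_succ_apply', ih2, map_add]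
      rw [hadd]

/-- **Trace lemma**: a vector fixed by `N` is, up to a norm of `s`, fixed by the whole group. -/
theorem trace_lemma {k M V : Type*} [CommRing k] [Group M] [Finite M] [AddCommGroup V] [Module k V]
    (ρ : Representation k M V) {p : ℕ} [hp : Fact p.Prime] (N : Subgroup M) (s : M)
    (hsN : s ∈ N) (hsp : ∀ g : M, g⁻¹ * s ^ p * g ∈ N) (hN : ∀ g : M, g⁻¹ * s * g ∈ N → g ∈ N)
    (v : V) (hv : ∀ n ∈ N, ρ n v = v) :
    ∃ F h : V, (∀ g, ρ g F = F) ∧ F = v + ∑ i ∈ range p, ρ (s ^ i) h := by
  classical
  have : Fintype (M ⧸ N) := Fintype.ofFinite _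
  have hwd : ∀ a b : M, (QuotientGroup.leftRel N) a b → ρ a v = ρ b v := by
    intro a b hab
    rw [QuotientGroup.leftRel_apply] at hab
    have h1 := hv _ hab
    have h2 : ρ b v = ρ (a * (a⁻¹ * b)) v := by congr 1; group
    rw [h2, map_mul, Module.End.mul_apply, h1]
  let φ : M ⧸ N → V := fun x => Quotient.liftOn' x (fun g => ρ g v) hwd
  have hφmk : ∀ g : M, φ (g : M ⧸ N) = ρ g v := fun g => rfl
  have hφg : ∀ (g : M) (x : M ⧸ N), φ (g • x) = ρ g (φ x) := by
    intro g x
    induction x using QuotientGroup.induction_on with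
    | _ x =>
      rw [MulAction.Quotient.smul_coe, smul_eq_mul, hφmk, hφmk, map_mul, Module.End.mul_apply]
  set F : V := ∑ x : M ⧸ N, φ x with hF
  have hFfix : ∀ g, ρ g F = F := by
    intro g
    rw [hF, map_sum]
    have : ∀ x : M ⧸ N, ρ g (φ x) = φ (g • x) := fun x => (hφg g x).symm
    simp_rw [this]
    exact Equiv.sum_comp (MulAction.toPerm g) φ
  set x0 : M ⧸ N := ((1 : M) : M ⧸ N) with hx0
  have hfix : ∀ x : M ⧸ N, s • x = x → x = x0 := by
    intro x hx
    induction x using QuotientGroup.induction_on with
    | _ g =>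
      rw [MulAction.Quotient.smul_coe, smul_eq_mul, eq_comm, QuotientGroup.eq] at hx
      have h1 : g⁻¹ * s * g ∈ N := by rw [mul_assoc]; exact hx
      have h2 := hN g h1
      rw [hx0, eq_comm, QuotientGroup.eq]
      simpa using h2
  have hφ0 : φ x0 = v := by rw [hx0, hφmk, map_one]; rfl
  have hpow : ∀ (i : ℕ) (x : M ⧸ N), (fun x : M ⧸ N => s • x)^[i] x = s ^ i • x := by
    intro i
    induction i with
    | zero => intro x; simp
    | succ i ih => intro x; rw [Function.iterate_succ_apply', ih, pow_succ', mul_smul]
  have hsppow : ∀ x : M ⧸ N, s ^ p • x = x := by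
    intro x
    induction x using QuotientGroup.induction_on with
    | _ g =>
      rw [MulAction.Quotient.smul_coe, smul_eq_mul, eq_comm, QuotientGroup.eq]
      rw [← mul_assoc]
      exact hsp g
  have hx0fix : s • x0 = x0 := by
    rw [hx0, MulAction.Quotient.smul_coe, smul_eq_mul, eq_comm, QuotientGroup.eq]
    simpa using hsN
  obtain ⟨h, hh⟩ := exists_norm (p := p) (fun x : M ⧸ N => s • x) (ρ s).toAddMonoidHom φ
    (fun x => hφg s x) _ (univ.erase x0) le_rfl
    (by
      intro y hy
      rw [Finset.mem_erase] at hy ⊢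
      refine ⟨fun hh => hy.1 ?_, mem_univ _⟩
      have : s • y = s • x0 := by rw [hx0fix]; exact hh
      exact (MulAction.injective s) this)
    (by
      intro y _
      rw [hpow, hsppow])
    (by
      intro y hy hh
      exact (Finset.mem_erase.1 hy).1 (hfix y hh))
  refine ⟨F, h, hFfix, ?_⟩
  rw [hF, ← Finset.add_sum_erase univ φ (mem_univ x0), hφ0, hh]
  congr 1
  refine Finset.sum_congr rfl (fun i _ => ?_)
  have : ∀ (i : ℕ) (w : V), (⇑(ρ s).toAddMonoidHom)^[i] w = ρ (s ^ i) w := by
    intro i
    induction i with
    | zero => intro w; simp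
    | succ i ih =>
      intro w
      rw [Function.iterate_succ_apply', ih, pow_succ', map_mul, Module.End.mul_apply]
      rfl
  exact this i h

end Cfsg.Agent.H764.MC
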