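import Cfsg.Agent.H764.Center2
import Cfsg.Agent.Transfer.ExtraspecialProduct

/-!
# Duality in extraspecial groups (helper764)

* `card_mul_card_centralizer_le` : `|K| |C_E(K)| ≤ p |E|`.
* `exists_of_centralizes` : if an automorphism `ξ` of an extraspecial group `E` is trivial on `Z(E)`, then an element
  centralizing all `q` with `ξ(q) q⁻¹ ∈ Z(E)` is of the form `ξ(q) q⁻¹ z`, `z ∈ Z(E)`.
-/

set_option autoImplicit false

namespace Cfsg.Agent.H764

open Cfsg Subgroup
open scoped commutatorElement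

section abstract

variable {E : Type*} [Group E] [Finite E] {p : ℕ} [hp : Fact p.Prime]

omit [Finite E] hp in
theorem comm_mul_left' (h : Cfsg.IsExtraspecial p E) (a b c : E) : ⁅a * b, c⁆ = ⁅a, c⁆ * ⁅b, c⁆ := by
  have h1 := Subgroup.mem_center_iff.1 (Transfer.Extraspecial.comm_mem_center h b c) a
  calc ⁅a * b, c⁆ = a * ⁅b, c⁆ * c * a⁻¹ * c⁻¹ := by simp only [commutatorElement_def]; group
    _ = ⁅b, c⁆ * a * c * a⁻¹ * c⁻¹ := by rw [h1]
    _ = ⁅b, c⁆ * ⁅a, c⁆ := by simp only [commutatorElement_def]; group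
    _ = ⁅a, c⁆ * ⁅b, c⁆ := by
      rw [Subgroup.mem_center_iff.1 (Transfer.Extraspecial.comm_mem_center h b c) ⁅a, c⁆]

/-- `|K| |C_E(K)| ≤ p |E|` for a subgroup `K` of an extraspecial group. -/
theorem card_mul_card_centralizer_le (h : Cfsg.IsExtraspecial p E) (K : Subgroup E) :
    Nat.card K * Nat.card (Subgroup.centralizer (K : Set E)) ≤ p * Nat.card E := by
  set C := Subgroup.centralizer (K : Set E) with hC
  have hnormal : C.Normal := by
    refine ⟨fun c hc g => ?_⟩
    have h1 : Subgroup.center E ≤ C := Subgroup.center_le_centralizer _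
    have h2 : g * c * g⁻¹ = ⁅g, c⁆ * c := by simp only [commutatorElement_def]; group
    rw [h2]
    exact C.mul_mem (h1 (Transfer.Extraspecial.comm_mem_center h g c)) hc
  let Φ : K → (E ⧸ C →* Subgroup.center E) := fun k =>
    QuotientGroup.lift C
      { toFun := fun e => ⟨⁅e, (k : E)⁆, Transfer.Extraspecial.comm_mem_center h e k⟩
        map_one' := by ext; simp
        map_mul' := by
          intro a b
          ext
          exact comm_mul_left' h a b k }
      (by
        intro c hc
        apply Subtype.ext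
        show ⁅c, (k : E)⁆ = 1
        rw [commutatorElement_eq_one_iff_mul_comm]
        exact (Subgroup.mem_centralizer_iff.1 hc k k.2).symm)
  have hΦ : ∀ (k : K) (e : E), ((Φ k (e : E ⧸ C) : Subgroup.center E) : E) = ⁅e, (k : E)⁆ :=
    fun k e => rfl
  have hdiff : ∀ k l : K, Φ k = Φ l → (k : E) * (l : E)⁻¹ ∈ Subgroup.center E := by
    intro k l hkl
    rw [Subgroup.mem_center_iff]
    intro g
    have h1 : ⁅g, (k : E)⁆ = ⁅g, (l : E)⁆ := by rw [← hΦ, ← hΦ, hkl]
    rw [← commutatorElement_eq_one_iff_mul_comm, ← commutatorElement_inv]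
    rw [inv_eq_one, comm_mul_left' h]
    have h2 : ⁅(l : E)⁻¹, g⁆ = ⁅(l : E), g⁆⁻¹ := by
      have h3 := comm_mul_left' h (l : E) (l : E)⁻¹ g
      rw [mul_inv_cancel, commutatorElement_one_left] at h3
      exact (inv_eq_of_mul_eq_one_right h3.symm).symm
    rw [h2, ← commutatorElement_inv, h1, commutatorElement_inv]
    exact mul_inv_cancel _
  have hcard1 : Nat.card (E ⧸ C →* Subgroup.center E) ≤ Nat.card (E ⧸ C) := by
    have h1 := Transfer.ExtraspecialProduct.card_monoidHom_le (E := E ⧸ C)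
      (Z := Subgroup.center E) (by rw [h.2]; exact hp.out)
    refine h1.trans ?_
    exact Nat.card_le_card_of_surjective _ (QuotientGroup.mk_surjective (s := commutator (E ⧸ C)))
  have hfinHom : Finite (E ⧸ C →* Subgroup.center E) := by
    exact Finite.of_injective (fun f => (f : E ⧸ C → Subgroup.center E)) DFunLike.coe_injective
  have hinj : Nat.card K ≤ Nat.card ((E ⧸ C →* Subgroup.center E) × Subgroup.center E) := by
    classical
    let sec : (E ⧸ C →* Subgroup.center E) → K := fun φ =>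
      if hφ : ∃ k, Φ k = φ then hφ.choose else 1
    have hsec : ∀ k, Φ (sec (Φ k)) = Φ k := by
      intro k
      have hφ : ∃ l, Φ l = Φ k := ⟨k, rfl⟩
      show Φ (if hφ : ∃ l, Φ l = Φ k then hφ.choose else 1) = Φ k
      rw [dif_pos hφ]
      exact hφ.choose_spec
    refine Nat.card_le_card_of_injective
      (fun k => (Φ k, (⟨(k : E) * (sec (Φ k) : E)⁻¹, hdiff k _ (hsec k).symm⟩ :
        Subgroup.center E))) ?_
    intro k l hkl
    have h1 : Φ k = Φ l := congrArg Prod.fst hkl
    have h2 : (k : E) * (sec (Φ k) : E)⁻¹ = (l : E) * (sec (Φ l) : E)⁻¹ :=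
      congrArg (fun x => ((x.2 : Subgroup.center E) : E)) hkl
    rw [h1] at h2
    exact Subtype.ext (mul_right_cancel h2)
  rw [Nat.card_prod, h.2] at hinj
  have hidx : Nat.card (E ⧸ C) * Nat.card C = Nat.card E := by
    have := C.index_mul_card
    rwa [Subgroup.index_eq_card] at this
  calc Nat.card K * Nat.card C ≤ (Nat.card (E ⧸ C) * p) * Nat.card C :=
        Nat.mul_le_mul_right _ (hinj.trans (Nat.mul_le_mul_right _ hcard1))
    _ = p * (Nat.card (E ⧸ C) * Nat.card C) := by ring
    _ = p * Nat.card E := by rw [hidx]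

/-- The elements `q` with `ξ(q) q⁻¹` central. -/
def starOf (ξ : MulAut E) : Subgroup E where
  carrier := {q | ξ q * q⁻¹ ∈ Subgroup.center E}
  one_mem' := by simp
  mul_mem' := by
    intro a b ha hb
    have h1 : ξ (a * b) * (a * b)⁻¹ = (ξ a * a⁻¹) * (ξ b * b⁻¹) := by
      have h2 := Subgroup.mem_center_iff.1 hb a⁻¹
      calc ξ (a * b) * (a * b)⁻¹ = ξ a * ((ξ b * b⁻¹) * a⁻¹) := by rw [map_mul]; group
        _ = ξ a * (a⁻¹ * (ξ b * b⁻¹)) := by rw [← h2]
        _ = _ := by group
    show ξ (a * b) * (a * b)⁻¹ ∈ Subgroup.center E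
    rw [h1]
    exact Subgroup.mul_mem _ ha hb
  inv_mem' := by
    intro a ha
    show ξ a⁻¹ * a⁻¹⁻¹ ∈ Subgroup.center E
    have h2 := Subgroup.mem_center_iff.1 ha a⁻¹
    have h1 : ξ a⁻¹ * a⁻¹⁻¹ = (ξ a * a⁻¹)⁻¹ := by
      rw [map_inv, inv_inv, mul_inv_rev, inv_inv]
      calc (ξ a)⁻¹ * a = (ξ a)⁻¹ * a * (a * (ξ a)⁻¹) * (a * (ξ a)⁻¹)⁻¹ := by group
        _ = (ξ a)⁻¹ * a * (ξ a * a⁻¹)⁻¹ * (a * (ξ a)⁻¹)⁻¹ := by group
        _ = a * (ξ a)⁻¹ := by
          have h3 : a⁻¹ * (ξ a) = ξ a * a⁻¹ := by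
            have := h2
            calc a⁻¹ * ξ a = a⁻¹ * (ξ a * a⁻¹) * a := by group
              _ = (ξ a * a⁻¹) * a⁻¹ * a := by rw [this]
              _ = ξ a * a⁻¹ := by group
          have h4 : (ξ a)⁻¹ * a = (ξ a * a⁻¹)⁻¹ := by rw [← h3]; group
          rw [h4]
          group
    rw [h1]
    exact Subgroup.inv_mem _ ha

/-- **Duality.** An element of an extraspecial group centralizing all `q` with `ξ(q) q⁻¹` central is of the
form `ξ(q) q⁻¹ z` with `z` central. -/
theorem exists_of_centralizes (h : Cfsg.IsExtraspecial p E) (ξ : MulAut E)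
    (hξ : ∀ z ∈ Subgroup.center E, ξ z = z) {w : E}
    (hw : ∀ q : E, ξ q * q⁻¹ ∈ Subgroup.center E → q * w = w * q) :
    ∃ q : E, ∃ z ∈ Subgroup.center E, w = ξ q * q⁻¹ * z := by
  let N : E →* E ⧸ Subgroup.center E :=
    { toFun := fun q => ((ξ q * q⁻¹ : E) : E ⧸ Subgroup.center E)
      map_one' := by simp
      map_mul' := by
        intro a b
        rw [← QuotientGroup.mk_mul, QuotientGroup.eq]
        have h1 : (ξ (a * b) * (a * b)⁻¹)⁻¹ * (ξ a * a⁻¹ * (ξ b * b⁻¹)) = ⁅a, b * (ξ b)⁻¹⁆ := by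
          rw [map_mul]
          simp only [commutatorElement_def]
          group
        rw [h1]
        exact Transfer.Extraspecial.comm_mem_center h _ _ }
  have hN : ∀ q, N q = ((ξ q * q⁻¹ : E) : E ⧸ Subgroup.center E) := fun q => rfl
  set C := starOf ξ with hCdef
  have hker : N.ker = C := by
    ext q
    rw [MonoidHom.mem_ker, hN, QuotientGroup.eq_one_iff]
    rfl
  set W := Subgroup.centralizer (C : Set E) with hW
  have hrange : N.range ≤ W.map (QuotientGroup.mk' (Subgroup.center E)) := by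
    rintro _ ⟨q, rfl⟩
    refine ⟨ξ q * q⁻¹, ?_, rfl⟩
    rw [SetLike.mem_coe, hW, Subgroup.mem_centralizer_iff]
    intro c hc
    -- [ξ q, ξ c] = [q, c], and ξ c = c mod Z
    have hc' : ξ c * c⁻¹ ∈ Subgroup.center E := hc
    have h1 : ⁅ξ q, ξ c⁆ = ⁅q, c⁆ := by
      rw [← map_commutatorElement]
      exact hξ _ (Transfer.Extraspecial.comm_mem_center h q c)
    have h2 : ⁅ξ q, ξ c⁆ = ⁅ξ q, c⁆ := by
      have h3 : ξ c = (ξ c * c⁻¹) * c := by group
      rw [h3, ← commutatorElement_inv, comm_mul_left' h]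
      have h4 : ⁅ξ c * c⁻¹, ξ q⁆ = 1 := by
        rw [commutatorElement_eq_one_iff_mul_comm]
        exact (Subgroup.mem_center_iff.1 hc' (ξ q)).symm
      rw [h4, one_mul, commutatorElement_inv]
    have h5 : ⁅ξ q * q⁻¹, c⁆ = 1 := by
      rw [comm_mul_left' h, ← h2, h1, ← comm_mul_left' h, mul_inv_cancel, commutatorElement_one_left]
    exact (commutatorElement_eq_one_iff_mul_comm.1 h5).symm
  have hZW : Subgroup.center E ≤ W := Subgroup.center_le_centralizer _
  have hcardW : Nat.card W = Nat.card (W.map (QuotientGroup.mk' (Subgroup.center E))) * p := by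
    have h1 := Subgroup.card_mul_index ((QuotientGroup.mk' (Subgroup.center E)).subgroupMap W).ker
    have h2 : Nat.card ((QuotientGroup.mk' (Subgroup.center E)).subgroupMap W).ker = p := by
      have h3 : ((QuotientGroup.mk' (Subgroup.center E)).subgroupMap W).ker =
          (Subgroup.center E).subgroupOf W := by
        ext x
        rw [MonoidHom.mem_ker, Subgroup.mem_subgroupOf]
        constructor
        · intro hx
          have : ((x : E) : E ⧸ Subgroup.center E) = 1 := congrArg Subtype.val hx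
          exact (QuotientGroup.eq_one_iff _).1 this
        · intro hx
          exact Subtype.ext ((QuotientGroup.eq_one_iff _).2 hx)
      rw [h3, Nat.card_congr (Subgroup.subgroupOfEquivOfLe hZW).toEquiv, h.2]
    have h3 : ((QuotientGroup.mk' (Subgroup.center E)).subgroupMap W).ker.index =
        Nat.card (W.map (QuotientGroup.mk' (Subgroup.center E))) := by
      rw [Subgroup.index_ker, MonoidHom.range_eq_top.2 (MonoidHom.subgroupMap_surjective _ _),
        Subgroup.card_top]
    rw [h2, h3] at h1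
    rw [← h1, mul_comm]
  have hcardN : Nat.card N.range * Nat.card C = Nat.card E := by
    have h1 := N.ker.index_mul_card
    rwa [Subgroup.index_ker, hker] at h1
  have hle : Nat.card (W.map (QuotientGroup.mk' (Subgroup.center E))) ≤ Nat.card N.range := by
    have h1 := card_mul_card_centralizer_le h C
    rw [← hW, hcardW, ← hcardN] at h1
    have hCpos : 0 < Nat.card C := Nat.card_pos
    have h2 : (Nat.card C * p) * Nat.card (W.map (QuotientGroup.mk' (Subgroup.center E))) ≤
        (Nat.card C * p) * Nat.card N.range := by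
      calc _ = Nat.card C * (Nat.card (W.map (QuotientGroup.mk' (Subgroup.center E))) * p) := by ring
        _ ≤ p * (Nat.card N.range * Nat.card C) := h1
        _ = _ := by ring
    exact Nat.le_of_mul_le_mul_left h2 (Nat.mul_pos hCpos hp.out.pos)
  have heq := Subgroup.eq_of_le_of_card_ge hrange hle
  have hwW : w ∈ W := by
    rw [hW, Subgroup.mem_centralizer_iff]
    intro c hc
    exact hw c hc
  have h1 : ((w : E) : E ⧸ Subgroup.center E) ∈ N.range := by
    rw [heq]
    exact ⟨w, hwW, rfl⟩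
  obtain ⟨q, hq⟩ := h1
  rw [hN, QuotientGroup.eq] at hq
  exact ⟨q, _, hq, by group⟩

end abstract

end Cfsg.Agent.H764
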