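import Mathlib

/-!
# Presentations of the Sylow `p`-subgroups of `SL₄(p)`, `SU₄(p)` and `G₂(p)`, and the identification lemma

* `Rel4 p f11 f12 f22 x u1 u2 z y1 y2`: `⟨x, u1, u2, z⟩` is abelian, `⟨y1, y2⟩` is abelian, everything has exponent `p`,
  `y_i x y_i⁻¹ = x u_i`, `y_i u_j y_i⁻¹ = u_j z ^ f_ij`. For the hyperbolic form `f` it is satisfied in `SL₄(p)`,
  for an anisotropic form in `SU₄(p)`.
* `RelG p x y e k a z`: satisfied in `G₂(p)`, `p ≥ 5`.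
* `exists_equiv_sylow`: if `S` has order `p ^ 6` and its minimal normal subgroup contains `z`, and the same relations hold
  in `S` and in `G`, then `S` is isomorphic to a Sylow `p`-subgroup of `G`.
-/

set_option autoImplicit false

namespace Cfsg.Agent.H764

/-- Relations of the groups `p^4 : p^2` (`SL₄`, `SU₄`). -/
structure Rel4 {G : Type*} [Group G] (p : ℕ) (f11 f12 f22 : ℤ) (x u1 u2 z y1 y2 : G) : Prop where
  x_pow : x ^ p = 1
  u1_pow : u1 ^ p = 1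
  u2_pow : u2 ^ p = 1
  z_pow : z ^ p = 1
  y1_pow : y1 ^ p = 1
  y2_pow : y2 ^ p = 1
  xu1 : x * u1 = u1 * x
  xu2 : x * u2 = u2 * x
  xz : x * z = z * x
  u1u2 : u1 * u2 = u2 * u1
  u1z : u1 * z = z * u1
  u2z : u2 * z = z * u2
  y1z : y1 * z = z * y1
  y2z : y2 * z = z * y2
  y1y2 : y1 * y2 = y2 * y1
  y1x : y1 * x * y1⁻¹ = x * u1
  y2x : y2 * x * y2⁻¹ = x * u2
  y1u1 : y1 * u1 * y1⁻¹ = u1 * z ^ f11
  y1u2 : y1 * u2 * y1⁻¹ = u2 * z ^ f12
  y2u1 : y2 * u1 * y2⁻¹ = u1 * z ^ f12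
  y2u2 : y2 * u2 * y2⁻¹ = u2 * z ^ f22

/-- Relations of the Sylow `p`-subgroup of `G₂(p)`, `p ≥ 5`. -/
structure RelG {G : Type*} [Group G] (p : ℕ) (x y e k a z : G) : Prop where
  x_pow : x ^ p = 1
  y_pow : y ^ p = 1
  e_pow : e ^ p = 1
  k_pow : k ^ p = 1
  a_pow : a ^ p = 1
  z_pow : z ^ p = 1
  xy : x * y * x⁻¹ = e * y
  xe : x * e * x⁻¹ = k * e
  xk : x * k * x⁻¹ = a * k
  xa : x * a = a * x
  xz : x * z = z * x
  yz : y * z = z * y
  ez : e * z = z * e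
  kz : k * z = z * k
  az : a * z = z * a
  ye : y * e = e * y
  yk : y * k * y⁻¹ = z * k
  ya : y * a * y⁻¹ = z * a
  ek : e * k * e⁻¹ = z⁻¹ * k
  ea : e * a = a * e
  ka : k * a = a * k

end Cfsg.Agent.H764
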