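import Cfsg.Agent.H764.QForm

/-!
# S5177: counting in `Q`, first facts about `E` (helper764)
-/

set_option autoImplicit false
set_option linter.unusedSectionVars false

namespace Cfsg.Agent.H764

open Cfsg Cfsg.FusionSystem Cfsg.Agent.H802
open scoped commutatorElement

variable {Ω : Type*} [Group Ω] {S : Subgroup Ω} {p : ℕ} [hp : Fact p.Prime]

/-- In a finite `p`-group `C` a proper subgroup is properly contained in its normalizer. -/
theorem exists_mem_normalizer {C E : Subgroup Ω} [Finite C] (hC : IsPGroup p C) (hEC : E ≤ C)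
    (hne : E ≠ C) : ∃ g ∈ C, g ∈ Subgroup.normalizer (E : Set Ω) ∧ g ∉ E := by
  have h1 := card_lt_card_normalizerIn hC hEC hne
  have hfin : Finite (normalizerIn C E) := finite_of_le inf_le_left
  by_contra hcon
  push Not at hcon
  have h2 : normalizerIn C E ≤ E := fun g hg => hcon g hg.1 hg.2
  have hfinE : Finite E := finite_of_le hEC
  exact absurd (Nat.card_mono (Set.toFinite _) h2) (not_le.2 h1)

/-- A `p`-subgroup `K` of `X`, `Aut_S(E) ≤ X ≤ Aut_F(E)`, is conjugate into `Aut_S(E)` in `X`. -/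
theorem exists_conj_mem_of_le [Finite S] {F : FusionSystem S} {E : Subgroup Ω}
    (hS : IsPGroup p S) (hF : F.IsSaturated p) (hE : F.IsFullyNormalized E)
    {X K : Subgroup (MulAut E)} (hX : autInducedBy S E ≤ X) (hXF : X ≤ F.autGroup E) (hK : K ≤ X)
    (hKp : IsPGroup p K) : ∃ δ ∈ X, ∀ γ ∈ K, δ * γ * δ⁻¹ ∈ autInducedBy S E := by
  have hfinE : Finite E := finite_of_le hE.1
  have hfinA : Finite (MulAut E) := inferInstance
  obtain ⟨-, R, hR⟩ := isFullyAutomized_of_isFullyNormalized hS hF hE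
  let H : Subgroup (F.autGroup E) := X.subgroupOf (F.autGroup E)
  have hRH : (R : Subgroup (F.autGroup E)) ≤ H := by
    intro a ha
    rw [hR, Subgroup.mem_subgroupOf] at ha
    exact hX ha
  let R' : Sylow p H := R.subtype hRH
  have hKF : K ≤ F.autGroup E := hK.trans hXF
  have hKp' : IsPGroup p ((K.subgroupOf (F.autGroup E)).subgroupOf H) := by
    have h1 : IsPGroup p (K.subgroupOf (F.autGroup E)) :=
      hKp.comap_of_injective _ (Subgroup.subtype_injective _)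
    exact h1.comap_of_injective _ (Subgroup.subtype_injective _)
  obtain ⟨R'', hR''⟩ := hKp'.exists_le_sylow
  obtain ⟨b, hb⟩ := MulAction.exists_smul_eq H R'' R'
  refine ⟨((b : F.autGroup E) : MulAut E), b.2, fun γ hγ => ?_⟩
  have h2 : (⟨⟨γ, hKF hγ⟩, hK hγ⟩ : H) ∈ (K.subgroupOf (F.autGroup E)).subgroupOf H := hγ
  have h5 : (b * (⟨⟨γ, hKF hγ⟩, hK hγ⟩ : H) * b⁻¹ : H) ∈ (R' : Subgroup H) := by
    rw [← hb]
    exact Subgroup.smul_mem_pointwise_smul _ (MulAut.conj b) (R'' : Subgroup H) (hR'' h2)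
  have h6 : ((b : F.autGroup E) * ⟨γ, hKF hγ⟩ * (b : F.autGroup E)⁻¹) ∈
      (R : Subgroup (F.autGroup E)) := h5
  rw [hR, Subgroup.mem_subgroupOf] at h6
  exact h6

namespace Ext

variable {Q : Subgroup Ω}

/-- `|K| |C_Q(K)| ≤ p |Q|`. -/
theorem card_mul_le [Finite S] (h : Ext p S Q) {K : Subgroup Ω} (hK : K ≤ Q) :
    Nat.card K * Nat.card (Q ⊓ Subgroup.centralizer (K : Set Ω) : Subgroup Ω) ≤ p * Nat.card Q := by
  have hfin : Finite Q := finite_of_le h.le
  have h1 := card_mul_card_centralizer_le h.ex (K.subgroupOf Q)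
  rw [Nat.card_congr (Subgroup.subgroupOfEquivOfLe hK).toEquiv] at h1
  have h2 : Subgroup.centralizer ((K.subgroupOf Q : Subgroup Q) : Set Q) =
      (Q ⊓ Subgroup.centralizer (K : Set Ω)).subgroupOf Q := by
    ext q
    rw [Subgroup.mem_centralizer_iff, Subgroup.mem_subgroupOf, Subgroup.mem_inf,
      Subgroup.mem_centralizer_iff]
    constructor
    · intro hq
      exact ⟨q.2, fun k hk => congrArg Subtype.val (hq ⟨k, hK hk⟩ hk)⟩
    · rintro ⟨-, hq⟩ k hk
      exact Subtype.ext (hq k hk)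
  rw [h2, Nat.card_congr (Subgroup.subgroupOfEquivOfLe inf_le_left).toEquiv] at h1
  exact h1

/-- An abelian subgroup `K` of `Q` satisfies `|K|² ≤ p |Q|`. -/
theorem card_sq_le [Finite S] (h : Ext p S Q) {K : Subgroup Ω} (hK : K ≤ Q)
    (hc : ∀ a ∈ K, ∀ b ∈ K, a * b = b * a) : Nat.card K * Nat.card K ≤ p * Nat.card Q := by
  refine le_trans (Nat.mul_le_mul_left _ ?_) (h.card_mul_le hK)
  have hfin : Finite Q := finite_of_le h.le
  have hfin2 : Finite (Q ⊓ Subgroup.centralizer (K : Set Ω) : Subgroup Ω) :=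
    finite_of_le (S := Q) inf_le_left
  refine Nat.card_mono (Set.toFinite _) ?_
  intro k hk
  exact ⟨hK hk, Subgroup.mem_centralizer_iff.2 fun b hb => hc b hb k hk⟩

/-- The centralizer of an element of `Q` has index at most `p` in `Q`. -/
theorem card_le_centralizer [Finite S] (h : Ext p S Q) {a : Ω} (ha : a ∈ Q) :
    Nat.card Q ≤ p * Nat.card (Q ⊓ Subgroup.centralizer {a} : Subgroup Ω) := by
  have hfin : Finite Q := finite_of_le h.le
  let f : Q →* Subgroup.center Q :=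
    { toFun := fun e => ⟨⁅e, (⟨a, ha⟩ : Q)⁆, Transfer.Extraspecial.comm_mem_center h.ex e _⟩
      map_one' := by ext; simp
      map_mul' := by
        intro b c
        apply Subtype.ext
        exact comm_mul_left' h.ex b c _ }
  have h1 := f.ker.index_mul_card
  rw [Subgroup.index_ker] at h1
  have h2 : Nat.card f.range ≤ p := by
    have := Subgroup.card_le_card_group f.range
    rw [h.ex.2] at this
    exact this
  have h3 : f.ker = (Q ⊓ Subgroup.centralizer {a}).subgroupOf Q := by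
    ext q
    rw [MonoidHom.mem_ker, Subgroup.mem_subgroupOf, Subgroup.mem_inf, Subgroup.mem_centralizer_iff]
    constructor
    · intro hq
      refine ⟨q.2, fun b hb => ?_⟩
      rw [Set.mem_singleton_iff] at hb
      rw [hb]
      have h4 : ⁅q, (⟨a, ha⟩ : Q)⁆ = 1 := congrArg Subtype.val hq
      exact (congrArg Subtype.val (commutatorElement_eq_one_iff_mul_comm.1 h4)).symm
    · rintro ⟨-, hq⟩
      apply Subtype.ext
      show ⁅q, (⟨a, ha⟩ : Q)⁆ = 1
      rw [commutatorElement_eq_one_iff_mul_comm]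
      exact Subtype.ext (hq a rfl).symm
  rw [h3, Nat.card_congr (Subgroup.subgroupOfEquivOfLe inf_le_left).toEquiv] at h1
  rw [← h1]
  exact Nat.mul_le_mul_right _ h2

theorem pow_arith {p q k : ℕ} (hp : 1 < p) (h5 : p ^ 5 ≤ q) (h1 : q ≤ p * k) (h2 : k * k ≤ p * q) :
    False := by
  have h3 : k * k ≤ p * p * k := by
    calc k * k ≤ p * q := h2
      _ ≤ p * (p * k) := Nat.mul_le_mul_left _ h1
      _ = p * p * k := by ring
  have hk : 0 < k := by
    rcases Nat.eq_zero_or_pos k with h | h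
    · rw [h] at h1
      have : 0 < p ^ 5 := Nat.pow_pos (by omega)
      omega
    · exact h
  have h4 : k ≤ p * p := Nat.le_of_mul_le_mul_right h3 hk
  have h5' : p ^ 5 ≤ p ^ 3 := by
    calc p ^ 5 ≤ q := h5
      _ ≤ p * k := h1
      _ ≤ p * (p * p) := Nat.mul_le_mul_left _ h4
      _ = p ^ 3 := by ring
  exact absurd h5' (not_le.2 (Nat.pow_lt_pow_right hp (by norm_num)))

/-- The centralizer in `Q` of an element is not abelian. -/
theorem exists_noncomm_centralizer [Finite S] (h : Ext p S Q) (h5 : p ^ 5 ≤ Nat.card Q) {a : Ω}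
    (ha : a ∈ Q) : ∃ u ∈ Q, ∃ v ∈ Q, u * a = a * u ∧ v * a = a * v ∧ u * v ≠ v * u := by
  by_contra hcon
  push Not at hcon
  refine pow_arith hp.out.one_lt h5 (h.card_le_centralizer ha) (h.card_sq_le inf_le_left ?_)
  intro u hu v hv
  exact hcon u hu.1 v hv.1 (Subgroup.mem_centralizer_iff.1 hu.2 a rfl).symm
    (Subgroup.mem_centralizer_iff.1 hv.2 a rfl).symm

/-- **Duality** for the action of `x ∈ S` on `Q`. -/
theorem duality [Finite S] (h : Ext p S Q) {x w : Ω} (hx : x ∈ S) (hw : w ∈ Q)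
    (hc : ∀ q ∈ Q, x * q * x⁻¹ * q⁻¹ ∈ ZQ Q → q * w = w * q) :
    ∃ q ∈ Q, ∃ z ∈ ZQ Q, w = x * q * x⁻¹ * q⁻¹ * z := by
  have hfin : Finite Q := finite_of_le h.le
  have hn : x ∈ Subgroup.normalizer (Q : Set Ω) := by
    refine Subgroup.mem_normalizer_iff.2 fun q => ⟨fun hq => h.conj_mem hx hq, fun hq => ?_⟩
    have := h.conj_mem' hx hq
    have h2 : x⁻¹ * (x * q * x⁻¹) * x = q := by group
    rwa [h2] at this
  obtain ⟨ξ, hξ⟩ := exists_conjAut hn
  have hmem : ∀ q : Q, q ∈ Subgroup.center Q ↔ (q : Ω) ∈ ZQ Q := by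
    intro q
    rw [ZQ_eq_map]
    constructor
    · intro hq
      exact ⟨q, hq, rfl⟩
    · rintro ⟨r, hr, hrq⟩
      have : r = q := Subtype.ext hrq
      rwa [← this]
  obtain ⟨q, z, hz, hwe⟩ := exists_of_centralizes h.ex ξ (fun z hz => by
      apply Subtype.ext
      rw [hξ, h.Z_comm hx ((hmem z).1 hz)]
      group) (w := ⟨w, hw⟩) (fun q hq => by
      apply Subtype.ext
      apply hc q q.2
      have h1 := (hmem _).1 hq
      rw [Subgroup.coe_mul, hξ, Subgroup.coe_inv] at h1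
      exact h1)
  refine ⟨q, q.2, z, (hmem z).1 hz, ?_⟩
  have h1 := congrArg Subtype.val hwe
  rw [Subgroup.coe_mul, Subgroup.coe_mul, hξ, Subgroup.coe_inv] at h1
  exact h1

theorem card_S [Finite S] (h : Ext p S Q) : Nat.card S = p * Nat.card Q := by
  have h1 := (Q.subgroupOf S).index_mul_card
  rw [h.index, Nat.card_congr (Subgroup.subgroupOfEquivOfLe h.le).toEquiv] at h1
  exact h1.symm

/-- `S = Q⟨c⟩` for `c ∈ S \ Q`. -/
theorem exists_zpow [Finite S] (h : Ext p S Q) {c : Ω} (hc : c ∈ S) (hcQ : c ∉ Q) {s : Ω}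
    (hs : s ∈ S) : ∃ i : ℤ, s * c ^ i ∈ Q :=
  exists_mul_zpow_mem_of_index h.index (fun _ hg _ hq => h.conj_mem hg hq) h.le hc hcQ hs

end Ext

/-- The data: `E` is a fully normalized centric subgroup, all maps on larger subgroups preserve `Z(Q)`. -/
structure Dat (p : ℕ) {S : Subgroup Ω} (F : FusionSystem S) (Q E : Subgroup Ω) : Prop where
  /-- `Q` is extraspecial of index `p` in `S` -/
  ext : Ext p S Q
  /-- `|Q| ≥ p⁵` -/
  card_Q : p ^ 5 ≤ Nat.card Q
  /-- `F` is saturated -/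
  sat : F.IsSaturated p
  /-- the setup -/
  setup : Setup F (ZQ Q) E
  /-- the centre of `S` -/
  center : centralizerIn S S = ZQ Q

theorem Dat.exists_of [Finite S] {Q : Subgroup Ω} {F : FusionSystem S} (h : Ext p S Q)
    (h6 : p ^ 6 ≤ Nat.card S) (hF : F.IsSaturated p) (hO : F.core = ⊥) :
    ∃ E : Subgroup Ω, Dat p F Q E ∧ ∃ α ∈ F.autGroup E, ∃ z : E, (z : Ω) ∈ ZQ Q ∧
      ((α z : E) : Ω) ∉ ZQ Q := by
  obtain ⟨E, hE, hEc, hα, hbig⟩ := exists_moving h.pg hF h.Z_le_center (h.not_isNormal hO)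
  refine ⟨E, ⟨h, ?_, hF, ⟨h.Z_le_center, hE, hEc, hbig⟩, h.center_eq hF hO⟩, hα⟩
  rw [h.card_S] at h6
  have : p * p ^ 5 ≤ p * Nat.card Q := by
    calc p * p ^ 5 = p ^ 6 := by ring
      _ ≤ _ := h6
  exact Nat.le_of_mul_le_mul_left this hp.out.pos

namespace Dat

variable [Finite S] {F : FusionSystem S} {Q E : Subgroup Ω}

theorem pg (D : Dat p F Q E) : IsPGroup p S := D.ext.pg

theorem gen (D : Dat p F Q E) {z : E} (hz : (z : Ω) ∈ ZQ Q) (hz1 : z ≠ 1) {w : E}
    (hw : (w : Ω) ∈ ZQ Q) : ∃ i : ℤ, z ^ i = w := by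
  obtain ⟨i, hi⟩ := D.ext.Z_gen hz (fun h1 => hz1 (Subtype.ext h1)) hw
  exact ⟨i, Subtype.ext (by simpa using hi)⟩

theorem ne_one {β : MulAut E} {z : E} (hm : ((β z : E) : Ω) ∉ ZQ Q) : z ≠ 1 := by
  rintro rfl
  apply hm
  rw [map_one]
  exact (ZQ Q).one_mem

theorem central (D : Dat p F Q E) (β : MulAut E) {z : E} (hz : (z : Ω) ∈ ZQ Q) (e : E) :
    e * β z = β z * e := by
  have h1 : β⁻¹ e * z = z * β⁻¹ e :=
    Subtype.ext (D.setup.comm (D.setup.le_S (β⁻¹ e).2) hz)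
  have h2 := congrArg β h1
  rwa [map_mul, map_mul, MulAut.apply_inv_self] at h2

theorem not_fix {β : MulAut E} {z : E} (hz : (z : Ω) ∈ ZQ Q) (hm : ((β z : E) : Ω) ∉ ZQ Q) :
    ¬ Fix (ZQ Q) β := fun h => hm (h z hz)

/-- Semiregularity. -/
theorem sr (D : Dat p F Q E) {β : MulAut E} (hβ : β ∈ F.autGroup E) {z : E}
    (hz : (z : Ω) ∈ ZQ Q) (hm : ((β z : E) : Ω) ∉ ZQ Q) {g : Ω} (hg : g ∈ normalizerIn S E) {i : ℤ}
    (hgi : g * (β z : E) * g⁻¹ = ((β z : E) : Ω) ^ i) : g ∈ E := by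
  refine D.setup.mem_of_fixes D.pg D.sat hβ (not_fix hz hm) hg ?_
  intro y hy hx
  obtain ⟨j, rfl⟩ := D.gen hz (ne_one hm) hy
  have h1 : g * ((β (z ^ j) : E) : Ω) * g⁻¹ = ((β (z ^ (i * j)) : E) : Ω) := by
    rw [map_zpow, map_zpow, Subgroup.coe_zpow, Subgroup.coe_zpow, zpow_mul, ← hgi]
    rw [conj_zpow]
  have h2 : (⟨g * ((β (z ^ j) : E) : Ω) * g⁻¹, hx⟩ : E) = β (z ^ (i * j)) := Subtype.ext h1
  rw [h2, MulAut.inv_apply_self, Subgroup.coe_zpow]
  exact (ZQ Q).zpow_mem hz _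

/-- `C_S(β z) ≤ E` for a moved image `β z`. -/
theorem mem_of_comm (D : Dat p F Q E) {β : MulAut E} (hβ : β ∈ F.autGroup E) {z : E}
    (hz : (z : Ω) ∈ ZQ Q) (hm : ((β z : E) : Ω) ∉ ZQ Q) {g : Ω} (hg : g ∈ S)
    (hc : g * (β z : E) = (β z : E) * g) : g ∈ E := by
  set C : Subgroup Ω := S ⊓ Subgroup.centralizer {((β z : E) : Ω)} with hC
  have hfin : Finite C := finite_of_le inf_le_left
  have hEC : E ≤ C := by
    intro e he
    refine ⟨D.setup.le_S he, Subgroup.mem_centralizer_iff.2 fun b hb => ?_⟩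
    rw [Set.mem_singleton_iff] at hb
    rw [hb]
    exact (congrArg Subtype.val (D.central β hz ⟨e, he⟩)).symm
  by_contra hgE
  have hne : E ≠ C := by
    intro heq
    apply hgE
    rw [heq]
    refine ⟨hg, Subgroup.mem_centralizer_iff.2 fun b hb => ?_⟩
    rw [Set.mem_singleton_iff] at hb
    rw [hb]
    exact hc.symm
  obtain ⟨k, hk, hkn, hkE⟩ := exists_mem_normalizer (D.pg.to_le inf_le_left) hEC hne
  apply hkE
  refine D.sr hβ hz hm ⟨hk.1, hkn⟩ (i := 1) ?_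
  have h1 := Subgroup.mem_centralizer_iff.1 hk.2 _ rfl
  rw [zpow_one, ← h1]
  group

/-- `E` does not lie in `Q`. -/
theorem not_le (D : Dat p F Q E) {β : MulAut E} (hβ : β ∈ F.autGroup E) {z : E}
    (hz : (z : Ω) ∈ ZQ Q) (hm : ((β z : E) : Ω) ∉ ZQ Q) : ¬ E ≤ Q := by
  intro hEQ
  obtain ⟨u, hu, v, hv, hua, hva, huv⟩ := D.ext.exists_noncomm_centralizer D.card_Q (hEQ (β z).2)
  have huE := D.mem_of_comm hβ hz hm (D.ext.le hu) hua
  have hvE := D.mem_of_comm hβ hz hm (D.ext.le hv) hva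
  have h1 : ((⁅(⟨u, huE⟩ : E), (⟨v, hvE⟩ : E)⁆ : E) : Ω) ∈ ZQ Q := D.ext.comm_mem hu hv
  have h2 : ⁅(⟨u, huE⟩ : E), (⟨v, hvE⟩ : E)⁆ ≠ 1 := by
    intro h3
    rw [commutatorElement_eq_one_iff_mul_comm] at h3
    exact huv (congrArg Subtype.val h3)
  obtain ⟨i, hi⟩ := D.gen h1 h2 hz
  apply hm
  rw [← hi, map_zpow, map_commutatorElement, Subgroup.coe_zpow]
  exact (ZQ Q).zpow_mem (D.ext.comm_mem (hEQ (β _).2) (hEQ (β _).2)) _

end Dat

end Cfsg.Agent.H764
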